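import Mathlib

set_option autoImplicit false

namespace Cfsg.Agent.Lib.Helper50.CoprimeNorm

section Core

variable {W : Type*} [CommGroup W]

/-- The norm of `w` under the cyclic group generated by an automorphism of order dividing `p`. -/
noncomputable def nrm (p : ℕ) [NeZero p] (γ : MulAut W) (w : W) : W := ∏ t : ZMod p, (γ ^ t.val) w

theorem pow_val {M : Type*} [Monoid M] (p : ℕ) [NeZero p] (γ : M) (hγ : γ ^ p = 1) (n : ℕ) :
    γ ^ ((n : ZMod p)).val = γ ^ n := by
  rw [ZMod.val_natCast, ← pow_eq_pow_mod n hγ]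

theorem nrm_fixed (p : ℕ) [NeZero p] (γ : MulAut W) (hγ : γ ^ p = 1) (w : W) :
    γ (nrm p γ w) = nrm p γ w := by
  unfold nrm
  rw [map_prod]
  have key : ∀ t : ZMod p, γ ((γ ^ t.val) w) = (γ ^ (t + 1).val) w := by
    intro t
    have h1 : γ ((γ ^ t.val) w) = (γ ^ (t.val + 1)) w := by rw [pow_succ']; rfl
    have h2 : t + 1 = ((t.val + 1 : ℕ) : ZMod p) := by
      rw [Nat.cast_add, Nat.cast_one, ZMod.natCast_zmod_val]
    rw [h1, h2, pow_val p γ hγ]
  simp_rw [key]
  exact Equiv.prod_comp (Equiv.addRight (1 : ZMod p)) (fun t => (γ ^ t.val) w)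

theorem pow_mem_of_invariant (γ : MulAut W) (F : Subgroup W) (hF : ∀ w ∈ F, γ w ∈ F) (k : ℕ) :
    ∀ w ∈ F, (γ ^ k) w ∈ F := by
  induction k with
  | zero => intro w hw; simpa using hw
  | succ k ih =>
    intro w hw
    rw [pow_succ']
    exact hF _ (ih w hw)

theorem nrm_mem (p : ℕ) [NeZero p] (γ : MulAut W) (F : Subgroup W) (hF : ∀ w ∈ F, γ w ∈ F)
    (w : W) (hw : w ∈ F) : nrm p γ w ∈ F :=
  Subgroup.prod_mem F (fun t _ => pow_mem_of_invariant γ F hF t.val w hw)

/-- Core norm argument: two commuting automorphisms `α`, `β` of order dividing `p` of an abelian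
`p'`-group, such that `α` and all `α ^ i * β` are fixed-point-free on the invariant subgroup `F`,
force `F` to be trivial. -/
theorem core (p : ℕ) [Fact p.Prime] [Finite W] (hW : (Nat.card W).Coprime p) (α β : MulAut W)
    (hαβ : α * β = β * α) (hα : α ^ p = 1) (hβ : β ^ p = 1) (F : Subgroup W)
    (hFα : ∀ w ∈ F, α w ∈ F) (hFβ : ∀ w ∈ F, β w ∈ F)
    (h1 : ∀ w ∈ F, α w = w → w = 1) (h2 : ∀ i : ℕ, ∀ w ∈ F, (α ^ i * β) w = w → w = 1) :
    ∀ w ∈ F, w = 1 := by
  intro w hw
  have hcomm : Commute α β := hαβ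
  have hγ : ∀ i : ℕ, (α ^ i * β) ^ p = 1 := by
    intro i
    rw [(hcomm.pow_left i).mul_pow, ← pow_mul, mul_comm i p, pow_mul, hα, one_pow, hβ, one_mul]
  have hFγ : ∀ i : ℕ, ∀ w ∈ F, (α ^ i * β) w ∈ F := by
    intro i w hw
    exact pow_mem_of_invariant α F hFα i _ (hFβ w hw)
  have hN1 : ∀ w ∈ F, nrm p α w = 1 := fun w hw =>
    h1 _ (nrm_mem p α F hFα w hw) (nrm_fixed p α hα w)
  have hN2 : ∀ i : ℕ, ∀ w ∈ F, nrm p (α ^ i * β) w = 1 := fun i w hw =>
    h2 i _ (nrm_mem p _ F (hFγ i) w hw) (nrm_fixed p _ (hγ i) w)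
  have hprod : ∏ i : ZMod p, nrm p (α ^ i.val * β) w = w ^ p := by
    unfold nrm
    rw [Finset.prod_comm]
    rw [Finset.prod_eq_single (0 : ZMod p)]
    · simp [ZMod.card]
    · intro t _ ht
      have key : ∀ i : ZMod p,
          ((α ^ i.val * β) ^ t.val) w = (α ^ (i * t).val) ((β ^ t.val) w) := by
        intro i
        have h3 : i * t = ((i.val * t.val : ℕ) : ZMod p) := by
          rw [Nat.cast_mul, ZMod.natCast_zmod_val, ZMod.natCast_zmod_val]
        rw [(hcomm.pow_left i.val).mul_pow, ← pow_mul, h3, pow_val p α hα]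
        rfl
      simp_rw [key]
      exact (Equiv.prod_comp (Equiv.mulRight₀ t ht)
        (fun j => (α ^ j.val) ((β ^ t.val) w))).trans
        (hN1 _ (pow_mem_of_invariant β F hFβ t.val w hw))
    · intro h; exact absurd (Finset.mem_univ _) h
  have h3 : w ^ p = 1 := by
    rw [← hprod]
    exact Finset.prod_eq_one (fun i _ => hN2 i.val w hw)
  have h4 : orderOf w ∣ p := orderOf_dvd_of_pow_eq_one h3
  have h5 : orderOf w ∣ Nat.card W := orderOf_dvd_natCard w
  have h6 : orderOf w ∣ 1 := by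
    rw [← Nat.Coprime.gcd_eq_one hW]; exact Nat.dvd_gcd h5 h4
  exact orderOf_eq_one_iff.mp (Nat.dvd_one.mp h6)

end Core

section Fix

variable {E W : Type*} [Group E] [CommGroup W]

/-- Fixed points in `W` of a subgroup `B` of the acting group. -/
def fixSub (ρ : E →* MulAut W) (B : Subgroup E) : Subgroup W where
  carrier := {w | ∀ e ∈ B, ρ e w = w}
  one_mem' := fun e _ => map_one _
  mul_mem' := fun {a b} ha hb e he => by rw [map_mul, ha e he, hb e he]
  inv_mem' := fun {a} ha e he => by rw [map_inv, ha e he]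

theorem mem_fixSub (ρ : E →* MulAut W) (B : Subgroup E) (w : W) :
    w ∈ fixSub ρ B ↔ ∀ e ∈ B, ρ e w = w := Iff.rfl

/-- Stabilizer of a point. -/
def stab (ρ : E →* MulAut W) (w : W) : Subgroup E where
  carrier := {e | ρ e w = w}
  one_mem' := by simp
  mul_mem' := fun {a b} ha hb => by
    have ha' : ρ a w = w := ha
    have hb' : ρ b w = w := hb
    show ρ (a * b) w = w
    rw [map_mul, MulAut.mul_apply, hb', ha']
  inv_mem' := fun {a} ha => by
    have ha' : ρ a w = w := ha
    show ρ a⁻¹ w = w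
    rw [map_inv]
    calc (ρ a)⁻¹ w = (ρ a)⁻¹ (ρ a w) := by rw [ha']
      _ = w := MulAut.inv_apply_self _ _ _

theorem mem_stab (ρ : E →* MulAut W) (w : W) (e : E) : e ∈ stab ρ w ↔ ρ e w = w := Iff.rfl

/-- An elementary abelian `p`-group `E` acting on an abelian `p'`-group `W` such that every
maximal subgroup of `E` has only trivial fixed points: then every proper subgroup of `E` has only
trivial fixed points. -/
theorem fix_trivial [Finite E] [Finite W] (p : ℕ) [Fact p.Prime]
    (hE : ∀ a b : E, a * b = b * a) (hEp : ∀ e : E, e ^ p = 1)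
    (hW : (Nat.card W).Coprime p) (ρ : E →* MulAut W)
    (hyp : ∀ B : Subgroup E, IsCoatom B → ∀ w ∈ fixSub ρ B, w = 1) :
    ∀ B : Subgroup E, B ≠ ⊤ → ∀ w ∈ fixSub ρ B, w = 1 := by
  intro B
  induction B using WellFoundedGT.induction with
  | ind B ih =>
    intro hBtop
    by_cases hco : IsCoatom B
    · exact hyp B hco
    · have hex : ∃ B₁, B < B₁ ∧ B₁ ≠ ⊤ := by
        by_contra hcon
        apply hco
        refine ⟨hBtop, fun b hb => ?_⟩
        by_contra hb'
        exact hcon ⟨b, hb, hb'⟩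
      obtain ⟨B₁, hBB₁, hB₁top⟩ := hex
      obtain ⟨a, haB₁, haB⟩ := SetLike.exists_of_lt hBB₁
      obtain ⟨b, -, hbB₁⟩ := SetLike.exists_of_lt (lt_top_iff_ne_top.mpr hB₁top)
      have hBn : B.Normal := ⟨fun n hn g => by rw [hE g n, mul_inv_cancel_right]; exact hn⟩
      have hidx : ∀ x : E, B ⊔ Subgroup.zpowers x ≠ ⊤ := by
        intro x hx
        have h1 : B.relIndex (Subgroup.zpowers x ⊔ B) = B.relIndex (Subgroup.zpowers x) :=
          Subgroup.relIndex_sup_right _ _
        rw [sup_comm, hx, Subgroup.relIndex_top_right] at h1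
        have h2 : B.index ∣ p := by
          rw [h1]
          refine (Subgroup.relIndex_dvd_card _ _).trans ?_
          rw [Nat.card_zpowers]
          exact orderOf_dvd_of_pow_eq_one (hEp x)
        have h3 : B.relIndex B₁ * B₁.index = B.index := Subgroup.relIndex_mul_index hBB₁.le
        have h4 : B.relIndex B₁ ≠ 1 :=
          fun h => (not_le_of_gt hBB₁) (Subgroup.relIndex_eq_one.mp h)
        have h5 : B₁.index ≠ 1 := fun h => hB₁top (Subgroup.index_eq_one.mp h)
        have hp : p.Prime := Fact.out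
        rcases (Nat.dvd_prime hp).mp h2 with h6 | h6
        · exact hBtop (Subgroup.index_eq_one.mp h6)
        · rw [h6] at h3
          rw [← h3] at hp
          rcases Nat.prime_mul_iff.mp hp with ⟨_, h7⟩ | ⟨_, h7⟩
          · exact h5 h7
          · exact h4 h7
      have hfix : ∀ x : E, x ∉ B → ∀ w ∈ fixSub ρ B, ρ x w = w → w = 1 := by
        intro x hxB w hw hxw
        apply ih (B ⊔ Subgroup.zpowers x) _ (hidx x) w
        · intro e he
          have hle : B ⊔ Subgroup.zpowers x ≤ stab ρ w :=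
            sup_le (fun e he => hw e he) (by rw [Subgroup.zpowers_le]; exact hxw)
          exact hle he
        · refine lt_of_le_of_ne le_sup_left (fun h => hxB ?_)
          rw [h]; exact (le_sup_right : Subgroup.zpowers x ≤ _) (Subgroup.mem_zpowers x)
      have hinv : ∀ x : E, ∀ w ∈ fixSub ρ B, ρ x w ∈ fixSub ρ B := by
        intro x w hw e he
        have h1 : ρ e (ρ x w) = ρ x (ρ e w) := by
          rw [← MulAut.mul_apply, ← MulAut.mul_apply, ← map_mul, ← map_mul, hE e x]
        rw [h1, hw e he]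
      refine core p hW (ρ a) (ρ b) ?_ ?_ ?_ (fixSub ρ B) (hinv a) (hinv b) ?_ ?_
      · rw [← map_mul, ← map_mul, hE a b]
      · rw [← map_pow, hEp, map_one]
      · rw [← map_pow, hEp, map_one]
      · exact hfix a haB
      · intro i w hw hiw
        have h1 : ρ a ^ i * ρ b = ρ (a ^ i * b) := by rw [map_mul, map_pow]
        rw [h1] at hiw
        refine hfix (a ^ i * b) ?_ w hw hiw
        intro hmem
        apply hbB₁
        have h2 : a ^ i * b ∈ B₁ := hBB₁.le hmem
        have h3 : (a ^ i)⁻¹ * (a ^ i * b) ∈ B₁ := mul_mem (inv_mem (pow_mem haB₁ i)) h2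
        simpa using h3

/-- A nontrivial elementary abelian `p`-group acting on an abelian `p'`-group `W` such that every
maximal subgroup has only trivial fixed points: then `W` is trivial. -/
theorem trivial_of_coatoms [Finite E] [Finite W] (p : ℕ) [Fact p.Prime]
    (hE : ∀ a b : E, a * b = b * a) (hEp : ∀ e : E, e ^ p = 1)
    (hW : (Nat.card W).Coprime p) (ρ : E →* MulAut W)
    (hyp : ∀ B : Subgroup E, IsCoatom B → ∀ w : W, (∀ e ∈ B, ρ e w = w) → w = 1)
    (hne : (⊥ : Subgroup E) ≠ ⊤) : ∀ w : W, w = 1 := by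
  intro w
  refine fix_trivial p hE hEp hW ρ hyp ⊥ hne w ?_
  intro e he
  rw [Subgroup.mem_bot] at he
  subst he
  simp

end Fix

end Cfsg.Agent.Lib.Helper50.CoprimeNorm
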