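import Mathlib
import Cfsg.Agent.Lib.Helper50.CoprimeNorm
import Cfsg.Agent.Lib.Helper50.Transfer

set_option autoImplicit false

namespace Cfsg.Agent.Lib.Helper50.CoprimeConj

open Cfsg.Agent.Lib.Helper50

variable {G : Type*} [Group G]

/-- An element of a `p`-subgroup lying in a subgroup of order prime to `p` is trivial. -/
theorem eq_one_of_mem_of_mem {p : ℕ} (R Q : Subgroup G) [Finite R] (hR : (Nat.card R).Coprime p)
    (hQ : IsPGroup p Q) (a : G) (haR : a ∈ R) (haQ : a ∈ Q) : a = 1 := by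
  obtain ⟨k, hk⟩ := hQ ⟨a, haQ⟩
  have hk' : a ^ p ^ k = 1 := by
    have := congrArg Subtype.val hk
    simpa using this
  have h1 : orderOf a ∣ p ^ k := orderOf_dvd_of_pow_eq_one hk'
  have h2 : orderOf a ∣ Nat.card R := Subgroup.orderOf_dvd_natCard R haR
  have h3 : orderOf a ∣ 1 := by
    rw [← Nat.Coprime.gcd_eq_one (Nat.Coprime.pow_right k hR)]
    exact Nat.dvd_gcd h2 h1
  exact orderOf_eq_one_iff.mp (Nat.dvd_one.mp h3)

/-- Conjugation by an element normalizing `W`, as an automorphism of `W`. -/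
def conjAut (W : Subgroup G) (x : G) (hx : x ∈ Subgroup.normalizer (W : Set G)) : MulAut ↥W where
  toFun := fun w => ⟨x * w * x⁻¹, (Subgroup.mem_normalizer_iff.mp hx w).mp w.2⟩
  invFun := fun w => ⟨x⁻¹ * w * x, by
    have h := (Subgroup.mem_normalizer_iff.mp (inv_mem hx) w).mp w.2
    simpa using h⟩
  left_inv := fun w => Subtype.ext (by simp [mul_assoc])
  right_inv := fun w => Subtype.ext (by simp [mul_assoc])
  map_mul' := fun a b => Subtype.ext (by simp [mul_assoc])

theorem conjAut_apply (W : Subgroup G) (x : G) (hx : x ∈ Subgroup.normalizer (W : Set G))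
    (w : ↥W) : ((conjAut W x hx w : ↥W) : G) = x * w * x⁻¹ := rfl

/-- The conjugation action of a subgroup `U` normalizing `W`. -/
def conjHom (U W : Subgroup G) (hUW : U ≤ Subgroup.normalizer (W : Set G)) : ↥U →* MulAut ↥W :=
  MonoidHom.mk' (fun u => conjAut W u (hUW u.2)) (by
    intro a b
    apply MulEquiv.ext
    intro w
    apply Subtype.ext
    simp [conjAut_apply, mul_assoc])

theorem conjHom_apply (U W : Subgroup G) (hUW : U ≤ Subgroup.normalizer (W : Set G)) (u : ↥U)
    (w : ↥W) : ((conjHom U W hUW u w : ↥W) : G) = u * w * (u : G)⁻¹ := rfl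

/-- An elementary abelian `p`-subgroup `U ≠ 1` normalizing an abelian `p'`-subgroup `W`, such
that `C_W(U₀) = 1` for every maximal subgroup `U₀` of `U`: then `W = 1`. -/
theorem abelian_case [Finite G] (p : ℕ) [Fact p.Prime] (U W : Subgroup G)
    (hUc : ∀ a ∈ U, ∀ b ∈ U, a * b = b * a) (hUp : ∀ a ∈ U, a ^ p = 1) (hUne : U ≠ ⊥)
    (hWc : ∀ a ∈ W, ∀ b ∈ W, a * b = b * a) (hW : (Nat.card W).Coprime p)
    (hUW : U ≤ Subgroup.normalizer (W : Set G))
    (hyp : ∀ U₀ : Subgroup G, U₀ ≤ U → IsCoatom (U₀.subgroupOf U) →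
      W ⊓ Subgroup.centralizer (U₀ : Set G) = ⊥) : W = ⊥ := by
  let inst : CommGroup ↥W :=
    { (inferInstance : Group ↥W) with mul_comm := fun a b => Subtype.ext (hWc a a.2 b b.2) }
  have key := @CoprimeNorm.trivial_of_coatoms ↥U ↥W _ inst _ _ p _
    (fun a b => Subtype.ext (hUc a a.2 b b.2))
    (fun e => Subtype.ext (by simpa using hUp e e.2)) hW (conjHom U W hUW)
    (by
      intro B hB w hw
      have hco : IsCoatom ((B.map U.subtype).subgroupOf U) := by
        have : (B.map U.subtype).subgroupOf U = B :=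
          Subgroup.comap_map_eq_self_of_injective Subtype.coe_injective B
        rw [this]; exact hB
      have hbot := hyp (B.map U.subtype) (Subgroup.map_subtype_le B) hco
      have hmem : (w : G) ∈ W ⊓ Subgroup.centralizer ((B.map U.subtype : Subgroup G) : Set G) := by
        refine Subgroup.mem_inf.mpr ⟨w.2, ?_⟩
        rw [Subgroup.mem_centralizer_iff]
        rintro _ ⟨e, he, rfl⟩
        have h1 := congrArg Subtype.val (hw e he)
        rw [conjHom_apply] at h1
        have h2 : (U.subtype e : G) * w = (U.subtype e * w * (U.subtype e)⁻¹) * U.subtype e := by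
          group
        rw [h2]
        exact congrArg (· * (U.subtype e : G)) h1
      rw [hbot, Subgroup.mem_bot] at hmem
      exact Subtype.ext hmem)
    (by
      intro h
      apply hUne
      rw [eq_bot_iff]
      intro x hx
      have h1 : (⟨x, hx⟩ : ↥U) ∈ (⊤ : Subgroup ↥U) := Subgroup.mem_top _
      rw [← h, Subgroup.mem_bot] at h1
      rw [Subgroup.mem_bot]
      exact congrArg Subtype.val h1)
  rw [eq_bot_iff]
  intro x hx
  rw [Subgroup.mem_bot]
  exact congrArg Subtype.val (key ⟨x, hx⟩)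

open scoped Pointwise in
/-- A `p`-subgroup `U` normalizing a nontrivial `p'`-subgroup `R` normalizes a nontrivial Sylow
subgroup of `R`. -/
theorem exists_invariant_sylow [Finite G] (p : ℕ) [Fact p.Prime] (U R : Subgroup G)
    (hUp : IsPGroup p ↥U) (hR : (Nat.card ↥R).Coprime p)
    (hUR : U ≤ Subgroup.normalizer (R : Set G)) (hRne : R ≠ ⊥) :
    ∃ (q : ℕ) (S : Subgroup G), q.Prime ∧ S ≤ R ∧ IsPGroup q ↥S ∧ S ≠ ⊥ ∧
      U ≤ Subgroup.normalizer (S : Set G) := by
  have hcard : Nat.card ↥R ≠ 1 := by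
    intro h
    exact hRne ((Subgroup.card_eq_one).mp h)
  obtain ⟨q, hq, hqR⟩ := Nat.exists_prime_and_dvd hcard
  have _hq : Fact q.Prime := ⟨hq⟩
  let act : MulDistribMulAction ↥U ↥R :=
    { smul := fun u r => ⟨u * r * (u : G)⁻¹, (Subgroup.mem_normalizer_iff.mp (hUR u.2) r).mp r.2⟩
      one_smul := fun r => Subtype.ext (by
        show ((1 : ↥U) : G) * r * ((1 : ↥U) : G)⁻¹ = r
        simp)
      mul_smul := fun a b r => Subtype.ext (by
        show ((a * b : ↥U) : G) * r * ((a * b : ↥U) : G)⁻¹ = a * (b * r * (b : G)⁻¹) * (a : G)⁻¹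
        simp [mul_assoc])
      smul_mul := fun a r s => Subtype.ext (by
        show (a : G) * ((r * s : ↥R) : G) * (a : G)⁻¹ =
          (a * r * (a : G)⁻¹) * (a * s * (a : G)⁻¹)
        simp [mul_assoc])
      smul_one := fun a => Subtype.ext (by
        show (a : G) * ((1 : ↥R) : G) * (a : G)⁻¹ = ((1 : ↥R) : G)
        simp) }
  have hnd : ¬ p ∣ Nat.card (Sylow q ↥R) := by
    intro hdvd
    obtain ⟨P⟩ : Nonempty (Sylow q ↥R) := inferInstance
    have h1 : p ∣ Nat.card ↥R :=
      hdvd.trans ((Sylow.card_dvd_index P).trans (Subgroup.index_dvd_card _))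
    have hp : p.Prime := Fact.out
    exact (hp.coprime_iff_not_dvd.mp hR.symm) h1
  obtain ⟨S, hS⟩ := hUp.nonempty_fixed_point_of_prime_not_dvd_card (Sylow q ↥R) hnd
  rw [MulAction.mem_fixedPoints] at hS
  refine ⟨q, (S : Subgroup ↥R).map R.subtype, hq, Subgroup.map_subtype_le _, S.isPGroup'.map _,
    ?_, ?_⟩
  · rw [Ne, Subgroup.map_eq_bot_iff_of_injective _ Subtype.coe_injective]
    exact S.ne_bot_of_dvd_card hqR
  · intro u hu
    apply Transfer.mem_normalizer_of_conj_mem
    rintro _ ⟨s, hs, rfl⟩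
    have h1 : (⟨u, hu⟩ : ↥U) • s ∈ (⟨u, hu⟩ : ↥U) • (S : Subgroup ↥R) :=
      Subgroup.smul_mem_pointwise_smul s _ _ hs
    rw [← Sylow.pointwise_smul_def, hS ⟨u, hu⟩] at h1
    exact ⟨(⟨u, hu⟩ : ↥U) • s, h1, rfl⟩

/-- The centre of a nontrivial `q`-subgroup, as a subgroup of the ambient group, is nontrivial. -/
theorem inf_centralizer_ne_bot [Finite G] (q : ℕ) [Fact q.Prime] (S : Subgroup G)
    (hS : IsPGroup q ↥S) (hne : S ≠ ⊥) : S ⊓ Subgroup.centralizer (S : Set G) ≠ ⊥ := by
  have _hnt : Nontrivial ↥S := (Subgroup.nontrivial_iff_ne_bot S).mpr hne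
  have hc : Nontrivial (Subgroup.center ↥S) := hS.center_nontrivial
  obtain ⟨z, hz⟩ := exists_ne (1 : Subgroup.center ↥S)
  intro hbot
  have hmem : ((z : ↥S) : G) ∈ S ⊓ Subgroup.centralizer (S : Set G) := by
    refine Subgroup.mem_inf.mpr ⟨(z : ↥S).2, ?_⟩
    rw [Subgroup.mem_centralizer_iff]
    intro h hh
    have h1 := (Subgroup.mem_center_iff.mp z.2) ⟨h, hh⟩
    exact congrArg Subtype.val h1
  rw [hbot, Subgroup.mem_bot] at hmem
  apply hz
  apply Subtype.ext
  apply Subtype.ext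
  exact hmem

/-- An elementary abelian `p`-subgroup `U ≠ 1` normalizing a `p'`-subgroup `R`, such that
`C_R(U₀) = 1` for every maximal subgroup `U₀` of `U`: then `R = 1`. -/
theorem coprime_hyperplanes [Finite G] (p : ℕ) [Fact p.Prime] (U R : Subgroup G)
    (hUc : ∀ a ∈ U, ∀ b ∈ U, a * b = b * a) (hUp : ∀ a ∈ U, a ^ p = 1) (hUne : U ≠ ⊥)
    (hR : (Nat.card ↥R).Coprime p) (hUR : U ≤ Subgroup.normalizer (R : Set G))
    (hyp : ∀ U₀ : Subgroup G, U₀ ≤ U → IsCoatom (U₀.subgroupOf U) →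
      R ⊓ Subgroup.centralizer (U₀ : Set G) = ⊥) : R = ⊥ := by
  by_contra hRne
  have hUpg : IsPGroup p ↥U := by
    intro u
    refine ⟨1, ?_⟩
    apply Subtype.ext
    simpa using hUp u u.2
  obtain ⟨q, S, hq, hSR, hSq, hSne, hUS⟩ := exists_invariant_sylow p U R hUpg hR hUR hRne
  have _hq : Fact q.Prime := ⟨hq⟩
  have hWne := inf_centralizer_ne_bot q S hSq hSne
  apply hWne
  have hWR : S ⊓ Subgroup.centralizer (S : Set G) ≤ R := inf_le_left.trans hSR
  apply abelian_case p U (S ⊓ Subgroup.centralizer (S : Set G)) hUc hUp hUne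
  · intro a ha b hb
    exact (Subgroup.mem_centralizer_iff.mp ha.2 b hb.1).symm
  · exact Nat.Coprime.coprime_dvd_left (Subgroup.card_dvd_of_le hWR) hR
  · intro u hu
    have hu' := hUS hu
    apply Transfer.mem_normalizer_of_conj_mem
    intro w hw
    have hw1 : u * w * u⁻¹ ∈ S := (Subgroup.mem_normalizer_iff.mp hu' w).mp hw.1
    refine Subgroup.mem_inf.mpr ⟨hw1, ?_⟩
    rw [Subgroup.mem_centralizer_iff]
    intro s hs
    have hs' : u⁻¹ * s * u ∈ S := by
      have h := (Subgroup.mem_normalizer_iff.mp (inv_mem hu') s).mp hs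
      simpa using h
    have h2 := Subgroup.mem_centralizer_iff.mp hw.2 (u⁻¹ * s * u) hs'
    calc s * (u * w * u⁻¹) = u * ((u⁻¹ * s * u) * w) * u⁻¹ := by group
      _ = u * (w * (u⁻¹ * s * u)) * u⁻¹ := by rw [h2]
      _ = u * w * u⁻¹ * s := by group
  · intro U₀ hU₀ hco
    rw [eq_bot_iff, ← hyp U₀ hU₀ hco]
    exact inf_le_inf_right _ hWR

end Cfsg.Agent.Lib.Helper50.CoprimeConj
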