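import Mathlib
import Cfsg.Agent.Lib.Helper50.Transfer
import Cfsg.Agent.Lib.Helper50.CoprimeConj
import Cfsg.Agent.Lib.Helper54.OmegaTwo
import Cfsg.Agent.Lib.Helper99.SylAct2

set_option autoImplicit false

/-!
# Coprime automorphisms of `p`-groups normalizing all subgroups of a fixed order

Main result `centralizes_of_normalizes_fixed_order`: an element `c` of prime power order prime to
`p (p - 1)` which normalizes a `p`-subgroup `R` with `p ^ d < |R|`, and every subgroup of `R` of
order `p ^ d` (and of order `4` when `p ^ d = 2`), centralizes `R`.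
-/

namespace Cfsg.Agent.Lib.Helper50.PAct

open Cfsg.Agent.Lib.Helper50
open scoped commutatorElement

variable {G : Type*} [Group G]

/-- Normalizer growth inside a `p`-subgroup. -/
theorem exists_mem_normalizer_not_mem [Finite G] {p : ℕ} [Fact p.Prime] (R S : Subgroup G)
    (hR : IsPGroup p R) (hSR : S ≤ R) (hne : S ≠ R) :
    ∃ y ∈ R, y ∈ Subgroup.normalizer (S : Set G) ∧ y ∉ S := by
  have : Group.IsNilpotent ↥R := hR.isNilpotent
  have hnc : NormalizerCondition ↥R := Group.normalizerCondition_of_isNilpotent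
  have hlt : S.subgroupOf R < ⊤ := by
    rw [lt_top_iff_ne_top]
    intro h
    rw [Subgroup.subgroupOf_eq_top] at h
    exact hne (le_antisymm hSR h)
  have h1 := hnc _ hlt
  obtain ⟨y, hyN, hyS⟩ := SetLike.exists_of_lt h1
  refine ⟨(y : G), y.2, ?_, ?_⟩
  · apply Transfer.mem_normalizer_of_conj_mem
    intro s hs
    have h2 := (Subgroup.mem_normalizer_iff.mp hyN ⟨s, hSR hs⟩).mp
      (by rw [Subgroup.mem_subgroupOf]; exact hs)
    rw [Subgroup.mem_subgroupOf] at h2
    simpa using h2
  · intro h
    apply hyS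
    rw [Subgroup.mem_subgroupOf]
    exact h

/-- Subgroups of every intermediate order in a `p`-subgroup. -/
theorem exists_between [Finite G] {p : ℕ} [Fact p.Prime] (R H : Subgroup G) (hR : IsPGroup p R)
    (hHR : H ≤ R) (k : ℕ) (hk1 : Nat.card H ≤ p ^ k) (hk2 : p ^ k ≤ Nat.card R) :
    ∃ E : Subgroup G, H ≤ E ∧ E ≤ R ∧ Nat.card E = p ^ k := by
  obtain ⟨n, hn⟩ := hR.exists_card_eq
  obtain ⟨m, hm⟩ := (hR.to_le hHR).exists_card_eq
  have hp : p.Prime := Fact.out
  have hmk : m ≤ k := by
    rw [hm] at hk1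
    exact (Nat.pow_le_pow_iff_right hp.one_lt).mp hk1
  have hkn : k ≤ n := by
    rw [hn] at hk2
    exact (Nat.pow_le_pow_iff_right hp.one_lt).mp hk2
  have hcardH : Nat.card (H.subgroupOf R) = p ^ m := by
    rw [← hm]
    exact Nat.card_congr (Subgroup.subgroupOfEquivOfLe hHR).toEquiv
  obtain ⟨K, hK, hHK⟩ := Sylow.exists_subgroup_card_pow_prime_le p
    (by rw [hn]; exact pow_dvd_pow p hkn) (H.subgroupOf R) hcardH hmk
  refine ⟨K.map R.subtype, ?_, ?_, ?_⟩
  · intro h hh
    exact ⟨⟨h, hHR hh⟩, hHK (by rw [Subgroup.mem_subgroupOf]; exact hh), rfl⟩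
  · rintro _ ⟨x, -, rfl⟩
    exact x.2
  · rw [Subgroup.card_map_of_injective R.subtype_injective, hK]

/-- An element of order prime to `p (p - 1)` normalizing a cyclic `p`-subgroup centralizes it. -/
theorem commute_of_cyclic [Finite G] {p : ℕ} [Fact p.Prime] (E : Subgroup G) (hE : IsPGroup p E)
    (hcyc : IsCyclic E) (c : G) (hc : c ∈ Subgroup.normalizer (E : Set G))
    (hcp : (orderOf c).Coprime p) (hcp1 : (orderOf c).Coprime (p - 1)) :
    ∀ e ∈ E, e * c = c * e := by
  obtain ⟨n, hn⟩ := hE.exists_card_eq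
  have hp : p.Prime := Fact.out
  have hcop : Nat.Coprime (Nat.card (Subgroup.zpowers c)) (Nat.totient (Nat.card E)) := by
    rw [Nat.card_zpowers, hn]
    rcases Nat.eq_zero_or_pos n with h0 | hpos
    · subst h0
      simp
    · rw [Nat.totient_prime_pow hp hpos]
      exact Nat.Coprime.mul_right (Nat.Coprime.pow_right _ hcp) hcp1
  have h := Cfsg.Agent.Lib.Helper99.SylAct.le_centralizer_of_coprime E (Subgroup.zpowers c) hcyc
    (Subgroup.zpowers_le.mpr hc) hcop
  intro e he
  have h2 := h (Subgroup.mem_zpowers c)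
  rw [Subgroup.mem_centralizer_iff] at h2
  exact h2 e he

/-- Coprime lifting: if `c` acts trivially on `E` modulo `B` and centralizes `B`, it centralizes
the `p`-group `E`. -/
theorem commute_of_conj_mul_inv_mem [Finite G] {p : ℕ} [Fact p.Prime] (E B : Subgroup G)
    (hE : IsPGroup p E) (c : G) (hcE : c ∈ Subgroup.normalizer (E : Set G))
    (hcp : (orderOf c).Coprime p)
    (h1 : ∀ e ∈ E, e⁻¹ * (c * e * c⁻¹) ∈ B) (h2 : ∀ b ∈ B, b * c = c * b) :
    ∀ e ∈ E, e * c = c * e := by
  intro e he
  have hcop : (orderOf c).Coprime (Nat.card E) := by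
    obtain ⟨n, hn⟩ := hE.exists_card_eq
    rw [hn]
    exact Nat.Coprime.pow_right _ hcp
  apply Cfsg.Agent.Lib.Helper24.Coprime.commute_of_commutator_commute hcE hcop he
  have h3 : ⁅e, c⁆ = (e⁻¹)⁻¹ * (c * e⁻¹ * c⁻¹) := by
    rw [commutatorElement_def]
    group
  rw [h3]
  exact h2 _ (h1 e⁻¹ (inv_mem he))

/-- If `c` normalizes `A` and a normal subgroup `B` of `A` of index `p`, and the order of `c` is
prime to `p - 1`, then `c` acts trivially on `A / B`. -/
theorem conj_mul_inv_mem_of_relIndex_prime [Finite G] {p : ℕ} [Fact p.Prime] (A B : Subgroup G)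
    (hAB : A ≤ Subgroup.normalizer (B : Set G)) (hidx : B.relIndex A = p)
    (c : G) (hcA : c ∈ Subgroup.normalizer (A : Set G))
    (hcB : c ∈ Subgroup.normalizer (B : Set G)) (hcp1 : (orderOf c).Coprime (p - 1)) :
    ∀ a ∈ A, a⁻¹ * (c * a * c⁻¹) ∈ B := by
  have hp : p.Prime := Fact.out
  have hn : (B.subgroupOf A).Normal := Subgroup.normal_subgroupOf_of_le_normalizer hAB
  have hcard : Nat.card (↥A ⧸ B.subgroupOf A) = p := hidx
  have hcyc : IsCyclic (↥A ⧸ B.subgroupOf A) := isCyclic_of_prime_card hcard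
  let e : MulAut ↥A := CoprimeConj.conjAut A c hcA
  have he : (B.subgroupOf A).map (e : ↥A →* ↥A) = B.subgroupOf A := by
    apply le_antisymm
    · rintro _ ⟨x, hx, rfl⟩
      have hx' : (x : G) ∈ B := hx
      show c * (x : G) * c⁻¹ ∈ B
      exact Transfer.conj_mem_of_mem_normalizer B c hcB _ hx'
    · intro x hx
      rw [Subgroup.mem_subgroupOf] at hx
      have h1 := Transfer.conj_mem_of_mem_normalizer B c⁻¹ (inv_mem hcB) _ hx
      refine ⟨⟨c⁻¹ * (x : G) * c⁻¹⁻¹,
        Transfer.conj_mem_of_mem_normalizer A c⁻¹ (inv_mem hcA) _ x.2⟩, ?_, ?_⟩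
      · exact h1
      · apply Subtype.ext
        show c * (c⁻¹ * (x : G) * c⁻¹⁻¹) * c⁻¹ = x
        group
  let f : MulAut (↥A ⧸ B.subgroupOf A) := QuotientGroup.congr _ _ e he
  have hepow : ∀ (n : ℕ) (a : ↥A), (((e ^ n) a : ↥A) : G) = c ^ n * a * (c ^ n)⁻¹ := by
    intro n
    induction n with
    | zero => intro a; simp
    | succ n ih =>
      intro a
      rw [pow_succ', MulAut.mul_apply]
      show c * (((e ^ n) a : ↥A) : G) * c⁻¹ = _
      rw [ih, pow_succ']
      group
  have hfpow : ∀ (n : ℕ) (a : ↥A),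
      (f ^ n) (QuotientGroup.mk a) = QuotientGroup.mk ((e ^ n) a) := by
    intro n
    induction n with
    | zero => intro a; simp
    | succ n ih =>
      intro a
      rw [pow_succ', MulAut.mul_apply, ih]
      show (QuotientGroup.congr _ _ e he) (QuotientGroup.mk ((e ^ n) a)) = _
      rw [QuotientGroup.congr_mk, pow_succ', MulAut.mul_apply]
  have hf1 : f ^ orderOf c = 1 := by
    apply MulEquiv.ext
    intro y
    induction y using QuotientGroup.induction_on with
    | H a =>
      rw [hfpow]
      have : (e ^ orderOf c) a = a := by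
        apply Subtype.ext
        rw [hepow, pow_orderOf_eq_one]
        simp
      rw [this]
      rfl
  have hf2 : f ^ (p - 1) = 1 := by
    have h1 : Nat.card (MulAut (↥A ⧸ B.subgroupOf A)) = p - 1 := by
      rw [IsCyclic.card_mulAut, hcard, Nat.totient_prime hp]
    rw [← h1]
    exact pow_card_eq_one'
  have hf : f = 1 := by
    have h1 : orderOf f ∣ orderOf c := orderOf_dvd_of_pow_eq_one hf1
    have h2 : orderOf f ∣ p - 1 := orderOf_dvd_of_pow_eq_one hf2
    exact orderOf_eq_one_iff.mp (Nat.eq_one_of_dvd_coprimes hcp1 h1 h2)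
  intro a ha
  have h1 : f (QuotientGroup.mk (⟨a, ha⟩ : ↥A)) = QuotientGroup.mk (e ⟨a, ha⟩) :=
    QuotientGroup.congr_mk _ _ e he _
  rw [hf, MulAut.one_apply] at h1
  have h2 := QuotientGroup.eq.mp h1
  rw [Subgroup.mem_subgroupOf] at h2
  exact h2

/-- Fixed points in invariant cosets: `c` of `q`-power order normalizing `M` with `q ∤ |M|` fixes
a point of every coset `a M` which it stabilizes. -/
theorem exists_fixed_in_coset [Finite G] (M : Subgroup G) (c a : G) (q k : ℕ) [Fact q.Prime]
    (hcM : c ∈ Subgroup.normalizer (M : Set G)) (hord : c ^ q ^ k = 1) (hq : ¬ q ∣ Nat.card M)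
    (ha : a⁻¹ * (c * a * c⁻¹) ∈ M) : ∃ m ∈ M, c * (a * m) * c⁻¹ = a * m := by
  classical
  let _ : Fintype M := Fintype.ofFinite M
  have hmem : ∀ m : G, m ∈ M → a⁻¹ * (c * (a * m) * c⁻¹) ∈ M := by
    intro m hm
    have h2 := Transfer.conj_mem_of_mem_normalizer M c hcM _ hm
    have h3 := M.mul_mem ha h2
    have h4 : a⁻¹ * (c * (a * m) * c⁻¹) = a⁻¹ * (c * a * c⁻¹) * (c * m * c⁻¹) := by group
    rw [h4]
    exact h3
  let σ : M → M := fun m => ⟨a⁻¹ * (c * (a * m) * c⁻¹), hmem m m.2⟩
  have hiter : ∀ (i : ℕ) (m : M),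
      ((σ^[i] m : M) : G) = a⁻¹ * (c ^ i * (a * m) * (c ^ i)⁻¹) := by
    intro i
    induction i with
    | zero => intro m; simp
    | succ i ih =>
      intro m
      rw [Function.iterate_succ_apply']
      show a⁻¹ * (c * (a * (σ^[i] m : G)) * c⁻¹) = _
      rw [ih, pow_succ']
      group
  have hpp : ∀ m : M, σ^[q ^ k] m = m := by
    intro m
    apply Subtype.ext
    rw [hiter, hord]
    simp
  have hpos : 0 < q ^ k := pow_pos (Fact.out : q.Prime).pos k
  have hp1 : q ^ k - 1 + 1 = q ^ k := Nat.sub_add_cancel hpos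
  let τ : Equiv.Perm M := ⟨σ, σ^[q ^ k - 1],
    fun n => by
      show σ^[q ^ k - 1] (σ n) = n
      rw [← Function.iterate_succ_apply σ (q ^ k - 1) n, Nat.succ_eq_add_one, hp1]
      exact hpp n,
    fun n => by
      show σ (σ^[q ^ k - 1] n) = n
      rw [← Function.iterate_succ_apply' σ (q ^ k - 1) n, Nat.succ_eq_add_one, hp1]
      exact hpp n⟩
  have hτ : τ ^ q ^ k = 1 := by
    ext n
    rw [← Equiv.Perm.iterate_eq_pow]
    exact congrArg _ (hpp n)
  have hcard : ¬ q ∣ Fintype.card M := by rwa [← Nat.card_eq_fintype_card]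
  obtain ⟨n, hn⟩ := Equiv.Perm.exists_fixed_point_of_prime hcard hτ
  refine ⟨n, n.2, ?_⟩
  have h2 : a⁻¹ * (c * (a * n) * c⁻¹) = n := congrArg Subtype.val hn
  calc c * (a * n) * c⁻¹ = a * (a⁻¹ * (c * (a * n) * c⁻¹)) := by group
    _ = a * n := by rw [h2]

/-- If `x` normalizes `S` and `x ^ p ∈ S` then `S` has index dividing `p` in `⟨S, x⟩`. -/
theorem relIndex_sup_zpowers_dvd (S : Subgroup G) (x : G) (p : ℕ)
    (hx : x ∈ Subgroup.normalizer (S : Set G)) (hxp : x ^ p ∈ S) :
    S.relIndex (S ⊔ Subgroup.zpowers x) ∣ p := by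
  set T := S ⊔ Subgroup.zpowers x with hT
  have hST : S ≤ T := le_sup_left
  have hxT : x ∈ T := (le_sup_right : Subgroup.zpowers x ≤ T) (Subgroup.mem_zpowers x)
  have hTN : T ≤ Subgroup.normalizer (S : Set G) :=
    sup_le Subgroup.le_normalizer (Subgroup.zpowers_le.mpr hx)
  have hn : (S.subgroupOf T).Normal := Subgroup.normal_subgroupOf_of_le_normalizer hTN
  have htop : (⊤ : Subgroup ↥T) = S.subgroupOf T ⊔ Subgroup.zpowers (⟨x, hxT⟩ : ↥T) := by
    apply Subgroup.map_injective T.subtype_injective
    rw [Subgroup.map_sup, Subgroup.map_subgroupOf_eq_of_le hST, MonoidHom.map_zpowers,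
      ← MonoidHom.range_eq_map, Subgroup.range_subtype]
    rfl
  have hmap : (⊤ : Subgroup (↥T ⧸ S.subgroupOf T)) =
      Subgroup.zpowers (QuotientGroup.mk' (S.subgroupOf T) ⟨x, hxT⟩) := by
    rw [← Subgroup.map_top_of_surjective (QuotientGroup.mk' (S.subgroupOf T))
      (QuotientGroup.mk'_surjective _), htop, Subgroup.map_sup, MonoidHom.map_zpowers]
    have h1 : (S.subgroupOf T).map (QuotientGroup.mk' (S.subgroupOf T)) = ⊥ := by
      rw [Subgroup.map_eq_bot_iff, QuotientGroup.ker_mk']
    rw [h1, bot_sup_eq]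
  have hcard : Nat.card (↥T ⧸ S.subgroupOf T) =
      orderOf (QuotientGroup.mk' (S.subgroupOf T) ⟨x, hxT⟩) := by
    rw [← Nat.card_zpowers, ← hmap, Subgroup.card_top]
  show (S.subgroupOf T).index ∣ p
  rw [Subgroup.index, hcard]
  apply orderOf_dvd_of_pow_eq_one
  rw [← map_pow]
  exact (QuotientGroup.eq_one_iff _).mpr (by rw [Subgroup.mem_subgroupOf]; exact hxp)

/-- A subgroup containing all the prime-power parts of `c` contains `c`. -/
theorem mem_of_primePow_parts [Finite G] (H : Subgroup G) (c : G)
    (h : ∀ q : ℕ, q.Prime → c ^ (orderOf c / q ^ (orderOf c).factorization q) ∈ H) : c ∈ H := by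
  have hn : (H.subgroupOf (Subgroup.zpowers c)).Normal := by
    refine ⟨fun n hn g => ?_⟩
    have h1 : g * n * g⁻¹ = n := by
      rw [mul_comm' g n]
      group
    rw [h1]
    exact hn
  have key : ∀ j : ℕ, orderOf (QuotientGroup.mk' (H.subgroupOf (Subgroup.zpowers c))
      ⟨c, Subgroup.mem_zpowers c⟩) ∣ j ↔ c ^ j ∈ H := by
    intro j
    rw [orderOf_dvd_iff_pow_eq_one, ← map_pow, QuotientGroup.mk'_apply, QuotientGroup.eq_one_iff,
      Subgroup.mem_subgroupOf]
    rfl
  have h1 : orderOf (QuotientGroup.mk' (H.subgroupOf (Subgroup.zpowers c))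
      ⟨c, Subgroup.mem_zpowers c⟩) = 1 := by
    by_contra hne
    obtain ⟨q, hq, hqd⟩ := Nat.exists_prime_and_dvd hne
    have h2 := (key _).mpr (h q hq)
    exact Nat.not_dvd_ordCompl hq (orderOf_pos c).ne' (hqd.trans h2)
  have h3 := (key 1).mp (by rw [h1])
  simpa using h3

/-- **Key lemma.** Let `c` have prime power order prime to `p (p - 1)`, normalize the
`p`-subgroup `R` with `p ^ d < |R|` (`d ≥ 1`), and normalize every subgroup of `R` of order
`p ^ d` (and of order `4` when `p ^ d = 2`). Then `c` centralizes `R`. -/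
theorem centralizes_of_normalizes_fixed_order [Finite G] {p : ℕ} [Fact p.Prime] (c : G)
    (hcp : (orderOf c).Coprime p) (hcp1 : (orderOf c).Coprime (p - 1))
    (hq : ∃ q k : ℕ, q.Prime ∧ orderOf c = q ^ k) (d : ℕ) (hd : 1 ≤ d) (R : Subgroup G)
    (hR : IsPGroup p R) (hcR : c ∈ Subgroup.normalizer (R : Set G)) (hlt : p ^ d < Nat.card R)
    (hE : ∀ E : Subgroup G, E ≤ R → (Nat.card E = p ^ d ∨ (p ^ d = 2 ∧ Nat.card E = 4)) →
      c ∈ Subgroup.normalizer (E : Set G)) :
    ∀ x ∈ R, x * c = c * x := by
  have hp : p.Prime := Fact.out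
  induction hn : Nat.card R using Nat.strong_induction_on generalizing R with
  | _ n ih =>
    subst hn
    by_contra hcon
    push Not at hcon
    -- cyclic subgroups in the family are centralized
    have hZ : ∀ y ∈ R, (Nat.card (Subgroup.zpowers y) = p ^ d ∨
        (p ^ d = 2 ∧ Nat.card (Subgroup.zpowers y) = 4)) → y * c = c * y := by
      intro y hy hcard
      have hle : Subgroup.zpowers y ≤ R := Subgroup.zpowers_le.mpr hy
      exact commute_of_cyclic (Subgroup.zpowers y) (hR.to_le hle) inferInstance c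
        (hE _ hle hcard) hcp hcp1 y (Subgroup.mem_zpowers y)
    -- a small element not centralized by `c`
    have h0 : ∃ x ∈ R, x * c ≠ c * x ∧ x ^ p * c = c * x ^ p ∧
        Nat.card (Subgroup.zpowers x) ≤ p ^ d := by
      have hex : ∃ x ∈ R, (x ^ p = 1 ∨ (p = 2 ∧ x ^ 4 = 1)) ∧ x * c ≠ c * x := by
        by_contra hno
        push Not at hno
        obtain ⟨x, hx, hxc⟩ := hcon
        exact hxc (Cfsg.Agent.Lib.Helper54.OmegaTwo.centralizes_of_centralizes_omega' p c hcp R hR
          hcR (fun y hy hyp => hno y hy hyp) x hx)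
      obtain ⟨x₀, hx₀, hsmall, hne₀⟩ := hex
      have caseA : ∀ x ∈ R, x ^ p = 1 → x * c ≠ c * x → ∃ x ∈ R, x * c ≠ c * x ∧
          x ^ p * c = c * x ^ p ∧ Nat.card (Subgroup.zpowers x) ≤ p ^ d := by
        intro x hx hxp hne
        refine ⟨x, hx, hne, by rw [hxp]; simp, ?_⟩
        rw [Nat.card_zpowers]
        have h1 : orderOf x ∣ p := orderOf_dvd_of_pow_eq_one hxp
        calc orderOf x ≤ p := Nat.le_of_dvd hp.pos h1
          _ = p ^ 1 := (pow_one p).symm
          _ ≤ p ^ d := Nat.pow_le_pow_right hp.pos hd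
      rcases hsmall with hxp | ⟨hp2, hx4⟩
      · exact caseA x₀ hx₀ hxp hne₀
      · subst hp2
        by_cases hsq : x₀ ^ 2 * c = c * x₀ ^ 2
        · refine ⟨x₀, hx₀, hne₀, hsq, ?_⟩
          rw [Nat.card_zpowers]
          have h1 : orderOf x₀ ∣ 4 := orderOf_dvd_of_pow_eq_one hx4
          have h4 : orderOf x₀ ≤ 4 := Nat.le_of_dvd (by norm_num) h1
          by_cases hd2 : 2 ≤ d
          · calc orderOf x₀ ≤ 4 := h4
              _ = 2 ^ 2 := by norm_num
              _ ≤ 2 ^ d := Nat.pow_le_pow_right (by norm_num) hd2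
          · have hd1 : d = 1 := by omega
            subst hd1
            by_contra hgt
            push Not at hgt
            have h5 : orderOf x₀ = 4 := by
              have h1' : orderOf x₀ ∣ 2 ^ 2 := by
                have h22 : (2 : ℕ) ^ 2 = 4 := by norm_num
                rw [h22]
                exact h1
              obtain ⟨j, hj, hj'⟩ := (Nat.dvd_prime_pow Nat.prime_two).mp h1'
              have hgt' : 2 < orderOf x₀ := by simpa using hgt
              have hj2 : j = 2 := by
                rcases Nat.lt_or_ge j 2 with hlt2 | hge2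
                · exfalso
                  have h7 : 2 ^ j ≤ 2 ^ 1 := Nat.pow_le_pow_right (by norm_num) (by omega)
                  rw [hj'] at hgt'
                  omega
                · omega
              rw [hj', hj2]
              norm_num
            exact hne₀ (hZ x₀ hx₀ (Or.inr ⟨by norm_num, by rw [Nat.card_zpowers, h5]⟩))
        · exact caseA (x₀ ^ 2) (R.pow_mem hx₀ 2) (by rw [← pow_mul]; exact hx4) hsq
    obtain ⟨x, hxR, hxc, hxpc, hxcard⟩ := h0
    by_cases hb : ∃ S : Subgroup G, S ≤ R ∧ S ≠ R ∧ c ∈ Subgroup.normalizer (S : Set G) ∧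
        p ^ d < Nat.card S
    · -- a large proper invariant subgroup exists
      obtain ⟨S, hS, hSmax⟩ := Set.Finite.exists_maximalFor (fun S : Subgroup G => Nat.card S)
        {S : Subgroup G | S ≤ R ∧ S ≠ R ∧ c ∈ Subgroup.normalizer (S : Set G) ∧
          p ^ d < Nat.card S} (Set.toFinite _) hb
      obtain ⟨hSR, hSne, hcS, hSlt⟩ := hS
      have hmax : ∀ S' : Subgroup G, S ≤ S' → S' ≤ R → S' ≠ R →
          c ∈ Subgroup.normalizer (S' : Set G) → S' = S := by
        intro S' hSS' hS'R hS'ne hcS'
        have hmem : S' ∈ {S : Subgroup G | S ≤ R ∧ S ≠ R ∧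
            c ∈ Subgroup.normalizer (S : Set G) ∧ p ^ d < Nat.card S} :=
          ⟨hS'R, hS'ne, hcS', lt_of_lt_of_le hSlt (Subgroup.card_le_of_le hSS')⟩
        have h1 := hSmax hmem (Subgroup.card_le_of_le hSS')
        exact (Subgroup.eq_of_le_of_card_ge hSS' h1).symm
      have hScent : ∀ s ∈ S, s * c = c * s :=
        ih (Nat.card S) (Cfsg.Agent.Lib.Helper24.Coprime.card_lt_of_le_of_ne hSR hSne) S
          (hR.to_le hSR) hcS hSlt (fun E hES hcard => hE E (hES.trans hSR) hcard) rfl
      have hxS : x ∉ S := fun h => hxc (hScent x h)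
      have hRN : R ≤ Subgroup.normalizer (S : Set G) := by
        by_contra hnot
        have hN₁R : Subgroup.normalizer (S : Set G) ⊓ R ≤ R := inf_le_right
        have hSN₁ : S ≤ Subgroup.normalizer (S : Set G) ⊓ R := le_inf Subgroup.le_normalizer hSR
        have hN₁ne : Subgroup.normalizer (S : Set G) ⊓ R ≠ R := by
          intro h
          apply hnot
          rw [← h]
          exact inf_le_left
        have hcN₁ : c ∈ Subgroup.normalizer
            ((Subgroup.normalizer (S : Set G) ⊓ R : Subgroup G) : Set G) := by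
          apply Transfer.mem_normalizer_of_conj_mem
          intro y hy
          obtain ⟨hy1, hy2⟩ := Subgroup.mem_inf.mp hy
          exact Subgroup.mem_inf.mpr ⟨mul_mem (mul_mem hcS hy1) (inv_mem hcS),
            Transfer.conj_mem_of_mem_normalizer R c hcR y hy2⟩
        have h1 := hmax _ hSN₁ hN₁R hN₁ne hcN₁
        obtain ⟨y, hyR, hyN, hyS⟩ := exists_mem_normalizer_not_mem R S hR hSR hSne
        apply hyS
        rw [← h1]
        exact Subgroup.mem_inf.mpr ⟨hyN, hyR⟩
      have hxpS : x ^ p ∈ S := by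
        have hS₂R : S ⊔ Subgroup.zpowers (x ^ p) ≤ R :=
          sup_le hSR (Subgroup.zpowers_le.mpr (R.pow_mem hxR p))
        have hcS₂ : c ∈ Subgroup.normalizer
            ((S ⊔ Subgroup.zpowers (x ^ p) : Subgroup G) : Set G) := by
          apply Transfer.normalizer_inf_le_normalizer_sup
          refine Subgroup.mem_inf.mpr ⟨hcS, ?_⟩
          apply Transfer.mem_normalizer_of_conj_mem
          intro y hy
          obtain ⟨k, rfl⟩ := Subgroup.mem_zpowers_iff.mp hy
          have hcomm : Commute c (x ^ p) := hxpc.symm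
          have h1 : c * (x ^ p) ^ k * c⁻¹ = (x ^ p) ^ k := by
            rw [(hcomm.zpow_right k).eq]
            group
          rw [h1]
          exact hy
        by_cases hS₂ne : S ⊔ Subgroup.zpowers (x ^ p) = R
        · exfalso
          apply hxc
          have hle : S ⊔ Subgroup.zpowers (x ^ p) ≤ Subgroup.centralizer ({c} : Set G) := by
            apply sup_le
            · intro s hs
              rw [Subgroup.mem_centralizer_iff]
              intro h hh
              rw [Set.mem_singleton_iff] at hh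
              subst hh
              exact (hScent s hs).symm
            · rw [Subgroup.zpowers_le, Subgroup.mem_centralizer_iff]
              intro h hh
              rw [Set.mem_singleton_iff] at hh
              subst hh
              exact hxpc.symm
          have hx2 : x ∈ Subgroup.centralizer ({c} : Set G) := hle (hS₂ne ▸ hxR)
          rw [Subgroup.mem_centralizer_iff] at hx2
          exact (hx2 c rfl).symm
        · have h1 := hmax _ le_sup_left hS₂R hS₂ne hcS₂
          rw [← h1]
          exact (le_sup_right : Subgroup.zpowers (x ^ p) ≤ _) (Subgroup.mem_zpowers _)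
      have hTR : S ⊔ Subgroup.zpowers x ≤ R := sup_le hSR (Subgroup.zpowers_le.mpr hxR)
      have hxN : x ∈ Subgroup.normalizer (S : Set G) := hRN hxR
      have hidxT : S.relIndex (S ⊔ Subgroup.zpowers x) ∣ p :=
        relIndex_sup_zpowers_dvd S x p hxN hxpS
      have hcardT : p ^ d ≤ Nat.card (S ⊔ Subgroup.zpowers x : Subgroup G) :=
        le_of_lt (lt_of_lt_of_le hSlt (Subgroup.card_le_of_le le_sup_left))
      obtain ⟨E, hxE, hET, hEcard⟩ := exists_between (S ⊔ Subgroup.zpowers x)
        (Subgroup.zpowers x) (hR.to_le hTR) le_sup_right d hxcard hcardT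
      have hxE' : x ∈ E := hxE (Subgroup.mem_zpowers x)
      have hER : E ≤ R := hET.trans hTR
      have hcE : c ∈ Subgroup.normalizer (E : Set G) := hE E hER (Or.inl hEcard)
      have hidx : (E ⊓ S).relIndex E = p := by
        rw [Subgroup.inf_relIndex_left]
        have h1 : S.relIndex E ≤ S.relIndex (S ⊔ Subgroup.zpowers x) :=
          Subgroup.relIndex_le_of_le_right hET (by
            intro h0
            rw [h0] at hidxT
            exact hp.ne_zero (Nat.eq_zero_of_zero_dvd hidxT))
        have h2 : S.relIndex (S ⊔ Subgroup.zpowers x) ≤ p := Nat.le_of_dvd hp.pos hidxT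
        have h3 : S.relIndex E ∣ p ^ d := hEcard ▸ Subgroup.relIndex_dvd_card S E
        obtain ⟨j, hj, hj'⟩ := (Nat.dvd_prime_pow hp).mp h3
        have h4 : S.relIndex E ≠ 1 := by
          intro h
          rw [Subgroup.relIndex_eq_one] at h
          exact hxS (h hxE')
        rw [hj'] at h1 h4 ⊢
        have hj1 : j ≠ 0 := by
          rintro rfl
          exact h4 (pow_zero p)
        have hj2 : j ≤ 1 := by
          by_contra hgt
          push Not at hgt
          have h5 : p ^ 2 ≤ p ^ j := Nat.pow_le_pow_right hp.pos hgt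
          have h6 : p ^ 2 ≤ p := h5.trans (h1.trans h2)
          nlinarith [hp.one_lt]
        have hj3 : j = 1 := by omega
        rw [hj3, pow_one]
      have hEB : E ≤ Subgroup.normalizer ((E ⊓ S : Subgroup G) : Set G) := by
        intro e he
        apply Transfer.mem_normalizer_of_conj_mem
        intro y hy
        obtain ⟨hy1, hy2⟩ := Subgroup.mem_inf.mp hy
        exact Subgroup.mem_inf.mpr ⟨mul_mem (mul_mem he hy1) (inv_mem he),
          Transfer.conj_mem_of_mem_normalizer S e (hRN (hER he)) y hy2⟩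
      have hcB : c ∈ Subgroup.normalizer ((E ⊓ S : Subgroup G) : Set G) := by
        apply Transfer.mem_normalizer_of_conj_mem
        intro y hy
        obtain ⟨hy1, hy2⟩ := Subgroup.mem_inf.mp hy
        exact Subgroup.mem_inf.mpr ⟨Transfer.conj_mem_of_mem_normalizer E c hcE y hy1,
          Transfer.conj_mem_of_mem_normalizer S c hcS y hy2⟩
      have h1 := conj_mul_inv_mem_of_relIndex_prime E (E ⊓ S) hEB hidx c hcE hcB hcp1
      have h2 := commute_of_conj_mul_inv_mem E (E ⊓ S) (hR.to_le hER) c hcE hcp h1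
        (fun b hb => hScent b (Subgroup.mem_inf.mp hb).2)
      exact hxc (h2 x hxE')
    · -- every proper invariant subgroup has order at most `p ^ d`
      push Not at hb
      obtain ⟨n, hn⟩ := hR.exists_card_eq
      have hdn : d < n := by
        rw [hn] at hlt
        exact (Nat.pow_lt_pow_iff_right hp.one_lt).mp hlt
      have hTex : ∃ T : Subgroup G, T ≤ R ∧ Nat.card T = p ^ (d + 1) ∧
          c ∈ Subgroup.normalizer (T : Set G) := by
        obtain ⟨S', hxS', hS'R, hS'card⟩ := exists_between R (Subgroup.zpowers x) hR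
          (Subgroup.zpowers_le.mpr hxR) d hxcard (le_of_lt hlt)
        have hcS' := hE S' hS'R (Or.inl hS'card)
        have hS'nc : ¬ IsCyclic S' := fun hcyc =>
          hxc (commute_of_cyclic S' (hR.to_le hS'R) hcyc c hcS' hcp hcp1 x
            (hxS' (Subgroup.mem_zpowers x)))
        obtain ⟨T, hS'T, hTR, hTcard⟩ := exists_between R S' hR hS'R (d + 1)
          (by rw [hS'card]; exact Nat.pow_le_pow_right hp.pos (Nat.le_succ d))
          (by rw [hn]; exact Nat.pow_le_pow_right hp.pos hdn)
        have hS'neT : S' ≠ T := by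
          intro h
          rw [h, hTcard] at hS'card
          exact absurd (Nat.pow_right_injective hp.two_le hS'card) (by omega)
        obtain ⟨y, hyT, hyS'⟩ : ∃ y ∈ T, y ∉ S' := by
          by_contra hno
          push Not at hno
          exact hS'neT (le_antisymm hS'T hno)
        have hzy : Nat.card (Subgroup.zpowers y) ≤ p ^ d := by
          have hle : Subgroup.zpowers y ≤ T := Subgroup.zpowers_le.mpr hyT
          have hdvd : Nat.card (Subgroup.zpowers y) ∣ p ^ (d + 1) :=
            hTcard ▸ Subgroup.card_dvd_of_le hle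
          obtain ⟨j, hj, hj'⟩ := (Nat.dvd_prime_pow hp).mp hdvd
          rw [hj']
          apply Nat.pow_le_pow_right hp.pos
          by_contra hgt
          have hj1 : j = d + 1 := by omega
          have hEq : Subgroup.zpowers y = T :=
            Subgroup.eq_of_le_of_card_ge hle (by rw [hj', hj1, hTcard])
          apply hS'nc
          have hle2 : S' ≤ Subgroup.zpowers y := hEq ▸ hS'T
          have hc1 : IsCyclic ↥(S'.subgroupOf (Subgroup.zpowers y)) := inferInstance
          exact isCyclic_of_surjective (Subgroup.subgroupOfEquivOfLe hle2).toMonoidHom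
            (Subgroup.subgroupOfEquivOfLe hle2).surjective
        obtain ⟨S'', hyS'', hS''T, hS''card⟩ := exists_between T (Subgroup.zpowers y)
          (hR.to_le hTR) (Subgroup.zpowers_le.mpr hyT) d hzy
          (by rw [hTcard]; exact Nat.pow_le_pow_right hp.pos (Nat.le_succ d))
        have hcS'' := hE S'' (hS''T.trans hTR) (Or.inl hS''card)
        have hU : S' ⊔ S'' = T := by
          apply Subgroup.eq_of_le_of_card_ge (sup_le hS'T hS''T)
          have hlt' : Nat.card S' < Nat.card (S' ⊔ S'' : Subgroup G) := by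
            apply Cfsg.Agent.Lib.Helper24.Coprime.card_lt_of_le_of_ne le_sup_left
            intro h
            apply hyS'
            rw [h]
            exact (le_sup_right : S'' ≤ S' ⊔ S'') (hyS'' (Subgroup.mem_zpowers y))
          have hdvd : Nat.card (S' ⊔ S'' : Subgroup G) ∣ p ^ (d + 1) :=
            hTcard ▸ Subgroup.card_dvd_of_le (sup_le hS'T hS''T)
          obtain ⟨j, hj, hj'⟩ := (Nat.dvd_prime_pow hp).mp hdvd
          rw [hj', hS'card] at hlt'
          have hdj : d < j := (Nat.pow_lt_pow_iff_right hp.one_lt).mp hlt'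
          rw [hTcard, hj']
          exact Nat.pow_le_pow_right hp.pos (by omega)
        refine ⟨T, hTR, hTcard, ?_⟩
        rw [← hU]
        exact Transfer.normalizer_inf_le_normalizer_sup S' S''
          (Subgroup.mem_inf.mpr ⟨hcS', hcS''⟩)
      obtain ⟨T, hTR, hTcard, hcT⟩ := hTex
      have hTeq : T = R := by
        by_contra hne
        have h1 := hb T hTR hne hcT
        rw [hTcard] at h1
        have h2 : p ^ d < p ^ (d + 1) := Nat.pow_lt_pow_right hp.one_lt (by omega)
        omega
      have hRcard : Nat.card R = p ^ (d + 1) := by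
        rw [← hTeq]
        exact hTcard
      have hKne : R ⊓ Subgroup.centralizer ({c} : Set G) ≠ R := by
        intro h
        apply hxc
        have h1 : x ∈ R ⊓ Subgroup.centralizer ({c} : Set G) := by
          rw [h]
          exact hxR
        have h2 := (Subgroup.mem_inf.mp h1).2
        rw [Subgroup.mem_centralizer_iff] at h2
        exact (h2 c rfl).symm
      have hKcard : Nat.card (R ⊓ Subgroup.centralizer ({c} : Set G) : Subgroup G) ≤ p ^ d := by
        have hlt' := Cfsg.Agent.Lib.Helper24.Coprime.card_lt_of_le_of_ne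
          (inf_le_left : R ⊓ Subgroup.centralizer ({c} : Set G) ≤ R) hKne
        have hdvd : Nat.card (R ⊓ Subgroup.centralizer ({c} : Set G) : Subgroup G) ∣
            p ^ (d + 1) := hRcard ▸ Subgroup.card_dvd_of_le inf_le_left
        obtain ⟨j, hj, hj'⟩ := (Nat.dvd_prime_pow hp).mp hdvd
        rw [hj', hRcard] at hlt'
        have hjd : j < d + 1 := (Nat.pow_lt_pow_iff_right hp.one_lt).mp hlt'
        rw [hj']
        exact Nat.pow_le_pow_right hp.pos (by omega)
      obtain ⟨M, hKM, hMR, hMcard⟩ := exists_between R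
        (R ⊓ Subgroup.centralizer ({c} : Set G)) hR inf_le_left d hKcard (le_of_lt hlt)
      have hcM := hE M hMR (Or.inl hMcard)
      have hMne : M ≠ R := by
        intro h
        rw [h, hRcard] at hMcard
        exact absurd (Nat.pow_right_injective hp.two_le hMcard) (by omega)
      have hRM : R ≤ Subgroup.normalizer (M : Set G) := by
        obtain ⟨y, hyR, hyN, hyM⟩ := exists_mem_normalizer_not_mem R M hR hMR hMne
        have hlt' : Nat.card M <
            Nat.card (Subgroup.normalizer (M : Set G) ⊓ R : Subgroup G) := by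
          apply Cfsg.Agent.Lib.Helper24.Coprime.card_lt_of_le_of_ne
            (le_inf Subgroup.le_normalizer hMR)
          intro h
          apply hyM
          rw [h]
          exact Subgroup.mem_inf.mpr ⟨hyN, hyR⟩
        have hdvd : Nat.card (Subgroup.normalizer (M : Set G) ⊓ R : Subgroup G) ∣
            p ^ (d + 1) := hRcard ▸ Subgroup.card_dvd_of_le inf_le_right
        obtain ⟨j, hj, hj'⟩ := (Nat.dvd_prime_pow hp).mp hdvd
        rw [hj', hMcard] at hlt'
        have hdj : d < j := (Nat.pow_lt_pow_iff_right hp.one_lt).mp hlt'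
        have hEq : Subgroup.normalizer (M : Set G) ⊓ R = R :=
          Subgroup.eq_of_le_of_card_ge inf_le_right
            (by rw [hRcard, hj']; exact Nat.pow_le_pow_right hp.pos (by omega))
        rw [← hEq]
        exact inf_le_left
      have hidx : M.relIndex R = p := by
        have h1 := Subgroup.relIndex_mul_relIndex ⊥ M R bot_le hMR
        rw [Subgroup.relIndex_bot_left, Subgroup.relIndex_bot_left, hMcard, hRcard, pow_succ] at h1
        exact Nat.eq_of_mul_eq_mul_left (pow_pos hp.pos d) h1
      have h1 := conj_mul_inv_mem_of_relIndex_prime R M hRM hidx c hcR hcM hcp1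
      obtain ⟨a, haR, haM⟩ : ∃ a ∈ R, a ∉ M := by
        by_contra hno
        push Not at hno
        exact hMne (le_antisymm hMR hno)
      obtain ⟨q, k, hqp, hqk⟩ := hq
      have hqf : Fact q.Prime := ⟨hqp⟩
      have hqM : ¬ q ∣ Nat.card M := by
        rw [hMcard]
        intro hdv
        have h2 := hqp.dvd_of_dvd_pow hdv
        have hqeq : q = p := (Nat.prime_dvd_prime_iff_eq hqp hp).mp h2
        subst hqeq
        rcases Nat.eq_zero_or_pos k with hk0 | hkpos
        · subst hk0
          rw [pow_zero, orderOf_eq_one_iff] at hqk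
          apply hxc
          rw [hqk]
          simp
        · rw [hqk] at hcp
          have h3 : q ∣ Nat.gcd (q ^ k) q := Nat.dvd_gcd (dvd_pow_self q hkpos.ne') dvd_rfl
          rw [hcp] at h3
          exact hqp.one_lt.ne' (Nat.dvd_one.mp h3)
      obtain ⟨m, hmM, hfix⟩ := exists_fixed_in_coset M c a q k hcM
        (by rw [← hqk]; exact pow_orderOf_eq_one c) hqM (h1 a haR)
      apply haM
      have hamK : a * m ∈ R ⊓ Subgroup.centralizer ({c} : Set G) := by
        refine Subgroup.mem_inf.mpr ⟨R.mul_mem haR (hMR hmM), ?_⟩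
        rw [Subgroup.mem_centralizer_iff]
        intro h hh
        rw [Set.mem_singleton_iff] at hh
        subst hh
        calc h * (a * m) = (h * (a * m) * h⁻¹) * h := by group
          _ = a * m * h := by rw [hfix]
      have h5 := M.mul_mem (hKM hamK) (M.inv_mem hmM)
      simpa using h5

end Cfsg.Agent.Lib.Helper50.PAct
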