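import Mathlib
import Cfsg.Agent.Lib.Helper31.CoprimeGen
import Cfsg.Agent.Lib.Helper54.CyclicNormal
import Cfsg.Agent.Lib.Helper9.Narrow1
import Cfsg.Agent.Lib.Helper24.PGroupBasic
import Cfsg.Agent.Lib.Helper50.Transfer
import Cfsg.Agent.Lib.Helper50.CoprimeConj
import Cfsg.Prelude.Def_Transfer

set_option autoImplicit false

/-!
helper50: pure group theory for Bender–Glauberman Lemma 9.5 (S1402), part 1.

* `exists_cent_not_le` : coprime generation (from `Helper31.CoprimeGen.elementary_generation`)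
  in the form "if `X ≰ M` then some large subgroup `D` of `E` centralizes an element of `X`
  outside `M`".
* `exists_central_mod` : in a noncyclic `s`-group `R` (`s` odd) with a central element `z` of
  order `s`, some `x ∉ ⟨z⟩` of order `s` has all its commutators in `⟨z⟩`.
* `exists_normal_rank_two` : the construction of a normal elementary abelian subgroup of order
  `s ^ 2` centralized by a large subgroup of an acting elementary abelian `p`-group.
* `exists_elt_normal_rank_two` : "Claim S".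
-/

namespace Cfsg.Agent.Lib.Helper50.BG95b

open Cfsg.Agent.Lib.Helper50

variable {G : Type*} [Group G]

/-- Coprime generation, contrapositive form. -/
theorem exists_cent_not_le [Finite G] {p : ℕ} [Fact p.Prime] (E X M : Subgroup G)
    (hEc : ∀ x ∈ E, ∀ y ∈ E, x * y = y * x) (hEp : ∀ x ∈ E, x ^ p = 1)
    (hX : ¬ p ∣ Nat.card X) (hEX : E ≤ Subgroup.normalizer (X : Set G)) (k : ℕ)
    (hk : p ^ (k + 1) ≤ Nat.card E) (hXM : ¬ X ≤ M) :
    ∃ D : Subgroup G, D ≤ E ∧ p ^ k ≤ Nat.card D ∧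
      ∃ x ∈ X, x ∉ M ∧ ∀ d ∈ D, d * x = x * d := by
  by_contra hcon
  push Not at hcon
  apply hXM
  refine (Cfsg.Agent.Lib.Helper31.CoprimeGen.elementary_generation E X hEc hEp hX hEX k hk).trans ?_
  apply iSup_le
  rintro ⟨D, hDE, hDk⟩ x hx
  obtain ⟨hxX, hxC⟩ := Subgroup.mem_inf.mp hx
  by_contra hxM
  obtain ⟨d, hd, hdx⟩ := hcon D hDE hDk x hxX hxM
  exact hdx (Subgroup.mem_centralizer_iff.mp hxC d hd)

/-- In a noncyclic `s`-group (`s` odd) with a central element `z` of order `s` there is an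
element `x ∉ ⟨z⟩` of order `s` all of whose commutators lie in `⟨z⟩`. -/
theorem exists_central_mod {R : Type*} [Group R] [Finite R] {s : ℕ} [Fact s.Prime] (hs2 : s ≠ 2)
    (hR : IsPGroup s R) (hnc : ¬ IsCyclic R) (z : R) (hz : z ∈ Subgroup.center R) (hz1 : z ≠ 1)
    (hzs : z ^ s = 1) :
    ∃ x : R, x ∉ Subgroup.zpowers z ∧ x ^ s = 1 ∧
      ∀ g : R, x * g * x⁻¹ * g⁻¹ ∈ Subgroup.zpowers z := by
  have hsp : s.Prime := Fact.out
  by_cases hc : ∃ z' ∈ Subgroup.center R, z' ^ s = 1 ∧ z' ∉ Subgroup.zpowers z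
  · obtain ⟨z', hz', hz's, hz'n⟩ := hc
    refine ⟨z', hz'n, hz's, fun g => ?_⟩
    have : z' * g * z'⁻¹ * g⁻¹ = 1 := by
      have h := Subgroup.mem_center_iff.mp hz' g
      rw [← h]; group
    rw [this]; exact one_mem _
  push Not at hc
  have hordz : orderOf z = s := orderOf_eq_prime hzs hz1
  have hZc : Subgroup.zpowers z ≤ Subgroup.center R := Subgroup.zpowers_le.mpr hz
  haveI hZn : (Subgroup.zpowers z).Normal := ⟨fun n hn g => by
    have h := Subgroup.mem_center_iff.mp (hZc hn) g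
    rw [h, mul_inv_cancel_right]
    exact hn⟩
  obtain ⟨A₀, hA₀n, hA₀c, hA₀nc⟩ :
      ∃ A₀ : Subgroup R, A₀.Normal ∧ IsMulCommutative A₀ ∧ ¬ IsCyclic A₀ := by
    by_contra h
    push Not at h
    rcases Cfsg.Agent.Lib.Helper54.CyclicNormal.cyclic_or_two hR
      (fun A hA hAc => h A hA hAc) with h1 | ⟨h2, -⟩
    · exact hnc h1
    · exact hs2 h2
  have hnUI : ¬ Cfsg.Agent.Lib.Helper54.UniqueSubgroup.UI s ↥A₀ := fun hUI =>
    hA₀nc (Cfsg.Agent.Lib.Helper54.UniqueSubgroup.isCyclic_of_comm (hR.to_subgroup A₀) hUI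
      (fun x y => mul_comm' x y))
  unfold Cfsg.Agent.Lib.Helper54.UniqueSubgroup.UI at hnUI
  push Not at hnUI
  obtain ⟨g, h, hg, hh, hg1, hhg⟩ := hnUI
  have hgs : (g : R) ^ s = 1 := by exact_mod_cast congrArg Subtype.val hg
  have hhs : (h : R) ^ s = 1 := by exact_mod_cast congrArg Subtype.val hh
  have hg1' : (g : R) ≠ 1 := fun h0 => hg1 (Subtype.ext h0)
  obtain ⟨V, hV⟩ : ∃ V : Subgroup R, ∀ a, a ∈ V ↔ a ∈ A₀ ∧ a ^ s = 1 := by
    refine ⟨{ carrier := {a | a ∈ A₀ ∧ a ^ s = 1}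
              one_mem' := ⟨A₀.one_mem, one_pow s⟩
              mul_mem' := ?_
              inv_mem' := ?_ }, fun a => Iff.rfl⟩
    · rintro a b ⟨ha, ha'⟩ ⟨hb, hb'⟩
      refine ⟨A₀.mul_mem ha hb, ?_⟩
      have hcomm : Commute a b := congrArg Subtype.val (mul_comm' (⟨a, ha⟩ : ↥A₀) ⟨b, hb⟩)
      rw [hcomm.mul_pow, ha', hb', one_mul]
    · rintro a ⟨ha, ha'⟩
      exact ⟨A₀.inv_mem ha, by rw [inv_pow, ha', inv_one]⟩
  haveI hVn : V.Normal := ⟨fun a ha t => by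
    rw [hV] at ha ⊢
    exact ⟨hA₀n.conj_mem a ha.1 t, by rw [conj_pow, ha.2]; simp⟩⟩
  have hVne : V ≠ ⊥ := by
    intro h0
    have : (g : R) ∈ V := (hV _).mpr ⟨g.2, hgs⟩
    rw [h0, Subgroup.mem_bot] at this
    exact hg1' this
  obtain ⟨c, hcV, hcc, hco⟩ := Cfsg.Agent.Lib.Helper9.Narrow1.exists_central hR V hVne
  have hcs : c ^ s = 1 := by rw [← hco]; exact pow_orderOf_eq_one c
  have hcz : c ∈ Subgroup.zpowers z := hc c hcc hcs
  have hzc : Subgroup.zpowers z = Subgroup.zpowers c := by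
    symm
    apply Subgroup.eq_of_le_of_card_ge (Subgroup.zpowers_le.mpr hcz)
    rw [Nat.card_zpowers, Nat.card_zpowers, hco, hordz]
  have hZV : Subgroup.zpowers z ≤ V := by
    rw [hzc]; exact Subgroup.zpowers_le.mpr hcV
  have hZneV : Subgroup.zpowers z ≠ V := by
    intro h0
    have hgV : (g : R) ∈ Subgroup.zpowers z := by rw [h0]; exact (hV _).mpr ⟨g.2, hgs⟩
    have hhV : (h : R) ∈ Subgroup.zpowers z := by rw [h0]; exact (hV _).mpr ⟨h.2, hhs⟩
    have hgz : Subgroup.zpowers (g : R) = Subgroup.zpowers z := by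
      apply Subgroup.eq_of_le_of_card_ge (Subgroup.zpowers_le.mpr hgV)
      rw [Nat.card_zpowers, Nat.card_zpowers, hordz, orderOf_eq_prime hgs hg1']
    rw [← hgz] at hhV
    obtain ⟨i, hi⟩ := Subgroup.mem_zpowers_iff.mp hhV
    apply hhg
    rw [Subgroup.mem_zpowers_iff]
    exact ⟨i, Subtype.ext (by rw [Subgroup.coe_zpow]; exact hi)⟩
  obtain ⟨M, hMn, hZM, hMV, hMcard, hMcen⟩ :=
    Cfsg.Agent.Lib.Helper9.Narrow1.exists_step hR (Subgroup.zpowers z) V
      (lt_of_le_of_ne hZV hZneV)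
  obtain ⟨x, hxM, hxZ⟩ : ∃ x ∈ M, x ∉ Subgroup.zpowers z := by
    by_contra h0
    push Not at h0
    have hle : M ≤ Subgroup.zpowers z := fun x hx => h0 x hx
    have h1 := Subgroup.card_le_of_le hle
    rw [hMcard] at h1
    have h2 : 0 < Nat.card ↥(Subgroup.zpowers z) := Nat.card_pos
    have h3 := hsp.two_le
    nlinarith
  refine ⟨x, hxZ, ((hV x).mp (hMV hxM)).2, fun t => ?_⟩
  have h1 : (QuotientGroup.mk' (Subgroup.zpowers z)) x ∈
      Subgroup.center (R ⧸ Subgroup.zpowers z) := hMcen ⟨x, hxM, rfl⟩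
  have h2 := Subgroup.mem_center_iff.mp h1 ((QuotientGroup.mk' (Subgroup.zpowers z)) t)
  have h3 : (QuotientGroup.mk' (Subgroup.zpowers z)) (x * t * x⁻¹ * t⁻¹) = 1 := by
    rw [map_mul, map_mul, map_mul, map_inv, map_inv, ← h2]
    group
  exact (QuotientGroup.eq_one_iff _).mp h3

theorem commute_zpowers {e z c : G} (h : e * z = z * e) (hc : c ∈ Subgroup.zpowers z) :
    e * c = c * e := by
  have hz : z ∈ Subgroup.centralizer ({e} : Set G) := by
    rw [Subgroup.mem_centralizer_iff]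
    intro h' hh'
    rw [Set.mem_singleton_iff] at hh'
    rw [hh']; exact h
  exact Subgroup.mem_centralizer_iff.mp ((Subgroup.zpowers_le.mpr hz) hc) e (Set.mem_singleton e)

theorem pow_eq_one_of_mem_zpowers {z c : G} {s : ℕ} (hzs : z ^ s = 1)
    (hc : c ∈ Subgroup.zpowers z) : c ^ s = 1 := by
  obtain ⟨i, rfl⟩ := Subgroup.mem_zpowers_iff.mp hc
  rw [← zpow_natCast, ← zpow_mul, mul_comm, zpow_mul, zpow_natCast, hzs, one_zpow]

theorem comm_eq_one {z g : G} (h : g * z = z * g) : z * g * z⁻¹ * g⁻¹ = 1 := by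
  rw [← h]; group

/-- For a central element `z` of order `s` of `X` (`s` odd): the elements `x ∈ X` with
`x ^ s = 1` all of whose commutators with `X` lie in `⟨z⟩`. -/
def n2 (s : ℕ) [Fact s.Prime] (hs2 : s ≠ 2) (X : Subgroup G) (z : G)
    (hzc : z ∈ Subgroup.centralizer (X : Set G)) (hzs : z ^ s = 1) : Subgroup G where
  carrier := {x | x ∈ X ∧ x ^ s = 1 ∧ ∀ g ∈ X, x * g * x⁻¹ * g⁻¹ ∈ Subgroup.zpowers z}
  one_mem' := ⟨X.one_mem, one_pow s, fun g _ => by simp⟩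
  mul_mem' := by
    rintro a b ⟨ha, has, hac⟩ ⟨hb, hbs, hbc⟩
    have hcen : ∀ c ∈ Subgroup.zpowers z, ∀ g ∈ X, g * c = c * g := fun c hc g hg =>
      commute_zpowers (Subgroup.mem_centralizer_iff.mp hzc g hg) hc
    refine ⟨X.mul_mem ha hb, ?_, fun g hg => ?_⟩
    · have hc := hac b hb
      have hca : Commute (a * b * a⁻¹ * b⁻¹) a := (hcen _ hc a ha).symm
      have hcb : Commute (a * b * a⁻¹ * b⁻¹) b := (hcen _ hc b hb).symm
      have h1 : a * b = b * a * (a * b * a⁻¹ * b⁻¹) := by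
        rw [← (hcb.mul_right hca).eq]; group
      have h2 := Cfsg.Agent.Lib.Helper54.UniqueSubgroup.mul_pow_of_central h1 hca hcb s
      have hcs : (a * b * a⁻¹ * b⁻¹) ^ s = 1 := pow_eq_one_of_mem_zpowers hzs hc
      have h4 : s ∣ s.choose 2 := (Fact.out : s.Prime).dvd_choose_self (by norm_num)
        (lt_of_le_of_ne (Fact.out : s.Prime).two_le (Ne.symm hs2))
      obtain ⟨m, hm⟩ := h4
      rw [hm, pow_mul, hcs, one_pow, mul_one, has, hbs, one_mul] at h2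
      exact h2
    · have h1 := hbc g hg
      have h2 := hac g hg
      have h3 : a * (b * g * b⁻¹ * g⁻¹) * a⁻¹ = b * g * b⁻¹ * g⁻¹ := by
        rw [hcen _ h1 a ha, mul_inv_cancel_right]
      have e : a * b * g * (a * b)⁻¹ * g⁻¹ =
          (a * (b * g * b⁻¹ * g⁻¹) * a⁻¹) * (a * g * a⁻¹ * g⁻¹) := by group
      rw [e, h3]; exact mul_mem h1 h2
  inv_mem' := by
    rintro a ⟨ha, has, hac⟩
    have hcen : ∀ c ∈ Subgroup.zpowers z, ∀ g ∈ X, g * c = c * g := fun c hc g hg =>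
      commute_zpowers (Subgroup.mem_centralizer_iff.mp hzc g hg) hc
    refine ⟨X.inv_mem ha, by rw [inv_pow, has, inv_one], fun g hg => ?_⟩
    have h1 := inv_mem (hac g hg)
    have h3 : a⁻¹ * (a * g * a⁻¹ * g⁻¹)⁻¹ * a⁻¹⁻¹ = (a * g * a⁻¹ * g⁻¹)⁻¹ := by
      rw [hcen _ h1 a⁻¹ (X.inv_mem ha), mul_inv_cancel_right]
    have e : a⁻¹ * g * a⁻¹⁻¹ * g⁻¹ = a⁻¹ * (a * g * a⁻¹ * g⁻¹)⁻¹ * a⁻¹⁻¹ := by group
    rw [e, h3]; exact h1

theorem mem_n2 (s : ℕ) [Fact s.Prime] (hs2 : s ≠ 2) (X : Subgroup G) (z : G)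
    (hzc : z ∈ Subgroup.centralizer (X : Set G)) (hzs : z ^ s = 1) (x : G) :
    x ∈ n2 s hs2 X z hzc hzs ↔
      x ∈ X ∧ x ^ s = 1 ∧ ∀ g ∈ X, x * g * x⁻¹ * g⁻¹ ∈ Subgroup.zpowers z := Iff.rfl

/-- The construction of a normal elementary abelian subgroup of order `s ^ 2`: `X` a noncyclic
`s`-subgroup (`s` odd), `z ∈ Z(X)` of order `s`, `F` an elementary abelian `p`-subgroup
(`p ≠ s`) of order at least `p ^ (k + 1)` normalizing `X` and centralizing `z`.  Then some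
`D ≤ F` of order at least `p ^ k` centralizes a normal elementary abelian subgroup `Y ∋ z` of
`X` of order `s ^ 2`. -/
theorem exists_normal_rank_two [Finite G] {s p : ℕ} [Fact s.Prime] [Fact p.Prime] (hs2 : s ≠ 2)
    (hsp : s ≠ p) (X F : Subgroup G) (hX : IsPGroup s ↥X) (hXnc : ¬ IsCyclic ↥X)
    (z : G) (hzX : z ∈ X) (hzc : z ∈ Subgroup.centralizer (X : Set G)) (hz1 : z ≠ 1)
    (hzs : z ^ s = 1)
    (hFc : ∀ x ∈ F, ∀ y ∈ F, x * y = y * x) (hFp : ∀ x ∈ F, x ^ p = 1)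
    (hFX : F ≤ Subgroup.normalizer (X : Set G)) (hFz : ∀ e ∈ F, e * z = z * e)
    (k : ℕ) (hk : p ^ (k + 1) ≤ Nat.card ↥F) :
    ∃ D : Subgroup G, D ≤ F ∧ p ^ k ≤ Nat.card ↥D ∧ ∃ Y : Subgroup G, Y ≤ X ∧
      X ≤ Subgroup.normalizer (Y : Set G) ∧ Cfsg.IsElementaryAbelian s Y ∧
      Nat.card ↥Y = s ^ 2 ∧ z ∈ Y ∧ ∀ d ∈ D, ∀ y ∈ Y, d * y = y * d := by
  have hsP : s.Prime := Fact.out
  have hpP : p.Prime := Fact.out
  have hcenX : ∀ c ∈ Subgroup.zpowers z, ∀ g ∈ X, g * c = c * g := fun c hc g hg =>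
    commute_zpowers (Subgroup.mem_centralizer_iff.mp hzc g hg) hc
  obtain ⟨N₂, hN₂⟩ : ∃ N₂ : Subgroup G, N₂ = n2 s hs2 X z hzc hzs := ⟨_, rfl⟩
  have hmem : ∀ x, x ∈ N₂ ↔
      x ∈ X ∧ x ^ s = 1 ∧ ∀ g ∈ X, x * g * x⁻¹ * g⁻¹ ∈ Subgroup.zpowers z := by
    intro x; rw [hN₂]; exact mem_n2 s hs2 X z hzc hzs x
  have hN₂X : N₂ ≤ X := fun x hx => ((hmem x).mp hx).1
  have hzN₂ : z ∈ N₂ := (hmem z).mpr ⟨hzX, hzs, fun g hg => by
    rw [comm_eq_one (Subgroup.mem_centralizer_iff.mp hzc g hg)]; exact one_mem _⟩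
  have hzcen : (⟨z, hzX⟩ : ↥X) ∈ Subgroup.center ↥X := by
    rw [Subgroup.mem_center_iff]
    intro g
    apply Subtype.ext
    exact Subgroup.mem_centralizer_iff.mp hzc g g.2
  have hz1' : (⟨z, hzX⟩ : ↥X) ≠ 1 := fun h => hz1 (congrArg Subtype.val h)
  have hzs' : (⟨z, hzX⟩ : ↥X) ^ s = 1 := Subtype.ext (by simpa using hzs)
  have hzp : ∀ (x : ↥X), x ∈ Subgroup.zpowers (⟨z, hzX⟩ : ↥X) ↔ (x : G) ∈ Subgroup.zpowers z := by
    intro x
    rw [Subgroup.mem_zpowers_iff, Subgroup.mem_zpowers_iff]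
    constructor
    · rintro ⟨i, hi⟩
      refine ⟨i, ?_⟩
      have := congrArg Subtype.val hi
      simpa using this
    · rintro ⟨i, hi⟩
      exact ⟨i, Subtype.ext (by simpa using hi)⟩
  obtain ⟨x₀, hx₀N, hx₀Z⟩ : ∃ x ∈ N₂, x ∉ Subgroup.zpowers z := by
    obtain ⟨x, hxZ, hxs, hxc⟩ := exists_central_mod (R := ↥X) hs2 hX hXnc ⟨z, hzX⟩ hzcen hz1' hzs'
    refine ⟨(x : G), (hmem _).mpr ⟨x.2, by exact_mod_cast congrArg Subtype.val hxs,
      fun g hg => ?_⟩, fun h => hxZ ((hzp x).mpr h)⟩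
    have := (hzp _).mp (hxc ⟨g, hg⟩)
    simpa using this
  have hN₂s : IsPGroup s ↥N₂ := hX.to_le hN₂X
  have hN₂p : ¬ p ∣ Nat.card ↥N₂ := by
    obtain ⟨j, hj⟩ := hN₂s.exists_card_eq
    rw [hj]
    intro h
    exact hsp ((Nat.prime_dvd_prime_iff_eq hpP hsP).mp (hpP.dvd_of_dvd_pow h)).symm
  have hFN₂ : F ≤ Subgroup.normalizer (N₂ : Set G) := by
    intro e he
    apply Transfer.mem_normalizer_of_conj_mem
    intro x hx
    obtain ⟨hxX, hxs, hxc⟩ := (hmem x).mp hx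
    refine (hmem _).mpr ⟨(Subgroup.mem_normalizer_iff.mp (hFX he) x).mp hxX,
      by rw [conj_pow, hxs]; simp, fun g hg => ?_⟩
    have hg' : e⁻¹ * g * e ∈ X := by
      have := (Subgroup.mem_normalizer_iff.mp (inv_mem (hFX he)) g).mp hg
      simpa using this
    have h1 := hxc _ hg'
    have h2 : e * (x * (e⁻¹ * g * e) * x⁻¹ * (e⁻¹ * g * e)⁻¹) * e⁻¹ =
        x * (e⁻¹ * g * e) * x⁻¹ * (e⁻¹ * g * e)⁻¹ := by
      rw [commute_zpowers (hFz e he) h1, mul_inv_cancel_right]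
    have e' : e * x * e⁻¹ * g * (e * x * e⁻¹)⁻¹ * g⁻¹ =
        e * (x * (e⁻¹ * g * e) * x⁻¹ * (e⁻¹ * g * e)⁻¹) * e⁻¹ := by group
    rw [e', h2]; exact h1
  obtain ⟨D, hDF, hDk, x, hxN, hxZ, hDx⟩ := exists_cent_not_le F N₂ (Subgroup.zpowers z) hFc hFp
    hN₂p hFN₂ k hk (fun h => hx₀Z (h hx₀N))
  obtain ⟨hxX, hxs, hxc⟩ := (hmem x).mp hxN
  have hzxY : z ∈ Subgroup.zpowers z ⊔ Subgroup.zpowers x :=
    Subgroup.mem_sup_left (Subgroup.mem_zpowers z)
  have hxxY : x ∈ Subgroup.zpowers z ⊔ Subgroup.zpowers x :=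
    Subgroup.mem_sup_right (Subgroup.mem_zpowers x)
  have hYN₂ : Subgroup.zpowers z ⊔ Subgroup.zpowers x ≤ N₂ :=
    sup_le (Subgroup.zpowers_le.mpr hzN₂) (Subgroup.zpowers_le.mpr hxN)
  have hxz : x * z = z * x := Subgroup.mem_centralizer_iff.mp hzc x hxX
  have hYc : ∀ a ∈ Subgroup.zpowers z ⊔ Subgroup.zpowers x,
      ∀ b ∈ Subgroup.zpowers z ⊔ Subgroup.zpowers x, a * b = b * a := by
    have h1 : Subgroup.zpowers z ⊔ Subgroup.zpowers x ≤
        Subgroup.centralizer ({z} : Set G) ⊓ Subgroup.centralizer ({x} : Set G) := by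
      apply sup_le
      · rw [Subgroup.zpowers_le]
        refine Subgroup.mem_inf.mpr ⟨?_, ?_⟩
        · rw [Subgroup.mem_centralizer_iff]; intro h hh; rw [Set.mem_singleton_iff] at hh; rw [hh]
        · rw [Subgroup.mem_centralizer_iff]; intro h hh; rw [Set.mem_singleton_iff] at hh; rw [hh]
          exact hxz
      · rw [Subgroup.zpowers_le]
        refine Subgroup.mem_inf.mpr ⟨?_, ?_⟩
        · rw [Subgroup.mem_centralizer_iff]; intro h hh; rw [Set.mem_singleton_iff] at hh; rw [hh]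
          exact hxz.symm
        · rw [Subgroup.mem_centralizer_iff]; intro h hh; rw [Set.mem_singleton_iff] at hh; rw [hh]
    intro a ha b hb
    have ha' := Subgroup.mem_inf.mp (h1 ha)
    have haz : z * a = a * z :=
      Subgroup.mem_centralizer_iff.mp ha'.1 z (Set.mem_singleton z)
    have hax : x * a = a * x :=
      Subgroup.mem_centralizer_iff.mp ha'.2 x (Set.mem_singleton x)
    have h2 : Subgroup.zpowers z ⊔ Subgroup.zpowers x ≤ Subgroup.centralizer ({a} : Set G) := by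
      apply sup_le
      · rw [Subgroup.zpowers_le, Subgroup.mem_centralizer_iff]
        intro h hh; rw [Set.mem_singleton_iff] at hh; rw [hh]; exact haz.symm
      · rw [Subgroup.zpowers_le, Subgroup.mem_centralizer_iff]
        intro h hh; rw [Set.mem_singleton_iff] at hh; rw [hh]; exact hax.symm
    exact Subgroup.mem_centralizer_iff.mp (h2 hb) a (Set.mem_singleton a)
  refine ⟨D, hDF, hDk, Subgroup.zpowers z ⊔ Subgroup.zpowers x, hYN₂.trans hN₂X, ?_,
    ⟨⟨⟨fun a b => Subtype.ext (hYc a a.2 b b.2)⟩⟩, fun a ha => ((hmem a).mp (hYN₂ ha)).2.1⟩,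
    ?_, hzxY, ?_⟩
  · intro g hg
    apply Transfer.mem_normalizer_of_conj_mem
    have hle : Subgroup.zpowers z ⊔ Subgroup.zpowers x ≤
        (Subgroup.zpowers z ⊔ Subgroup.zpowers x).comap (MulAut.conj g).toMonoidHom := by
      apply sup_le
      · rw [Subgroup.zpowers_le, Subgroup.mem_comap]
        show g * z * g⁻¹ ∈ _
        rw [Subgroup.mem_centralizer_iff.mp hzc g hg, mul_inv_cancel_right]
        exact hzxY
      · rw [Subgroup.zpowers_le, Subgroup.mem_comap]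
        show g * x * g⁻¹ ∈ _
        have h1 := hxc g hg
        have e : g * x * g⁻¹ = (x * g * x⁻¹ * g⁻¹)⁻¹ * x := by group
        rw [e]
        exact mul_mem (Subgroup.mem_sup_left (inv_mem h1)) hxxY
    intro y hy
    exact hle hy
  · haveI hZn : (Subgroup.zpowers (⟨z, hzX⟩ : ↥X)).Normal := ⟨fun n hn g => by
      have h := Subgroup.mem_center_iff.mp ((Subgroup.zpowers_le.mpr hzcen) hn) g
      rw [h, mul_inv_cancel_right]
      exact hn⟩
    have hxn : (⟨x, hxX⟩ : ↥X) ∉ Subgroup.zpowers (⟨z, hzX⟩ : ↥X) := fun h => hxZ ((hzp _).mp h)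
    have hxs' : (⟨x, hxX⟩ : ↥X) ^ s = 1 := Subtype.ext (by simpa using hxs)
    have h1 := Cfsg.Agent.Lib.Helper24.PGroupBasic.card_sup_zpowers hxn hxs'
    rw [Nat.card_zpowers, orderOf_eq_prime hzs' hz1'] at h1
    have h2 : (Subgroup.zpowers (⟨z, hzX⟩ : ↥X) ⊔ Subgroup.zpowers (⟨x, hxX⟩ : ↥X)).map
        X.subtype = Subgroup.zpowers z ⊔ Subgroup.zpowers x := by
      rw [Subgroup.map_sup, MonoidHom.map_zpowers, MonoidHom.map_zpowers]
      rfl
    rw [← h2, Subgroup.card_map_of_injective X.subtype_injective, h1, sq]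
  · intro d hd y hy
    have h2 : Subgroup.zpowers z ⊔ Subgroup.zpowers x ≤ Subgroup.centralizer ({d} : Set G) := by
      apply sup_le
      · rw [Subgroup.zpowers_le, Subgroup.mem_centralizer_iff]
        intro h hh; rw [Set.mem_singleton_iff] at hh; rw [hh]; exact hFz d (hDF hd)
      · rw [Subgroup.zpowers_le, Subgroup.mem_centralizer_iff]
        intro h hh; rw [Set.mem_singleton_iff] at hh; rw [hh]; exact hDx d hd
    exact Subgroup.mem_centralizer_iff.mp (h2 hy) d (Set.mem_singleton d)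

/-- The normalizer of `X` normalizes the centre of `X`. -/
theorem normalizer_le_normalizer_centre [Finite G] (X : Subgroup G) :
    Subgroup.normalizer (X : Set G) ≤
      Subgroup.normalizer ((X ⊓ Subgroup.centralizer (X : Set G) : Subgroup G) : Set G) := by
  intro e he
  apply Transfer.mem_normalizer_of_conj_mem
  intro c hc
  obtain ⟨hcX, hcC⟩ := Subgroup.mem_inf.mp hc
  refine Subgroup.mem_inf.mpr ⟨(Subgroup.mem_normalizer_iff.mp he c).mp hcX, ?_⟩
  rw [Subgroup.mem_centralizer_iff]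
  intro g hg
  have hg' : e⁻¹ * g * e ∈ X := by
    have := (Subgroup.mem_normalizer_iff.mp (inv_mem he) g).mp hg
    simpa using this
  have h1 := Subgroup.mem_centralizer_iff.mp hcC _ hg'
  calc g * (e * c * e⁻¹) = e * ((e⁻¹ * g * e) * c) * e⁻¹ := by group
    _ = e * (c * (e⁻¹ * g * e)) * e⁻¹ := by rw [h1]
    _ = e * c * e⁻¹ * g := by group

/-- **Claim S.**  `X` a noncyclic `s`-subgroup (`s` odd), `E` an elementary abelian
`p`-subgroup (`p ≠ s`) of order at least `p ^ 3` normalizing `X`.  Then some `b ∈ E`, `b ≠ 1`,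
centralizes a normal elementary abelian subgroup of `X` of order `s ^ 2`. -/
theorem exists_elt_normal_rank_two [Finite G] {s p : ℕ} [Fact s.Prime] [Fact p.Prime]
    (hs2 : s ≠ 2) (hsp : s ≠ p) (X E : Subgroup G) (hX : IsPGroup s ↥X) (hXnc : ¬ IsCyclic ↥X)
    (hEc : ∀ x ∈ E, ∀ y ∈ E, x * y = y * x) (hEp : ∀ x ∈ E, x ^ p = 1)
    (hEX : E ≤ Subgroup.normalizer (X : Set G)) (hE3 : p ^ 3 ≤ Nat.card ↥E) :
    ∃ b ∈ E, b ≠ 1 ∧ ∃ Y : Subgroup G, Y ≤ X ∧ X ≤ Subgroup.normalizer (Y : Set G) ∧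
      Cfsg.IsElementaryAbelian s Y ∧ Nat.card ↥Y = s ^ 2 ∧ ∀ y ∈ Y, b * y = y * b := by
  have hsP : s.Prime := Fact.out
  have hpP : p.Prime := Fact.out
  have hXne : X ≠ ⊥ := by
    intro h
    apply hXnc
    haveI : Subsingleton ↥X := by rw [h]; infer_instance
    exact isCyclic_of_subsingleton
  have hZne : ¬ (X ⊓ Subgroup.centralizer (X : Set G)) ≤ ⊥ := fun h =>
    CoprimeConj.inf_centralizer_ne_bot s X hX hXne (le_bot_iff.mp h)
  have hZp : ¬ p ∣ Nat.card ↥(X ⊓ Subgroup.centralizer (X : Set G)) := by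
    obtain ⟨j, hj⟩ := (hX.to_le (inf_le_left : X ⊓ Subgroup.centralizer (X : Set G) ≤ X)).exists_card_eq
    rw [hj]
    intro h
    exact hsp ((Nat.prime_dvd_prime_iff_eq hpP hsP).mp (hpP.dvd_of_dvd_pow h)).symm
  obtain ⟨D₁, hD₁E, hD₁k, c, hcZ, hc1, hD₁c⟩ := exists_cent_not_le E
    (X ⊓ Subgroup.centralizer (X : Set G)) ⊥ hEc hEp hZp
    (hEX.trans (normalizer_le_normalizer_centre X)) 2 hE3 hZne
  obtain ⟨hcX, hcC⟩ := Subgroup.mem_inf.mp hcZ
  have hc1' : (⟨c, hcX⟩ : ↥X) ≠ 1 := fun h => hc1 (by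
    rw [Subgroup.mem_bot]; exact congrArg Subtype.val h)
  obtain ⟨m, hm1, hms⟩ := Cfsg.Agent.Lib.Helper54.UniqueSubgroup.exists_pow_prime hX hc1'
  have hz1 : c ^ m ≠ 1 := fun h => hm1 (Subtype.ext (by simpa using h))
  have hzs : (c ^ m) ^ s = 1 := by
    have := congrArg Subtype.val hms
    simpa using this
  have hzX : c ^ m ∈ X := pow_mem hcX m
  have hzc : c ^ m ∈ Subgroup.centralizer (X : Set G) := pow_mem hcC m
  have hD₁z : ∀ e ∈ D₁, e * c ^ m = c ^ m * e := fun e he =>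
    commute_zpowers (hD₁c e he) (Subgroup.npow_mem_zpowers c m)
  obtain ⟨D, hDD₁, hDk, Y, hYX, hXY, hYe, hYc, -, hDY⟩ := exists_normal_rank_two hs2 hsp X D₁ hX
    hXnc (c ^ m) hzX hzc hz1 hzs (fun x hx y hy => hEc x (hD₁E hx) y (hD₁E hy))
    (fun x hx => hEp x (hD₁E hx)) (hD₁E.trans hEX) hD₁z 1 hD₁k
  obtain ⟨b, hb, hb1⟩ : ∃ b ∈ D, b ≠ 1 := by
    by_contra h
    push Not at h
    have hD : D = ⊥ := by
      rw [eq_bot_iff]; intro x hx; rw [Subgroup.mem_bot]; exact h x hx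
    rw [hD, Subgroup.card_bot, pow_one] at hDk
    exact absurd hDk (not_le.mpr hpP.one_lt)
  exact ⟨b, hD₁E (hDD₁ hb), hb1, Y, hYX, hXY, hYe, hYc, fun y hy => hDY b hb y hy⟩

end Cfsg.Agent.Lib.Helper50.BG95b
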