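import Mathlib
import Cfsg.Agent.Lib.Helper50.CoprimeConj
import Cfsg.Agent.Lib.Helper23.Transitivity3
import Cfsg.Agent.S1451

set_option autoImplicit false

/-!
helper50: pieces for Bender–Glauberman Lemma 9.5 (S1402), part 3.

* `pRankLE_of_injective`, `rankLE_of_injective` : ranks along injective homomorphisms.
* `le_normalizer_commutator` : `L ≤ N(L')`.
* `pelement_derived_centralizes` : if `L'` is nilpotent, every `p`-element of `L'` centralizes
  every normal `p'`-subgroup of `L`.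
* `pelement_derived_centralizes'` : the same for `L` solvable of odd order with `F(L)` (or `L`)
  of rank at most 2 (via S1451).
-/

namespace Cfsg.Agent.Lib.Helper50.BG95c

open Cfsg.Agent.Lib.Helper50

variable {G : Type*} [Group G]

theorem pRankLE_of_injective {X Y : Type*} [Group X] [Group Y] (f : X →* Y)
    (hf : Function.Injective f) {p k : ℕ} (h : Cfsg.PRankLE p k Y) : Cfsg.PRankLE p k X := by
  intro A hAc hAe
  have h1 := h (A.map f) ⟨⟨by
      rintro ⟨_, x, hx, rfl⟩ ⟨_, y, hy, rfl⟩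
      apply Subtype.ext
      have h2 : x * y = y * x := congrArg Subtype.val (mul_comm' (⟨x, hx⟩ : ↥A) ⟨y, hy⟩)
      show f x * f y = f y * f x
      rw [← map_mul, h2, map_mul]⟩⟩ (by
      rintro _ ⟨x, hx, rfl⟩
      rw [← map_pow, hAe x hx, map_one])
  rwa [Subgroup.card_map_of_injective hf] at h1

theorem rankLE_of_injective {X Y : Type*} [Group X] [Group Y] (f : X →* Y)
    (hf : Function.Injective f) {k : ℕ} (h : Cfsg.RankLE k Y) : Cfsg.RankLE k X :=
  fun p hp => pRankLE_of_injective f hf (h p hp)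

/-- `L` normalizes its derived subgroup. -/
theorem le_normalizer_commutator [Finite G] (L : Subgroup G) :
    L ≤ Subgroup.normalizer ((⁅L, L⁆ : Subgroup G) : Set G) := by
  intro g hg
  apply Transfer.mem_normalizer_of_conj_mem
  intro x hx
  have h1 : (⁅L, L⁆ : Subgroup G).map (MulAut.conj g).toMonoidHom = ⁅L, L⁆ := by
    rw [Subgroup.map_commutator,
      Cfsg.Agent.Lib.Helper23.Transitivity3.map_conj_eq_of_mem_normalizer (Subgroup.le_normalizer hg)]
  rw [← h1]; exact ⟨x, hx, rfl⟩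

theorem commutator_le_self (L : Subgroup G) : (⁅L, L⁆ : Subgroup G) ≤ L :=
  Subgroup.commutator_le.mpr (fun _ h₁ _ h₂ =>
    L.mul_mem (L.mul_mem (L.mul_mem h₁ h₂) (L.inv_mem h₁)) (L.inv_mem h₂))

/-- If the derived subgroup of `L` is nilpotent, every `p`-element of `L'` centralizes every
normal `p'`-subgroup of `L`. -/
theorem pelement_derived_centralizes [Finite G] {p : ℕ} [Fact p.Prime] (L W : Subgroup G)
    (hnil : Group.IsNilpotent ↥(⁅L, L⁆ : Subgroup G))
    (hWL : W ≤ L) (hLW : L ≤ Subgroup.normalizer (W : Set G)) (hWp : ¬ p ∣ Nat.card ↥W)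
    (d : G) (hd : d ∈ (⁅L, L⁆ : Subgroup G)) (k : ℕ) (hdk : d ^ p ^ k = 1) :
    d ∈ Subgroup.centralizer (W : Set G) := by
  have hpP : p.Prime := Fact.out
  obtain ⟨D, hD⟩ : ∃ D : Subgroup G, D = ⁅L, L⁆ := ⟨_, rfl⟩
  rw [← hD] at hnil hd
  have hDL : D ≤ L := hD ▸ commutator_le_self L
  have hLD : L ≤ Subgroup.normalizer (D : Set G) := hD ▸ le_normalizer_commutator L
  obtain ⟨P⟩ : Nonempty (Sylow p ↥D) := inferInstance
  have hPn : (P : Subgroup ↥D).Normal := inferInstance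
  have hPc : (P : Subgroup ↥D).Characteristic := Sylow.characteristic_of_normal P hPn
  have hd'k : (⟨d, hd⟩ : ↥D) ^ p ^ k = 1 := Subtype.ext (by simpa using hdk)
  have hdP : (⟨d, hd⟩ : ↥D) ∈ (P : Subgroup ↥D) := by
    have hz : IsPGroup p ↥(Subgroup.zpowers (⟨d, hd⟩ : ↥D)) := by
      rintro ⟨g, hg⟩
      obtain ⟨i, rfl⟩ := Subgroup.mem_zpowers_iff.mp hg
      refine ⟨k, Subtype.ext ?_⟩
      show ((⟨d, hd⟩ : ↥D) ^ i) ^ p ^ k = 1
      rw [← zpow_natCast, ← zpow_mul, mul_comm, zpow_mul, zpow_natCast, hd'k, one_zpow]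
    obtain ⟨Q, hQ⟩ := hz.exists_le_sylow
    haveI := Sylow.unique_of_normal P hPn
    have hQP : Q = P := Subsingleton.elim Q P
    rw [← hQP]; exact hQ (Subgroup.mem_zpowers _)
  have hQp : IsPGroup p ↥((P : Subgroup ↥D).map D.subtype) := P.isPGroup'.map D.subtype
  have hdQ : d ∈ (P : Subgroup ↥D).map D.subtype := ⟨⟨d, hd⟩, hdP, rfl⟩
  have hLQ : ∀ g ∈ L, ∀ x ∈ (P : Subgroup ↥D).map D.subtype,
      g * x * g⁻¹ ∈ (P : Subgroup ↥D).map D.subtype := by
    rintro g hg _ ⟨y, hy, rfl⟩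
    have h1 := hPc.fixed (CoprimeConj.conjAut D g (hLD hg))
    have h2 : y ∈ (P : Subgroup ↥D).comap (CoprimeConj.conjAut D g (hLD hg)).toMonoidHom := by
      rw [h1]; exact hy
    exact ⟨CoprimeConj.conjAut D g (hLD hg) y, Subgroup.mem_comap.mp h2, rfl⟩
  have hWcop : (Nat.card ↥W).Coprime p :=
    Nat.Coprime.symm ((Nat.Prime.coprime_iff_not_dvd hpP).mpr hWp)
  rw [Subgroup.mem_centralizer_iff]
  intro w hw
  have hdL : d ∈ L := hDL hd
  have hc1 : d * w * d⁻¹ * w⁻¹ ∈ W :=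
    W.mul_mem ((Subgroup.mem_normalizer_iff.mp (hLW hdL) w).mp hw) (W.inv_mem hw)
  have hc2 : d * w * d⁻¹ * w⁻¹ ∈ (P : Subgroup ↥D).map D.subtype := by
    have h1 := hLQ w (hWL hw) d⁻¹ (inv_mem hdQ)
    have e : d * w * d⁻¹ * w⁻¹ = d * (w * d⁻¹ * w⁻¹) := by group
    rw [e]; exact mul_mem hdQ h1
  have hc : d * w * d⁻¹ * w⁻¹ = 1 :=
    CoprimeConj.eq_one_of_mem_of_mem W _ hWcop hQp _ hc1 hc2
  calc w * d = (d * w * d⁻¹ * w⁻¹)⁻¹ * (d * w) := by group
    _ = d * w := by rw [hc, inv_one, one_mul]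

/-- `L` solvable of odd order with `L` or `F(L)` of rank at most 2: every `p`-element of `L'`
centralizes every normal `p'`-subgroup of `L`. -/
theorem pelement_derived_centralizes' [Finite G] {p : ℕ} [Fact p.Prime] (L W : Subgroup G)
    (hLodd : Odd (Nat.card ↥L)) (hLsol : Group.IsSolvable ↥L)
    (hr : Cfsg.RankLE 2 ↥L ∨ Cfsg.RankLE 2 ↥(Cfsg.fittingOf L))
    (hWL : W ≤ L) (hLW : L ≤ Subgroup.normalizer (W : Set G)) (hWp : ¬ p ∣ Nat.card ↥W)
    (d : G) (hd : d ∈ (⁅L, L⁆ : Subgroup G)) (k : ℕ) (hdk : d ^ p ^ k = 1) :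
    d ∈ Subgroup.centralizer (W : Set G) := by
  have hr' : Cfsg.RankLE 2 ↥L ∨ Cfsg.RankLE 2 ↥(Cfsg.fittingSubgroup ↥L) := by
    rcases hr with h | h
    · exact Or.inl h
    · right
      exact rankLE_of_injective
        ((Cfsg.fittingSubgroup ↥L).equivMapOfInjective L.subtype L.subtype_injective).toMonoidHom
        ((Cfsg.fittingSubgroup ↥L).equivMapOfInjective L.subtype L.subtype_injective).injective h
  have h1 := (Cfsg.Agent.S1451.result (G := ↥L) hLodd hr').1
  have hnil : Group.IsNilpotent ↥(⁅L, L⁆ : Subgroup G) := by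
    rw [← Subgroup.map_subtype_commutator]
    exact (Group.isNilpotent_congr
      ((commutator ↥L).equivMapOfInjective L.subtype L.subtype_injective)).mp h1
  exact pelement_derived_centralizes L W hnil hWL hLW hWp d hd k hdk

end Cfsg.Agent.Lib.Helper50.BG95c
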