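import Mathlib
import Cfsg.Agent.S1476
import Cfsg.Agent.S1477
import Cfsg.Agent.Lib.Helper50.Cores

/-! Basic structure facts for finite CN-groups of odd order: three-step groups with respect to a
prime, the Frobenius-type case and the refined trichotomy for solvable CN-groups. -/

set_option autoImplicit false
set_option linter.unusedVariables false
set_option linter.unusedSectionVars false

namespace Cfsg.Agent.Lib.Helper50.CNBase

open Subgroup
open Cfsg.Agent.Lib.Helper50.Cores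

universe u

theorem exists_ne_one_of_ne_bot {G : Type*} [Group G] {H : Subgroup G} (h : H ≠ ⊥) :
    ∃ x ∈ H, x ≠ 1 := by
  obtain ⟨x, hx⟩ := (Subgroup.ne_bot_iff_exists_ne_one).mp h
  exact ⟨x, x.2, fun h0 => hx (Subtype.ext h0)⟩

section threestep

variable {X : Type*} [Group X] [Finite X] {p : ℕ} [Fact p.Prime]

/-- In a three-step group with respect to the prime `p`, `O_p` contains its centralizer. -/
theorem ts_centralizer_le (h : Cfsg.IsThreeStepGroup p X) :
    Subgroup.centralizer (Cfsg.pCore p X : Set X) ≤ Cfsg.pCore p X := by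
  obtain ⟨hU, A, hA1, hAc, hAodd, hAcop, hVn, hVtop, ⟨n, hn⟩, hfpf, hlast⟩ := h
  have hUp : IsPGroup p (Cfsg.pCore p X) := pCore_isPGroup p
  have hUn : (Cfsg.pCore p X).Normal := inferInstance
  have hnt : Nontrivial ↥(Cfsg.pCore p X) := (Subgroup.nontrivial_iff_ne_bot _).mpr hU
  have hcnt := hUp.center_nontrivial
  obtain ⟨z, hz1⟩ := exists_ne (1 : Subgroup.center ↥(Cfsg.pCore p X))
  have hzU : ((z : ↥(Cfsg.pCore p X)) : X) ∈ Cfsg.pCore p X := (z : ↥(Cfsg.pCore p X)).2
  have hz1' : ((z : ↥(Cfsg.pCore p X)) : X) ≠ 1 := by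
    intro h0
    apply hz1
    apply Subtype.ext
    apply Subtype.ext
    simpa using h0
  have hzc : ∀ u ∈ Cfsg.pCore p X, u * ((z : ↥(Cfsg.pCore p X)) : X) =
      ((z : ↥(Cfsg.pCore p X)) : X) * u := by
    intro u hu
    have := Subgroup.mem_center_iff.mp z.2 ⟨u, hu⟩
    exact congrArg Subtype.val this
  have hCp : IsPGroup p ↥(Subgroup.centralizer (Cfsg.pCore p X : Set X)) := by
    rintro ⟨c, hc⟩
    have h1 : c ^ p ^ n ∈ Cfsg.pCore p X ⊔ A := by
      have h2 : ((c ^ p ^ n : X) : X ⧸ (Cfsg.pCore p X ⊔ A)) = 1 := by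
        rw [QuotientGroup.mk_pow]
        have hcard : Nat.card (X ⧸ (Cfsg.pCore p X ⊔ A)) = p ^ n := hn
        rw [← hcard]
        exact pow_card_eq_one'
      exact (QuotientGroup.eq_one_iff _).mp h2
    rw [← SetLike.mem_coe, Subgroup.normal_mul] at h1
    obtain ⟨u, hu, a, ha, hua⟩ := Set.mem_mul.mp h1
    have hd : c ^ p ^ n ∈ Subgroup.centralizer (Cfsg.pCore p X : Set X) := pow_mem hc _
    have ha1 : a = 1 := by
      by_contra hne
      have h3 := Subgroup.mem_centralizer_iff.mp hd _ hzU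
      rw [← hua] at h3
      have h4 := hzc u hu
      have h5 : ((z : ↥(Cfsg.pCore p X)) : X) * a = a * ((z : ↥(Cfsg.pCore p X)) : X) := by
        have : u * (((z : ↥(Cfsg.pCore p X)) : X) * a) = u * (a * ((z : ↥(Cfsg.pCore p X)) : X)) := by
          calc u * (((z : ↥(Cfsg.pCore p X)) : X) * a)
              = (u * ((z : ↥(Cfsg.pCore p X)) : X)) * a := by group
            _ = ((z : ↥(Cfsg.pCore p X)) : X) * u * a := by rw [h4]
            _ = ((z : ↥(Cfsg.pCore p X)) : X) * (u * a) := by group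
            _ = u * a * ((z : ↥(Cfsg.pCore p X)) : X) := h3
            _ = u * (a * ((z : ↥(Cfsg.pCore p X)) : X)) := by group
        exact mul_left_cancel this
      have h6 : ((z : ↥(Cfsg.pCore p X)) : X) ∈
          Cfsg.pCore p X ⊓ Subgroup.centralizer ({a} : Set X) :=
        ⟨hzU, Subgroup.mem_centralizer_singleton_iff.mpr h5⟩
      rw [hfpf a ha hne] at h6
      exact hz1' (Subgroup.mem_bot.mp h6)
    rw [ha1, mul_one] at hua
    obtain ⟨k, hk⟩ := hUp ⟨u, hu⟩
    have hk' : u ^ p ^ k = 1 := by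
      have := congrArg Subtype.val hk
      simpa using this
    refine ⟨n + k, ?_⟩
    apply Subtype.ext
    simp only [Subgroup.coe_pow, Subgroup.coe_one]
    rw [pow_add, pow_mul, ← hua, hk']
  exact le_pCore p _ inferInstance hCp

/-- In a three-step group with respect to `p`, a normal subgroup of order prime to `p` is trivial. -/
theorem ts_normal_coprime_eq_bot (h : Cfsg.IsThreeStepGroup p X) (N : Subgroup X) [N.Normal]
    (hN : (Nat.card N).Coprime p) : N = ⊥ := by
  have hUp : IsPGroup p (Cfsg.pCore p X) := pCore_isPGroup p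
  have hUn : (Cfsg.pCore p X).Normal := inferInstance
  obtain ⟨k, hk⟩ := IsPGroup.iff_card.mp hUp
  have h1 : N ⊓ Cfsg.pCore p X = ⊥ := by
    apply Disjoint.eq_bot
    apply Subgroup.disjoint_of_coprime_natCard
    rw [hk]
    exact Nat.Coprime.pow_right k hN
  have h2 : ⁅N, Cfsg.pCore p X⁆ = ⊥ := by
    have := Subgroup.commutator_le_inf (H₁ := N) (H₂ := Cfsg.pCore p X)
    rw [h1] at this
    exact le_bot_iff.mp this
  have h3 : N ≤ Cfsg.pCore p X :=
    (Subgroup.commutator_eq_bot_iff_le_centralizer.mp h2).trans (ts_centralizer_le h)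
  have h4 : N ≤ N ⊓ Cfsg.pCore p X := le_inf le_rfl h3
  rw [h1] at h4
  exact le_bot_iff.mp h4

/-- In a three-step group with respect to `p`, no Sylow `p`-subgroup lies in `O_p`. -/
theorem ts_sylow_not_le (h : Cfsg.IsThreeStepGroup p X) (T : Sylow p X) :
    ¬ (T : Subgroup X) ≤ Cfsg.pCore p X := by
  obtain ⟨hU, A, hA1, hAc, hAodd, hAcop, hVn, hVtop, ⟨n, hn⟩, hfpf, hlast⟩ := h
  intro hle
  have h1 : (Cfsg.pCore p X ⊔ A).index ∣ (T : Subgroup X).index :=
    Subgroup.index_dvd_of_le (hle.trans le_sup_left)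
  have hn0 : n ≠ 0 := by
    rintro rfl
    rw [pow_zero, Subgroup.index_eq_one] at hn
    exact hVtop hn
  rw [hn] at h1
  exact T.not_dvd_index ((dvd_pow_self p hn0).trans h1)

/-- In a three-step group with respect to `p`, no Sylow `p`-subgroup is normal. -/
theorem ts_sylow_not_normal (h : Cfsg.IsThreeStepGroup p X) (T : Sylow p X) :
    ¬ (T : Subgroup X).Normal := by
  intro hn
  exact ts_sylow_not_le h T (le_pCore p _ hn T.isPGroup')

/-- A three-step group with respect to a prime is not nilpotent. -/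
theorem ts_not_nilpotent (h : Cfsg.IsThreeStepGroup p X) : ¬ Group.IsNilpotent X := by
  intro hnil
  obtain ⟨T⟩ : Nonempty (Sylow p X) := inferInstance
  exact ts_sylow_not_normal h T
    ((Cfsg.Agent.S1474.nilpotent_iff_sylow_normal (G := X)).mp hnil p ⟨Fact.out⟩ T)

/-- In a three-step group with respect to `p`, no Sylow `p`-subgroup lies in the derived
subgroup. -/
theorem ts_sylow_not_le_commutator (h : Cfsg.IsThreeStepGroup p X) (T : Sylow p X) :
    ¬ (T : Subgroup X) ≤ commutator X := by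
  obtain ⟨hU, A, hA1, hAc, hAodd, hAcop, hVn, hVtop, ⟨n, hn⟩, hfpf, hlast⟩ := h
  intro hle
  have hp : p.Prime := Fact.out
  have hn0 : n ≠ 0 := by
    rintro rfl
    rw [pow_zero, Subgroup.index_eq_one] at hn
    exact hVtop hn
  -- `T ⊔ V = ⊤`
  have hTV : (T : Subgroup X) ⊔ (Cfsg.pCore p X ⊔ A) = ⊤ := by
    rw [← Subgroup.index_eq_one]
    have h1 : ((T : Subgroup X) ⊔ (Cfsg.pCore p X ⊔ A)).index ∣ (T : Subgroup X).index :=
      Subgroup.index_dvd_of_le le_sup_left
    have h2 : ((T : Subgroup X) ⊔ (Cfsg.pCore p X ⊔ A)).index ∣ p ^ n := by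
      rw [← hn]; exact Subgroup.index_dvd_of_le le_sup_right
    have h3 : Nat.Coprime (T : Subgroup X).index (p ^ n) :=
      Nat.Coprime.pow_right n ((Nat.Prime.coprime_iff_not_dvd hp).mpr T.not_dvd_index).symm
    exact Nat.eq_one_of_dvd_coprimes h3 h1 h2
  -- the quotient is a nontrivial `p`-group
  have hcard : Nat.card (X ⧸ (Cfsg.pCore p X ⊔ A)) = p ^ n := hn
  have hQp : IsPGroup p (X ⧸ (Cfsg.pCore p X ⊔ A)) := IsPGroup.of_card hcard
  haveI : Group.IsNilpotent (X ⧸ (Cfsg.pCore p X ⊔ A)) := hQp.isNilpotent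
  haveI : Nontrivial (X ⧸ (Cfsg.pCore p X ⊔ A)) := by
    rw [← Finite.one_lt_card_iff_nontrivial, hcard]
    exact Nat.one_lt_pow hn0 hp.one_lt
  have hlt : commutator (X ⧸ (Cfsg.pCore p X ⊔ A)) < ⊤ :=
    Group.IsSolvable.commutator_lt_top_of_nontrivial _
  apply hlt.ne
  rw [eq_top_iff]
  have h5 : ((T : Subgroup X) ⊔ (Cfsg.pCore p X ⊔ A)).map
      (QuotientGroup.mk' (Cfsg.pCore p X ⊔ A)) = ⊤ := by
    rw [hTV, ← MonoidHom.range_eq_map]
    exact MonoidHom.range_eq_top.mpr (QuotientGroup.mk'_surjective _)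
  rw [Subgroup.map_sup] at h5
  have h6 : (Cfsg.pCore p X ⊔ A).map (QuotientGroup.mk' (Cfsg.pCore p X ⊔ A)) = ⊥ := by
    rw [Subgroup.map_eq_bot_iff, QuotientGroup.ker_mk']
  rw [h6, sup_bot_eq] at h5
  rw [← h5]
  have h7 : (commutator X).map (QuotientGroup.mk' (Cfsg.pCore p X ⊔ A)) ≤
      commutator (X ⧸ (Cfsg.pCore p X ⊔ A)) := by
    rw [commutator_def, commutator_def, Subgroup.map_commutator]
    exact Subgroup.commutator_mono le_top le_top
  exact (Subgroup.map_mono hle).trans h7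

end threestep

section frob

theorem cyclic_comm {E : Type*} [Group E] [IsCyclic E] (a b : E) : a * b = b * a := by
  obtain ⟨g, hg⟩ := IsCyclic.exists_generator (α := E)
  obtain ⟨i, rfl⟩ := Subgroup.mem_zpowers_iff.mp (hg a)
  obtain ⟨j, rfl⟩ := Subgroup.mem_zpowers_iff.mp (hg b)
  rw [← zpow_add, ← zpow_add, add_comm]

/-- The Frobenius-type case: the largest normal nilpotent Hall subgroup is proper and nontrivial and
has a cyclic complement acting on it without fixed points. -/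
structure Frob (X : Type*) [Group X] : Prop where
  ne_bot : Cfsg.fittingHall X ≠ ⊥
  ne_top : Cfsg.fittingHall X ≠ ⊤
  compl : ∃ E : Subgroup X, Subgroup.IsComplement' (Cfsg.fittingHall X) E ∧ E ≠ ⊥ ∧ IsCyclic E ∧
      ∀ e ∈ E, e ≠ 1 → Cfsg.fittingHall X ⊓ Subgroup.centralizer ({e} : Set X) = ⊥

variable {X : Type*} [Group X] [Finite X]

theorem Frob.commutator_le (h : Frob X) : commutator X ≤ Cfsg.fittingHall X := by
  obtain ⟨E, hE, hE1, hEc, hfp⟩ := h.compl
  rw [commutator_def, Subgroup.commutator_le]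
  intro x _ y _
  obtain ⟨⟨k₁, e₁⟩, h1⟩ := hE.2 x
  obtain ⟨⟨k₂, e₂⟩, h2⟩ := hE.2 y
  simp only at h1 h2
  have hcomm : (e₁ : X) * (e₂ : X) = (e₂ : X) * (e₁ : X) := by
    have := cyclic_comm (E := ↥E) e₁ e₂
    exact congrArg Subtype.val this
  have hx : (x : X ⧸ Cfsg.fittingHall X) = ((e₁ : X) : X ⧸ Cfsg.fittingHall X) := by
    rw [← h1, QuotientGroup.mk_mul, (QuotientGroup.eq_one_iff _).mpr k₁.2, one_mul]
  have hy : (y : X ⧸ Cfsg.fittingHall X) = ((e₂ : X) : X ⧸ Cfsg.fittingHall X) := by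
    rw [← h2, QuotientGroup.mk_mul, (QuotientGroup.eq_one_iff _).mpr k₂.2, one_mul]
  rw [← QuotientGroup.eq_one_iff, commutatorElement_def]
  simp only [QuotientGroup.mk_mul, QuotientGroup.mk_inv, hx, hy]
  rw [← QuotientGroup.mk_mul, hcomm, QuotientGroup.mk_mul]
  group

/-- In the Frobenius-type case of a CN-group, a nontrivial normal `q`-subgroup forces a normal
Sylow `q`-subgroup. -/
theorem Frob.exists_normal_sylow (h : Frob X) (hCN : Cfsg.IsCNGroup X) (q : ℕ) [Fact q.Prime]
    (N : Subgroup X) [N.Normal] (hNq : IsPGroup q N) (hN1 : N ≠ ⊥) :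
    ∃ S : Sylow q X, (S : Subgroup X).Normal := by
  have hq : q.Prime := Fact.out
  by_cases hqK : q ∣ Nat.card (Cfsg.fittingHall X)
  · exact Cfsg.Agent.S1474.fittingHall_primes q hq hqK
  · exfalso
    obtain ⟨k, hk⟩ := IsPGroup.iff_card.mp hNq
    have hcop : (Nat.card N).Coprime (Nat.card (Cfsg.fittingHall X)) := by
      rw [hk]
      exact Nat.Coprime.pow_left k ((Nat.Prime.coprime_iff_not_dvd hq).mpr hqK)
    have h1 : N ⊓ Cfsg.fittingHall X = ⊥ := (Subgroup.disjoint_of_coprime_natCard hcop).eq_bot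
    have h2 : ⁅N, Cfsg.fittingHall X⁆ = ⊥ := by
      have := Subgroup.commutator_le_inf (H₁ := N) (H₂ := Cfsg.fittingHall X)
      rw [h1] at this
      exact le_bot_iff.mp this
    have h3 : N ≤ Subgroup.centralizer (Cfsg.fittingHall X : Set X) :=
      Subgroup.commutator_eq_bot_iff_le_centralizer.mp h2
    obtain ⟨n, hnN, hn1⟩ := exists_ne_one_of_ne_bot hN1
    obtain ⟨x, hxK, hx1⟩ := exists_ne_one_of_ne_bot h.ne_bot
    have hcomm : n * x = x * n := (Subgroup.mem_centralizer_iff.mp (h3 hnN) x hxK).symm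
    have hord : (orderOf n).Coprime (Nat.card (Cfsg.fittingHall X)) :=
      Nat.Coprime.coprime_dvd_left (Subgroup.orderOf_dvd_natCard _ hnN) hcop
    exact Cfsg.Agent.S1474.fpf hCN n x hn1 hx1 hxK hord hcomm

end frob

section tri

/-- The refined trichotomy for finite solvable CN-groups of odd order. -/
theorem tri {X : Type u} [Group X] [Finite X] [Group.IsSolvable X] (hCN : Cfsg.IsCNGroup X)
    (hodd : Odd (Nat.card X)) :
    Group.IsNilpotent X ∨ Frob X ∨ ∃ p : ℕ, p.Prime ∧ Cfsg.IsThreeStepGroup p X := by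
  by_cases hnn : Group.IsNilpotent X
  · left; exact hnn
  right
  by_cases hns : ∀ (q : ℕ) [Fact q.Prime] (S : Sylow q X), (S : Subgroup X).Normal →
      (S : Subgroup X) = ⊥
  · right; exact Cfsg.Agent.S1476.caseB hCN hnn hns
  · left
    push Not at hns
    obtain ⟨q, hqF, S, hSn, hS1⟩ := hns
    obtain ⟨hH1, hHtop, ⟨E, hE, hEF, hEfp⟩, hquot⟩ := Cfsg.Agent.S1474.result hCN hnn q S hS1 hSn
    have hEnil : Group.IsNilpotent E := by
      apply Cfsg.Agent.S1473.nilp_of_injective
        ((QuotientGroup.mk' (Cfsg.fittingHall X)).comp E.subtype)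
      rw [injective_iff_map_eq_one]
      intro e he
      have h1 : (e : X) ∈ Cfsg.fittingHall X := (QuotientGroup.eq_one_iff _).mp he
      exact Subtype.ext (Subgroup.disjoint_def.mp hE.disjoint h1 e.2)
    have hUIE : ∀ (r : ℕ) [Fact r.Prime], Cfsg.Agent.Lib.Helper54.UniqueSubgroup.UI r E :=
      fun r _ =>
      Cfsg.Agent.S1476.ui_of_nilpotent_fpf (Cfsg.fittingHall X) hH1 E.subtype
        (fun e he1 x hx hc => by
        have h1 := hEfp (e : X) e.2 (fun h0 => he1 (Subtype.ext h0))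
        have h2 : x ∈ Cfsg.fittingHall X ⊓ Subgroup.centralizer ({(e : X)} : Set X) :=
          ⟨hx, Subgroup.mem_centralizer_singleton_iff.mpr hc.symm⟩
        rw [h1] at h2
        exact Subgroup.mem_bot.mp h2) r
    have hEodd : Odd (Nat.card E) := by
      obtain ⟨c, hc⟩ := Subgroup.card_subgroup_dvd_card E
      rw [hc] at hodd
      exact (Nat.odd_mul.mp hodd).1
    have hEc : IsCyclic E := Cfsg.Agent.S1476.cyclic_of_odd hUIE hEodd
    exact ⟨hH1, hHtop, E, hE, hEF.1, hEc, hEfp⟩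

end tri

section general

variable {X : Type*} [Group X] [Finite X]

/-- A finite nilpotent group is not a three-step group (for any natural number `p`). -/
theorem not_ts_of_nilpotent (hnil : Group.IsNilpotent X) (p : ℕ) :
    ¬ Cfsg.IsThreeStepGroup p X := by
  rintro ⟨hU, A, hA1, hAc, hAodd, hAcop, hVn, hVtop, ⟨n, hn⟩, hfpf, hlast⟩
  have h1 : ∃ N ∈ {N : Subgroup X | N.Normal ∧ IsPGroup p N}, N ≠ ⊥ := by
    by_contra hcon
    push Not at hcon
    exact hU (sSup_eq_bot.mpr hcon)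
  obtain ⟨N, ⟨hNn, hNp⟩, hN1⟩ := h1
  obtain ⟨u, huN, hu1⟩ := exists_ne_one_of_ne_bot hN1
  obtain ⟨a, haA, ha1⟩ := exists_ne_one_of_ne_bot hA1
  have huU : u ∈ Cfsg.pCore p X :=
    (le_sSup (show N ∈ {N : Subgroup X | N.Normal ∧ IsPGroup p N} from ⟨hNn, hNp⟩)) huN
  obtain ⟨k, hk⟩ := hNp ⟨u, huN⟩
  have hk' : u ^ p ^ k = 1 := by
    have := congrArg Subtype.val hk
    simpa using this
  have hcop : (orderOf u).Coprime (orderOf a) :=
    Nat.Coprime.coprime_dvd_left (orderOf_dvd_of_pow_eq_one hk')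
      (Nat.Coprime.coprime_dvd_right (Subgroup.orderOf_dvd_natCard _ haA)
        (Nat.Coprime.pow_left k hAcop.symm))
  have hcomm := Cfsg.Agent.Lib.Helper65.NilCoprime.commute_of_coprime X u a
    (isOfFinOrder_of_finite _) (isOfFinOrder_of_finite _) hcop
  have h2 : u ∈ Cfsg.pCore p X ⊓ Subgroup.centralizer ({a} : Set X) :=
    ⟨huU, Subgroup.mem_centralizer_singleton_iff.mpr hcomm⟩
  rw [hfpf a haA ha1] at h2
  exact hu1 (Subgroup.mem_bot.mp h2)

/-- A finite CN-group of Frobenius type is not a three-step group (for any natural number `p`). -/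
theorem not_ts_of_frob (hF : Frob X) (hCN : Cfsg.IsCNGroup X) (p : ℕ) :
    ¬ Cfsg.IsThreeStepGroup p X := by
  rintro ⟨hU, A, hA1, hAc, hAodd, hAcop, hVn, hVtop, ⟨n, hn⟩, hfpf, hlast⟩
  have hUn : (Cfsg.pCore p X).Normal := Subgroup.sSup_normal _ (fun _ h => h.1)
  -- `U ∩ A = 1`
  have hUA : ∀ a ∈ A, a ∈ Cfsg.pCore p X → a = 1 := by
    intro a ha haU
    by_contra hne
    have h2 : a ∈ Cfsg.pCore p X ⊓ Subgroup.centralizer ({a} : Set X) :=
      ⟨haU, Subgroup.mem_centralizer_singleton_iff.mpr rfl⟩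
    rw [hfpf a ha hne] at h2
    exact hne (Subgroup.mem_bot.mp h2)
  -- the orders of `A` and of the Frobenius kernel are coprime
  have hcop : (Nat.card A).Coprime (Nat.card (Cfsg.fittingHall X)) := by
    apply Nat.coprime_of_dvd
    intro r hr hrA hrK
    have := Fact.mk hr
    obtain ⟨a, ha⟩ := exists_prime_orderOf_dvd_card' (G := ↥A) r hrA
    obtain ⟨R, hRn⟩ := Cfsg.Agent.S1474.fittingHall_primes r hr hrK
    have ha1 : (a : X) ≠ 1 := by
      intro h0
      have : a = 1 := Subtype.ext h0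
      rw [this, orderOf_one] at ha
      exact hr.one_lt.ne ha
    have haR : (a : X) ∈ (R : Subgroup X) := by
      have hz : IsPGroup r (Subgroup.zpowers (a : X)) := by
        apply IsPGroup.of_card (n := 1)
        rw [Nat.card_zpowers, Subgroup.orderOf_coe, ha, pow_one]
      obtain ⟨Q, hQ⟩ := hz.exists_le_sylow
      have := Sylow.unique_of_normal R hRn
      rw [Subsingleton.elim R Q]
      exact hQ (Subgroup.mem_zpowers _)
    have hrp : r.Coprime p := Nat.Coprime.coprime_dvd_left hrA hAcop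
    have hcent : Cfsg.pCore p X ≤ Subgroup.centralizer ((R : Subgroup X) : Set X) := by
      apply sSup_le
      rintro N ⟨hNn, hNp⟩
      have h1 : N ⊓ (R : Subgroup X) = ⊥ := by
        rw [eq_bot_iff]
        rintro x ⟨hxN, hxR⟩
        obtain ⟨k, hk⟩ := hNp ⟨x, hxN⟩
        have hk' : x ^ p ^ k = 1 := by
          have := congrArg Subtype.val hk
          simpa using this
        obtain ⟨j, hj⟩ := R.isPGroup' ⟨x, hxR⟩
        have hj' : x ^ r ^ j = 1 := by
          have := congrArg Subtype.val hj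
          simpa using this
        have h3 : orderOf x = 1 :=
          Nat.eq_one_of_dvd_coprimes (Nat.Coprime.pow j k hrp)
            (orderOf_dvd_of_pow_eq_one hj') (orderOf_dvd_of_pow_eq_one hk')
        exact Subgroup.mem_bot.mpr (orderOf_eq_one_iff.mp h3)
      have h2 : ⁅N, (R : Subgroup X)⁆ = ⊥ := by
        have := Subgroup.commutator_le_inf (H₁ := N) (H₂ := (R : Subgroup X))
        rw [h1] at this
        exact le_bot_iff.mp this
      exact Subgroup.commutator_eq_bot_iff_le_centralizer.mp h2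
    obtain ⟨u, huU, hu1⟩ := exists_ne_one_of_ne_bot hU
    have hcomm : (a : X) * u = u * (a : X) := Subgroup.mem_centralizer_iff.mp (hcent huU) _ haR
    have h2 : u ∈ Cfsg.pCore p X ⊓ Subgroup.centralizer ({(a : X)} : Set X) :=
      ⟨huU, Subgroup.mem_centralizer_singleton_iff.mpr hcomm.symm⟩
    rw [hfpf (a : X) a.2 ha1] at h2
    exact hu1 (Subgroup.mem_bot.mp h2)
  -- pick `x ∉ UA` and `a ∈ A`, `a ≠ 1`
  obtain ⟨x, hx⟩ : ∃ x : X, x ∉ Cfsg.pCore p X ⊔ A := by
    by_contra hcon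
    push Not at hcon
    exact hVtop (eq_top_iff.mpr (fun x _ => hcon x))
  obtain ⟨a, haA, ha1⟩ := exists_ne_one_of_ne_bot hA1
  apply hlast x hx a haA ha1
  have hyK : x * a * x⁻¹ * a⁻¹ ∈ Cfsg.fittingHall X := by
    apply hF.commutator_le
    rw [commutator_def]
    have := Subgroup.commutator_mem_commutator (H₁ := (⊤ : Subgroup X)) (H₂ := (⊤ : Subgroup X))
      (Subgroup.mem_top x) (Subgroup.mem_top a)
    rwa [commutatorElement_def] at this
  have hyV : x * a * x⁻¹ * a⁻¹ ∈ Cfsg.pCore p X ⊔ A := by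
    have haV : a ∈ Cfsg.pCore p X ⊔ A := Subgroup.mem_sup_right haA
    exact mul_mem (hVn.conj_mem a haV x) (inv_mem haV)
  rw [← SetLike.mem_coe, Subgroup.normal_mul] at hyV
  obtain ⟨u, hu, a', ha', hua⟩ := Set.mem_mul.mp hyV
  have hpow : a' ^ Nat.card (Cfsg.fittingHall X) ∈ Cfsg.pCore p X := by
    have h1 : ((x * a * x⁻¹ * a⁻¹ : X) : X ⧸ Cfsg.pCore p X) = ((a' : X) : X ⧸ Cfsg.pCore p X) := by
      rw [← hua, QuotientGroup.mk_mul, (QuotientGroup.eq_one_iff _).mpr hu, one_mul]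
    have h2 : (x * a * x⁻¹ * a⁻¹) ^ Nat.card (Cfsg.fittingHall X) = 1 := by
      have h0 : (⟨x * a * x⁻¹ * a⁻¹, hyK⟩ : ↥(Cfsg.fittingHall X)) ^
          Nat.card (Cfsg.fittingHall X) = 1 := pow_card_eq_one'
      have h00 := congrArg Subtype.val h0
      rw [Subgroup.coe_pow] at h00
      exact h00
    rw [← QuotientGroup.eq_one_iff, QuotientGroup.mk_pow, ← h1, ← QuotientGroup.mk_pow, h2]
    rfl
  have hpow1 : a' ^ Nat.card (Cfsg.fittingHall X) = 1 := hUA _ (pow_mem ha' _) hpow
  have h3 : orderOf a' = 1 :=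
    Nat.eq_one_of_dvd_coprimes hcop (Subgroup.orderOf_dvd_natCard _ ha')
      (orderOf_dvd_of_pow_eq_one hpow1)
  rw [orderOf_eq_one_iff.mp h3, mul_one] at hua
  rw [← hua]
  exact hu

/-- A three-step group (for any natural number `p`) that is a solvable CN-group of odd order is a
three-step group with respect to a prime. -/
theorem exists_prime_ts {X : Type u} [Group X] [Finite X] [Group.IsSolvable X]
    (hCN : Cfsg.IsCNGroup X) (hodd : Odd (Nat.card X)) (p : ℕ)
    (h : Cfsg.IsThreeStepGroup p X) : ∃ q : ℕ, q.Prime ∧ Cfsg.IsThreeStepGroup q X := by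
  rcases tri hCN hodd with hnil | hF | h3
  · exact absurd h (not_ts_of_nilpotent hnil p)
  · exact absurd h (not_ts_of_frob hF hCN p)
  · exact h3

end general

end Cfsg.Agent.Lib.Helper50.CNBase
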