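import Mathlib
import Cfsg.Agent.S0653
import Cfsg.Agent.S0658
import Cfsg.Agent.Lib.Helper11.QuadStable
import Cfsg.Agent.Lib.Helper2.FusCtl
import Cfsg.Agent.Lib.Helper50.CNBase

/-! Glauberman's ZJ-theorem in groups of odd order and the resulting strong embedding of
`N_G(Z(J(P)))`; application: in a perfect CN-group of odd order, `N_G(Z(J(P)))` is never a three-step
group with respect to `p`. -/

set_option autoImplicit false
set_option linter.unusedVariables false
set_option linter.unusedSectionVars false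

namespace Cfsg.Agent.Lib.Helper50.CNZJ

open Subgroup
open Cfsg.Agent.Lib.Helper11.ZJ Cfsg.Agent.Lib.Helper11.ZJFam Cfsg.Agent.Lib.Helper11.ZJQuot
open Cfsg.Agent.Lib.Helper11.PConstr
open Cfsg.Agent.S0658 (exists_normalizing_not_mem card_lt_card_inf_normalizer sInf_famA_ne_bot
  exists_conj_le_sylow)
open Cfsg.Agent.Lib.Helper50.CNBase
open Cfsg.Agent.Lib.Helper2.FusCtl (mem_smul_sylow)
open scoped commutatorElement

section sl2

theorem sl2_even (p : ℕ) [Fact p.Prime] (hp : p ≠ 2) :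
    2 ∣ Nat.card (Matrix.SpecialLinearGroup (Fin 2) (ZMod p)) := by
  have hpp : p.Prime := Fact.out
  let m : Matrix.SpecialLinearGroup (Fin 2) (ZMod p) :=
    ⟨!![-1, 0; 0, -1], by simp [Matrix.det_fin_two]⟩
  have h2 : m ^ 2 = 1 := by
    apply Subtype.ext
    rw [Matrix.SpecialLinearGroup.coe_pow]
    show (!![-1, 0; 0, -1] : Matrix (Fin 2) (Fin 2) (ZMod p)) ^ 2 = 1
    rw [pow_two, Matrix.mul_fin_two]
    ext i j
    fin_cases i <;> fin_cases j <;> simp
  have h1 : m ≠ 1 := by
    intro h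
    have h3 := congrArg (fun a : Matrix.SpecialLinearGroup (Fin 2) (ZMod p) =>
      (a : Matrix (Fin 2) (Fin 2) (ZMod p)) 0 0) h
    simp only [m, Matrix.SpecialLinearGroup.coe_one, Matrix.one_apply_eq] at h3
    have h4 : (-1 : ZMod p) = 1 := by simpa using h3
    have h5 : ((2 : ℕ) : ZMod p) = 0 := by
      have : (1 : ZMod p) + 1 = 0 := by
        nth_rewrite 1 [← h4]
        ring
      push_cast
      rw [← this]; ring
    have h6 : p ∣ 2 := (ZMod.natCast_eq_zero_iff 2 p).mp h5
    exact hp ((Nat.prime_dvd_prime_iff_eq hpp Nat.prime_two).mp h6)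
  have h3 : orderOf m = 2 := orderOf_eq_prime h2 h1
  have h7 := orderOf_dvd_natCard m
  rwa [h3] at h7

theorem not_involves_sl2 {X : Type*} [Group X] [Finite X] (hodd : Odd (Nat.card X)) (p : ℕ)
    [Fact p.Prime] (hp : p ≠ 2) :
    ¬ Cfsg.Involves (Matrix.SpecialLinearGroup (Fin 2) (ZMod p)) X := by
  rintro ⟨K, R, hR, ⟨e⟩⟩
  have h1 : Nat.card (K ⧸ R.subgroupOf K) ∣ Nat.card K := Subgroup.card_quotient_dvd_card _
  have h2 : Nat.card K ∣ Nat.card X := Subgroup.card_subgroup_dvd_card K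
  have h3 := sl2_even p hp
  rw [← Nat.card_congr e.toEquiv] at h3
  exact (Nat.not_even_iff_odd.mpr hodd) (even_iff_two_dvd.mpr (h3.trans (h1.trans h2)))

/-- Glauberman's ZJ-theorem for groups of odd order with `C(O_p) ≤ O_p`. -/
theorem zj_normal {X : Type*} [Group X] [Finite X] {p : ℕ} [Fact p.Prime] (hp : p ≠ 2)
    (hodd : Odd (Nat.card X))
    (hc : Subgroup.centralizer (Cfsg.pCore p X : Set X) ≤ Cfsg.pCore p X) (S : Sylow p X) :
    (Cfsg.centerThompsonAOf (S : Subgroup X)).Normal := by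
  have hfree := not_involves_sl2 hodd p hp
  have hst : ∀ (P : Subgroup X) [P.Normal], IsPGroup p P → Cfsg.IsPStableOn p P :=
    fun P _ hP => Cfsg.Agent.Lib.Helper11.QuadStable.isPStableOn_of_not_involves hp P hP hfree
  have := Cfsg.Agent.S0653.result hp hc hst S
  infer_instance

end sl2

section control

variable {G : Type*} [Group G] [Finite G] {p : ℕ} [Fact p.Prime]

/-- If `T` is a Sylow `p`-subgroup of the local subgroup `N`, then `N` normalizes `Z(J(T))`. -/
theorem normalizer_le_of_sylow' (N : Subgroup G) (T : Sylow p ↥N)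
    (hn : (Cfsg.centerThompsonAOf (T : Subgroup ↥N)).Normal) :
    N ≤ Subgroup.normalizer
      ((sInf (famA ((T : Subgroup ↥N).map N.subtype)) : Subgroup G) : Set G) := by
  rw [centerThompsonAOf_eq] at hn
  have hmap : (sInf (famA (T : Subgroup ↥N))).map N.subtype =
      sInf (famA ((T : Subgroup ↥N).map N.subtype)) :=
    sInf_famA_map N.subtype _ (by rw [Subgroup.ker_subtype, inf_bot_eq])
  rw [← hmap]
  intro g hg
  apply mem_normalizer_of_conj_mem'
  rintro _ ⟨y, hy, rfl⟩
  exact ⟨⟨g, hg⟩ * y * ⟨g, hg⟩⁻¹, hn.conj_mem y hy ⟨g, hg⟩, rfl⟩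

theorem main' (hp : p ≠ 2)
    (hloc : ∀ Q : Subgroup G, IsPGroup p Q → Q ≠ ⊥ →
      ∀ T : Sylow p ↥(Subgroup.normalizer (Q : Set G)),
        (Cfsg.centerThompsonAOf (T : Subgroup ↥(Subgroup.normalizer (Q : Set G)))).Normal)
    (P : Sylow p G) : ∀ (n : ℕ) (Q : Subgroup G), Q ≤ (P : Subgroup G) → Q ≠ ⊥ →
      Nat.card (P : Subgroup G) -
        Nat.card ↥((P : Subgroup G) ⊓ Subgroup.normalizer (Q : Set G)) = n →
      Subgroup.normalizer (Q : Set G) ≤
        Subgroup.normalizer ((sInf (famA (P : Subgroup G)) : Subgroup G) : Set G) := by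
  intro n
  induction n using Nat.strong_induction_on with
  | _ n ih =>
  intro Q hQP hQ1 hn
  have hQp : IsPGroup p Q := P.isPGroup'.to_le hQP
  have hZ := hloc Q hQp hQ1
  have hQR : Q ≤ (P : Subgroup G) ⊓ Subgroup.normalizer (Q : Set G) :=
    le_inf hQP Subgroup.le_normalizer
  by_cases hRP : (P : Subgroup G) ≤ Subgroup.normalizer (Q : Set G)
  · have h := normalizer_le_of_sylow' (Subgroup.normalizer (Q : Set G)) (P.subtype hRP)
      (hZ _)
    rw [Sylow.coe_subtype, Subgroup.subgroupOf_map_subtype, inf_eq_left.mpr hRP] at h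
    exact h
  · have hRlt : (P : Subgroup G) ⊓ Subgroup.normalizer (Q : Set G) < (P : Subgroup G) :=
      lt_of_le_of_ne inf_le_left (fun h => hRP (inf_eq_left.mp h))
    have hRp : IsPGroup p ↥((P : Subgroup G) ⊓ Subgroup.normalizer (Q : Set G)) :=
      P.isPGroup'.to_le inf_le_left
    have hR1 : (P : Subgroup G) ⊓ Subgroup.normalizer (Q : Set G) ≠ ⊥ :=
      fun h => hQ1 (le_bot_iff.mp (h ▸ hQR))
    have hcardlt := card_lt_card_inf_normalizer (p := p) P.isPGroup' hRlt
    have hi : ∀ C : Subgroup G, C ≤ (P : Subgroup G) → C ≠ ⊥ →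
        Subgroup.normalizer
          (((P : Subgroup G) ⊓ Subgroup.normalizer (Q : Set G) : Subgroup G) : Set G) ≤
          Subgroup.normalizer (C : Set G) →
        Subgroup.normalizer (C : Set G) ≤
          Subgroup.normalizer ((sInf (famA (P : Subgroup G)) : Subgroup G) : Set G) := by
      intro C hCP hC1 hRC
      have h1 : Nat.card ↥((P : Subgroup G) ⊓ Subgroup.normalizer
          (((P : Subgroup G) ⊓ Subgroup.normalizer (Q : Set G) : Subgroup G) : Set G)) ≤
          Nat.card ↥((P : Subgroup G) ⊓ Subgroup.normalizer (C : Set G)) :=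
        Subgroup.card_le_of_le (inf_le_inf_left _ hRC)
      have h2 : Nat.card ↥((P : Subgroup G) ⊓ Subgroup.normalizer (C : Set G)) ≤
          Nat.card (P : Subgroup G) := Subgroup.card_le_of_le inf_le_left
      exact ih (Nat.card (P : Subgroup G) -
        Nat.card ↥((P : Subgroup G) ⊓ Subgroup.normalizer (C : Set G))) (by omega) C hCP hC1 rfl
    have hPM : (P : Subgroup G) ≤
        Subgroup.normalizer ((sInf (famA (P : Subgroup G)) : Subgroup G) : Set G) :=
      Subgroup.le_normalizer.trans (normalizer_le (isFam_famA hp) _)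
    -- a Sylow subgroup of the local subgroup containing `R`
    obtain ⟨T', hT'⟩ := (hRp.comap_subtype
      (K := Subgroup.normalizer (Q : Set G))).exists_le_sylow
    have hRT : (P : Subgroup G) ⊓ Subgroup.normalizer (Q : Set G) ≤
        (T' : Subgroup ↥(Subgroup.normalizer (Q : Set G))).map
          (Subgroup.normalizer (Q : Set G)).subtype := by
      intro r hr
      exact ⟨⟨r, hr.2⟩, hT' (Subgroup.mem_subgroupOf.mpr hr), rfl⟩
    have hTN : (T' : Subgroup ↥(Subgroup.normalizer (Q : Set G))).map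
        (Subgroup.normalizer (Q : Set G)).subtype ≤ Subgroup.normalizer (Q : Set G) := by
      rintro _ ⟨y, -, rfl⟩
      exact y.2
    have hTp : IsPGroup p ↥((T' : Subgroup ↥(Subgroup.normalizer (Q : Set G))).map
        (Subgroup.normalizer (Q : Set G)).subtype) := T'.isPGroup'.map _
    by_cases hTR : (T' : Subgroup ↥(Subgroup.normalizer (Q : Set G))).map
        (Subgroup.normalizer (Q : Set G)).subtype ≤
        (P : Subgroup G) ⊓ Subgroup.normalizer (Q : Set G)
    · have hTeq := le_antisymm hTR hRT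
      have h := normalizer_le_of_sylow' (Subgroup.normalizer (Q : Set G)) T' (hZ _)
      rw [hTeq] at h
      refine h.trans (hi _ ((sInf_le_self (isFam_famA hp) _).trans inf_le_left)
        (sInf_famA_ne_bot hRp hR1) (normalizer_le (isFam_famA hp) _))
    · have hRTlt : (P : Subgroup G) ⊓ Subgroup.normalizer (Q : Set G) <
          (T' : Subgroup ↥(Subgroup.normalizer (Q : Set G))).map
            (Subgroup.normalizer (Q : Set G)).subtype := lt_of_le_not_ge hRT hTR
      have hUcard := card_lt_card_inf_normalizer (p := p) hTp hRTlt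
      have hUp : IsPGroup p ↥((T' : Subgroup ↥(Subgroup.normalizer (Q : Set G))).map
          (Subgroup.normalizer (Q : Set G)).subtype ⊓ Subgroup.normalizer
          (((P : Subgroup G) ⊓ Subgroup.normalizer (Q : Set G) : Subgroup G) : Set G)) :=
        hTp.to_le inf_le_left
      have hUM := (inf_le_right (a := (T' : Subgroup ↥(Subgroup.normalizer (Q : Set G))).map
          (Subgroup.normalizer (Q : Set G)).subtype)).trans (hi _ inf_le_left hR1 le_rfl)
      obtain ⟨m, hmM, hm⟩ := exists_conj_le_sylow P _ hPM _ hUp hUM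
      -- the conjugate `Q' = m Q m⁻¹`
      have hQ'P : Q.map (MulAut.conj m).toMonoidHom ≤ (P : Subgroup G) := by
        rintro _ ⟨q, hq, rfl⟩
        exact hm q ⟨hRT (hQR hq), Subgroup.le_normalizer (hQR hq)⟩
      have hQ'1 : Q.map (MulAut.conj m).toMonoidHom ≠ ⊥ := by
        intro h
        rw [Subgroup.map_eq_bot_iff_of_injective _ (MulAut.conj m).injective] at h
        exact hQ1 h
      have hnorm : Subgroup.normalizer ((Q.map (MulAut.conj m).toMonoidHom : Subgroup G) : Set G)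
          = (Subgroup.normalizer (Q : Set G)).map (MulAut.conj m).toMonoidHom :=
        (Subgroup.map_equiv_normalizer_eq Q (MulAut.conj m)).symm
      have hUle : ((T' : Subgroup ↥(Subgroup.normalizer (Q : Set G))).map
          (Subgroup.normalizer (Q : Set G)).subtype ⊓ Subgroup.normalizer
          (((P : Subgroup G) ⊓ Subgroup.normalizer (Q : Set G) : Subgroup G) : Set G)).map
          (MulAut.conj m).toMonoidHom ≤ (P : Subgroup G) ⊓
          Subgroup.normalizer ((Q.map (MulAut.conj m).toMonoidHom : Subgroup G) : Set G) := by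
        rintro _ ⟨u, hu, rfl⟩
        refine ⟨hm u hu, ?_⟩
        rw [hnorm]
        exact ⟨u, hTN hu.1, rfl⟩
      have hc1 := Subgroup.card_le_of_le hUle
      rw [Subgroup.card_map_of_injective (MulAut.conj m).injective] at hc1
      have hc2 : Nat.card ↥((P : Subgroup G) ⊓
          Subgroup.normalizer ((Q.map (MulAut.conj m).toMonoidHom : Subgroup G) : Set G)) ≤
          Nat.card (P : Subgroup G) := Subgroup.card_le_of_le inf_le_left
      have hIH := ih (Nat.card (P : Subgroup G) - Nat.card ↥((P : Subgroup G) ⊓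
          Subgroup.normalizer ((Q.map (MulAut.conj m).toMonoidHom : Subgroup G) : Set G)))
        (by omega) _ hQ'P hQ'1 rfl
      intro g hg
      have h1 : m * g * m⁻¹ ∈ Subgroup.normalizer
          ((sInf (famA (P : Subgroup G)) : Subgroup G) : Set G) := by
        apply hIH
        rw [hnorm]
        exact ⟨g, hg, rfl⟩
      have h2 : g = m⁻¹ * (m * g * m⁻¹) * m := by group
      rw [h2]
      exact Subgroup.mul_mem _ (Subgroup.mul_mem _ (Subgroup.inv_mem _ hmM) h1) hmM



theorem zj_control (hp : p ≠ 2)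
    (hloc : ∀ Q : Subgroup G, IsPGroup p Q → Q ≠ ⊥ →
      ∀ T : Sylow p ↥(Subgroup.normalizer (Q : Set G)),
        (Cfsg.centerThompsonAOf (T : Subgroup ↥(Subgroup.normalizer (Q : Set G)))).Normal)
    (P : Sylow p G) (Q : Subgroup G) (hQP : Q ≤ (P : Subgroup G)) (hQ1 : Q ≠ ⊥) :
    Subgroup.normalizer (Q : Set G) ≤
      Subgroup.normalizer (Cfsg.centerThompsonAOf ((P : Subgroup G)) : Set G) := by
  rw [centerThompsonAOf_eq]
  exact main' hp hloc P _ Q hQP hQ1 rfl

theorem zj_le (hp : p ≠ 2) (P : Subgroup G) : Cfsg.centerThompsonAOf P ≤ P := by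
  rw [centerThompsonAOf_eq]
  exact sInf_le_self (isFam_famA hp) P

theorem normalizer_le_zj (hp : p ≠ 2) (P : Subgroup G) :
    Subgroup.normalizer (P : Set G) ≤ Subgroup.normalizer (Cfsg.centerThompsonAOf P : Set G) := by
  rw [centerThompsonAOf_eq]
  exact normalizer_le (isFam_famA hp) P

theorem zj_smul (P : Sylow p G) (m : G)
    (hm : m ∈ Subgroup.normalizer (Cfsg.centerThompsonAOf (P : Subgroup G) : Set G)) :
    Cfsg.centerThompsonAOf ((m • P : Sylow p G) : Subgroup G) =
      Cfsg.centerThompsonAOf (P : Subgroup G) := by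
  have h1 : ((m • P : Sylow p G) : Subgroup G) =
      (P : Subgroup G).map (MulAut.conj m).toMonoidHom := by
    rw [Sylow.coe_subgroup_smul]
    rfl
  have hker : (P : Subgroup G) ⊓ (MulAut.conj m).toMonoidHom.ker = ⊥ := by
    have : (MulAut.conj m).toMonoidHom.ker = ⊥ :=
      (MonoidHom.ker_eq_bot_iff _).mpr (MulAut.conj m).injective
    rw [this, inf_bot_eq]
  rw [centerThompsonAOf_eq, centerThompsonAOf_eq] at *
  rw [h1, ← sInf_famA_map (MulAut.conj m).toMonoidHom (P : Subgroup G) hker]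
  exact map_conj_eq_of_mem_normalizer _ m hm

/-- Strong embedding: Sylow subgroups meeting nontrivially have the same `N(ZJ)`. -/
theorem normalizer_zj_eq (hp : p ≠ 2)
    (hctl : ∀ (P' : Sylow p G) (Q : Subgroup G), Q ≤ (P' : Subgroup G) → Q ≠ ⊥ →
      Subgroup.normalizer (Q : Set G) ≤
        Subgroup.normalizer (Cfsg.centerThompsonAOf (P' : Subgroup G) : Set G))
    (P₁ P₂ : Sylow p G) (x : G) (hx1 : x ∈ (P₁ : Subgroup G)) (hx2 : x ∈ (P₂ : Subgroup G))
    (hx : x ≠ 1) :
    Subgroup.normalizer (Cfsg.centerThompsonAOf (P₁ : Subgroup G) : Set G) =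
      Subgroup.normalizer (Cfsg.centerThompsonAOf (P₂ : Subgroup G) : Set G) := by
  have hP1 : (P₁ : Subgroup G) ≠ ⊥ := by
    intro h0
    rw [h0, Subgroup.mem_bot] at hx1
    exact hx hx1
  haveI : Nontrivial ↥(P₁ : Subgroup G) := (Subgroup.nontrivial_iff_ne_bot _).mpr hP1
  have hcnt := P₁.isPGroup'.center_nontrivial
  obtain ⟨z0, hz0⟩ := exists_ne (1 : Subgroup.center ↥(P₁ : Subgroup G))
  have hzP : ((z0 : ↥(P₁ : Subgroup G)) : G) ∈ (P₁ : Subgroup G) := (z0 : ↥(P₁ : Subgroup G)).2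
  have hz1 : ((z0 : ↥(P₁ : Subgroup G)) : G) ≠ 1 := by
    intro h0
    apply hz0
    apply Subtype.ext
    apply Subtype.ext
    simpa using h0
  have hzc : ∀ w ∈ (P₁ : Subgroup G), w * ((z0 : ↥(P₁ : Subgroup G)) : G) =
      ((z0 : ↥(P₁ : Subgroup G)) : G) * w := by
    intro w hw
    have := Subgroup.mem_center_iff.mp z0.2 ⟨w, hw⟩
    exact congrArg Subtype.val this
  generalize ((z0 : ↥(P₁ : Subgroup G)) : G) = z at hzP hz1 hzc
  have hP2N : (P₂ : Subgroup G) ≤
      Subgroup.normalizer (Cfsg.centerThompsonAOf (P₂ : Subgroup G) : Set G) :=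
    Subgroup.le_normalizer.trans (normalizer_le_zj hp _)
  -- a) `z ∈ N(P₂)`
  have ha : z ∈ Subgroup.normalizer (Cfsg.centerThompsonAOf (P₂ : Subgroup G) : Set G) := by
    apply hctl P₂ (Subgroup.zpowers x) ((Subgroup.zpowers_le).mpr hx2)
      ((Subgroup.zpowers_ne_bot).mpr hx)
    apply Subgroup.centralizer_le_normalizer
    have h1 : Subgroup.zpowers x ≤ Subgroup.centralizer ({z} : Set G) :=
      (Subgroup.zpowers_le).mpr (Subgroup.mem_centralizer_singleton_iff.mpr (hzc x hx1))
    rw [Subgroup.mem_centralizer_iff]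
    intro h hh
    exact Subgroup.mem_centralizer_singleton_iff.mp (h1 hh)
  -- b) conjugate `z` into `P₂`
  obtain ⟨m, hmN, hm⟩ := exists_conj_le_sylow P₂ _ hP2N (Subgroup.zpowers z)
    (P₁.isPGroup'.to_le ((Subgroup.zpowers_le).mpr hzP)) ((Subgroup.zpowers_le).mpr ha)
  have hz3 : z ∈ (m⁻¹ • P₂ : Sylow p G) := by
    have h := hm z (Subgroup.mem_zpowers z)
    have e : m⁻¹⁻¹ * z * m⁻¹ = m * z * m⁻¹ := by rw [inv_inv]
    rw [mem_smul_sylow, e]
    exact h
  have hN3 := zj_smul P₂ m⁻¹ (inv_mem hmN)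
  -- c) `P₁ ≤ N(P₂)`
  have hc : (P₁ : Subgroup G) ≤
      Subgroup.normalizer (Cfsg.centerThompsonAOf (P₂ : Subgroup G) : Set G) := by
    have h1 := hctl (m⁻¹ • P₂) (Subgroup.zpowers z) ((Subgroup.zpowers_le).mpr hz3)
      ((Subgroup.zpowers_ne_bot).mpr hz1)
    rw [hN3] at h1
    intro w hw
    apply h1
    apply Subgroup.centralizer_le_normalizer
    have h2 : Subgroup.zpowers z ≤ Subgroup.centralizer ({w} : Set G) :=
      (Subgroup.zpowers_le).mpr (Subgroup.mem_centralizer_singleton_iff.mpr (hzc w hw).symm)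
    rw [Subgroup.mem_centralizer_iff]
    intro h hh
    exact Subgroup.mem_centralizer_singleton_iff.mp (h2 hh)
  -- d)
  obtain ⟨m', hm'N, hm'⟩ := exists_conj_le_sylow P₂ _ hP2N (P₁ : Subgroup G) P₁.isPGroup' hc
  have hle : (P₁ : Subgroup G) ≤ ((m'⁻¹ • P₂ : Sylow p G) : Subgroup G) := by
    intro w hw
    have : w ∈ (m'⁻¹ • P₂ : Sylow p G) := by
      have h := hm' w hw
      have e : m'⁻¹⁻¹ * w * m'⁻¹ = m' * w * m'⁻¹ := by rw [inv_inv]
      rw [mem_smul_sylow, e]
      exact h
    exact this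
  have hP14 : P₁ = (m'⁻¹ • P₂ : Sylow p G) :=
    Sylow.ext (P₁.is_maximal' (m'⁻¹ • P₂ : Sylow p G).isPGroup' hle).symm
  rw [hP14, zj_smul P₂ m'⁻¹ (inv_mem hm'N)]

end control

section thmA

variable {G : Type*} [Group G] [Finite G] {p : ℕ} [Fact p.Prime]

open Cfsg.Agent.Lib.Helper50.Cores

theorem orderOf_conj' (g y : G) : orderOf (g⁻¹ * y * g) = orderOf y := by
  have h := orderOf_injective (MulAut.conj g⁻¹).toMonoidHom (MulAut.conj g⁻¹).injective y
  have e : (MulAut.conj g⁻¹).toMonoidHom y = g⁻¹ * y * g := by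
    simp [MulAut.conj_apply]
  rw [e] at h
  exact h

/-- In a perfect CN-group of odd order, `N_G(Z(J(P)))` is not a three-step group with respect to
`p`. -/
theorem no_ts_normalizer_zj (hCN : Cfsg.IsCNGroup G) (hodd : Odd (Nat.card G)) (hp : p ≠ 2)
    (hperf : commutator G = ⊤) (P : Sylow p G) :
    ¬ Cfsg.IsThreeStepGroup p
      ↥(Subgroup.normalizer (Cfsg.centerThompsonAOf (P : Subgroup G) : Set G)) := by
  intro h3
  have hpp : p.Prime := Fact.out
  have hPN : (P : Subgroup G) ≤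
      Subgroup.normalizer (Cfsg.centerThompsonAOf (P : Subgroup G) : Set G) :=
    Subgroup.le_normalizer.trans (normalizer_le_zj hp _)
  generalize hNdef : Subgroup.normalizer (Cfsg.centerThompsonAOf (P : Subgroup G) : Set G) = N
    at h3 hPN
  have hUp : IsPGroup p (Cfsg.pCore p ↥N) := pCore_isPGroup p
  have hU1 : Cfsg.pCore p ↥N ≠ ⊥ := h3.1
  have hUP : ∀ u ∈ Cfsg.pCore p ↥N, (u : G) ∈ (P : Subgroup G) := by
    intro u hu
    have h1 := Cfsg.Agent.Lib.Helper33.PCore.pCore_le_sylow (P.subtype hPN) hu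
    rw [Sylow.coe_subtype] at h1
    exact Subgroup.mem_subgroupOf.mp h1
  have hP1 : (P : Subgroup G) ≠ ⊥ := by
    obtain ⟨u, hu, hu1⟩ := exists_ne_one_of_ne_bot hU1
    intro h0
    have h1 := hUP u hu
    rw [h0, Subgroup.mem_bot] at h1
    exact hu1 (Subtype.ext h1)
  haveI : Nontrivial ↥(P : Subgroup G) := (Subgroup.nontrivial_iff_ne_bot _).mpr hP1
  have hcnt := P.isPGroup'.center_nontrivial
  obtain ⟨z0, hz0⟩ := exists_ne (1 : Subgroup.center ↥(P : Subgroup G))
  have hzP : ((z0 : ↥(P : Subgroup G)) : G) ∈ (P : Subgroup G) := (z0 : ↥(P : Subgroup G)).2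
  have hz1 : ((z0 : ↥(P : Subgroup G)) : G) ≠ 1 := by
    intro h0
    apply hz0
    apply Subtype.ext
    apply Subtype.ext
    simpa using h0
  have hzc : ∀ w ∈ (P : Subgroup G), w * ((z0 : ↥(P : Subgroup G)) : G) =
      ((z0 : ↥(P : Subgroup G)) : G) * w := by
    intro w hw
    have := Subgroup.mem_center_iff.mp z0.2 ⟨w, hw⟩
    exact congrArg Subtype.val this
  generalize ((z0 : ↥(P : Subgroup G)) : G) = z at hzP hz1 hzc
  have hpel : ∀ w ∈ (P : Subgroup G), ∃ k : ℕ, w ^ p ^ k = 1 := by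
    intro w hw
    obtain ⟨k, hk⟩ := P.isPGroup' ⟨w, hw⟩
    exact ⟨k, by simpa using congrArg Subtype.val hk⟩
  -- (4a)
  have h4a : ∀ y : G, (orderOf y).Coprime p → y * z = z * y → y = 1 := by
    intro y hy hyz
    have hyP : ∀ w ∈ (P : Subgroup G), y * w = w * y := by
      intro w hw
      obtain ⟨k, hk⟩ := hpel w hw
      exact Cfsg.Agent.S1474.commute_of_cn hCN z y w hz1 hyz (hzc w hw)
        (Nat.Coprime.coprime_dvd_right (orderOf_dvd_of_pow_eq_one hk) (Nat.Coprime.pow_right k hy))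
    have hyN : y ∈ N := by
      rw [← hNdef]
      apply Subgroup.centralizer_le_normalizer
      rw [Subgroup.mem_centralizer_iff]
      intro w hw
      exact (hyP w (zj_le hp _ hw)).symm
    have hyU : (⟨y, hyN⟩ : ↥N) ∈ Cfsg.pCore p ↥N := by
      apply ts_centralizer_le h3
      rw [Subgroup.mem_centralizer_iff]
      intro u hu
      apply Subtype.ext
      exact (hyP _ (hUP u hu)).symm
    obtain ⟨k, hk⟩ := hUp ⟨_, hyU⟩
    have hk' : y ^ p ^ k = 1 := by
      have h1 := congrArg (fun t : ↥(Cfsg.pCore p ↥N) => ((t : ↥N) : G)) hk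
      simpa using h1
    have h2 : orderOf y = 1 :=
      Nat.eq_one_of_dvd_coprimes (Nat.Coprime.pow_right k hy) dvd_rfl
        (orderOf_dvd_of_pow_eq_one hk')
    exact orderOf_eq_one_iff.mp h2
  -- (4b)
  have hstar : ∀ x y : G, x ≠ 1 → (∃ k : ℕ, x ^ p ^ k = 1) → (orderOf y).Coprime p →
      x * y = y * x → y = 1 := by
    rintro x y hx1 ⟨k, hk⟩ hy hxy
    have hzx : IsPGroup p (Subgroup.zpowers x) :=
      Cfsg.Agent.S1477.isPGroup_zpowers_of_pow p x k hk
    obtain ⟨P', hP'⟩ := hzx.exists_le_sylow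
    obtain ⟨g, hg⟩ := MulAction.exists_smul_eq G P P'
    have hxP' : x ∈ (g • P : Sylow p G) := by
      rw [hg]; exact hP' (Subgroup.mem_zpowers x)
    have hx1P : g⁻¹ * x * g ∈ (P : Subgroup G) := (mem_smul_sylow P g x).mp hxP'
    have hcomm1 : (g⁻¹ * y * g) * (g⁻¹ * x * g) = (g⁻¹ * x * g) * (g⁻¹ * y * g) := by
      calc (g⁻¹ * y * g) * (g⁻¹ * x * g) = g⁻¹ * (y * x) * g := by group
        _ = g⁻¹ * (x * y) * g := by rw [hxy]
        _ = (g⁻¹ * x * g) * (g⁻¹ * y * g) := by group
    have hx1' : g⁻¹ * x * g ≠ 1 := by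
      intro h0
      apply hx1
      have : x = g * (g⁻¹ * x * g) * g⁻¹ := by group
      rw [this, h0]; group
    obtain ⟨j, hj⟩ := hpel z hzP
    have hcz := Cfsg.Agent.S1474.commute_of_cn hCN (g⁻¹ * x * g) (g⁻¹ * y * g) z hx1' hcomm1
      (hzc _ hx1P).symm
      (by
        rw [orderOf_conj']
        exact Nat.Coprime.coprime_dvd_right (orderOf_dvd_of_pow_eq_one hj)
          (Nat.Coprime.pow_right j hy))
    have h1 := h4a (g⁻¹ * y * g) (by rw [orderOf_conj']; exact hy) hcz
    have : y = g * (g⁻¹ * y * g) * g⁻¹ := by group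
    rw [this, h1]; group
  -- (5) ZJ-theorem in every `p`-local subgroup
  have hloc : ∀ Q : Subgroup G, IsPGroup p Q → Q ≠ ⊥ →
      ∀ T : Sylow p ↥(Subgroup.normalizer (Q : Set G)),
        (Cfsg.centerThompsonAOf (T : Subgroup ↥(Subgroup.normalizer (Q : Set G)))).Normal := by
    intro Q hQ hQ1 T
    have hoddM : Odd (Nat.card ↥(Subgroup.normalizer (Q : Set G))) := by
      obtain ⟨c, hc⟩ := Subgroup.card_subgroup_dvd_card (Subgroup.normalizer (Q : Set G))
      rw [hc] at hodd
      exact (Nat.odd_mul.mp hodd).1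
    apply zj_normal hp hoddM _ T
    obtain ⟨x, hxQ, hx1⟩ := exists_ne_one_of_ne_bot hQ1
    have hxp : ∃ k : ℕ, x ^ p ^ k = 1 := by
      obtain ⟨k, hk⟩ := hQ ⟨x, hxQ⟩
      exact ⟨k, by simpa using congrArg Subtype.val hk⟩
    have hQ'n : (Q.subgroupOf (Subgroup.normalizer (Q : Set G))).Normal := inferInstance
    have hQ'le : Q.subgroupOf (Subgroup.normalizer (Q : Set G)) ≤
        Cfsg.pCore p ↥(Subgroup.normalizer (Q : Set G)) :=
      le_pCore p _ hQ'n hQ.comap_subtype
    have hCp : IsPGroup p ↥(Subgroup.centralizer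
        (Cfsg.pCore p ↥(Subgroup.normalizer (Q : Set G)) : Set ↥(Subgroup.normalizer (Q : Set G)))) := by
      rintro ⟨c, hc⟩
      obtain ⟨k, m, hm, hkm, hk1, hk2⟩ := Cfsg.Agent.S1477.exists_order_split p (c : G)
      refine ⟨k, ?_⟩
      apply Subtype.ext
      apply Subtype.ext
      simp only [Subgroup.coe_pow, Subgroup.coe_one]
      apply hstar x ((c : G) ^ p ^ k) hx1 hxp
      · rw [hk1]; exact ((Nat.Prime.coprime_iff_not_dvd hpp).mpr hm).symm
      · have hxc : x * (c : G) = (c : G) * x := by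
          have h1 := Subgroup.mem_centralizer_iff.mp hc ⟨x, Subgroup.le_normalizer hxQ⟩
            (hQ'le (Subgroup.mem_subgroupOf.mpr hxQ))
          exact congrArg Subtype.val h1
        exact (Commute.pow_right (show Commute x (c : G) from hxc) _).eq
    exact le_pCore p _ inferInstance hCp
  have hctl : ∀ (P' : Sylow p G) (Q : Subgroup G), Q ≤ (P' : Subgroup G) → Q ≠ ⊥ →
      Subgroup.normalizer (Q : Set G) ≤
        Subgroup.normalizer (Cfsg.centerThompsonAOf (P' : Subgroup G) : Set G) :=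
    fun P' Q hQ hQ1 => zj_control hp hloc P' Q hQ hQ1
  -- (7) strong embedding
  have hse : ∀ (g x : G), x ∈ (P : Subgroup G) → x ≠ 1 → g * x * g⁻¹ ∈ (P : Subgroup G) →
      g ∈ N := by
    intro g x hxP hx1 hgx
    have hx2 : x ∈ ((g⁻¹ • P : Sylow p G) : Subgroup G) := by
      have e : g⁻¹⁻¹ * x * g⁻¹ = g * x * g⁻¹ := by rw [inv_inv]
      have : x ∈ (g⁻¹ • P : Sylow p G) := by
        rw [mem_smul_sylow, e]; exact hgx
      exact this
    have hN2 := normalizer_zj_eq hp hctl P (g⁻¹ • P) x hxP hx2 hx1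
    have hP2N : ((g⁻¹ • P : Sylow p G) : Subgroup G) ≤ N := by
      rw [← hNdef, hN2]
      exact Subgroup.le_normalizer.trans (normalizer_le_zj hp _)
    obtain ⟨m, hmN, hm⟩ := exists_conj_le_sylow P N hPN _ (g⁻¹ • P : Sylow p G).isPGroup' hP2N
    have hle : (((m * g⁻¹) • P : Sylow p G) : Subgroup G) ≤ (P : Subgroup G) := by
      intro w hw
      have hw' : (m * g⁻¹)⁻¹ * w * (m * g⁻¹) ∈ (P : Subgroup G) :=
        (mem_smul_sylow P _ w).mp hw
      have h2 : m⁻¹ * w * m ∈ ((g⁻¹ • P : Sylow p G) : Subgroup G) := by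
        have : m⁻¹ * w * m ∈ (g⁻¹ • P : Sylow p G) := by
          rw [mem_smul_sylow]
          have e : g⁻¹⁻¹ * (m⁻¹ * w * m) * g⁻¹ = (m * g⁻¹)⁻¹ * w * (m * g⁻¹) := by group
          rw [e]; exact hw'
        exact this
      have h3 := hm _ h2
      have e : m * (m⁻¹ * w * m) * m⁻¹ = w := by group
      rwa [e] at h3
    have h1 : ((m * g⁻¹) • P : Sylow p G) = P :=
      Sylow.ext (((m * g⁻¹) • P : Sylow p G).is_maximal' P.isPGroup' hle).symm
    have h2 : m * g⁻¹ ∈ Subgroup.normalizer ((P : Subgroup G) : Set G) :=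
      Sylow.smul_eq_iff_mem_normalizer.mp h1
    have h3 : m * g⁻¹ ∈ N := by
      rw [← hNdef]; exact normalizer_le_zj hp _ h2
    have e : g = (m * g⁻¹)⁻¹ * m := by group
    rw [e]
    exact mul_mem (inv_mem h3) hmN
  -- (8) focal subgroup
  have hfoc : (P : Subgroup G).focalSubgroup ≤ (commutator ↥N).map N.subtype := by
    rw [Subgroup.focalSubgroup_def, Subgroup.closure_le]
    rintro g ⟨hgP, x, hx, u, rfl⟩
    by_cases hx1 : x = 1
    · subst hx1
      rw [commutatorElement_one_left]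
      exact one_mem _
    · have h1 : u * x⁻¹ * u⁻¹ ∈ (P : Subgroup G) := by
        have : u * x⁻¹ * u⁻¹ = x⁻¹ * ⁅x, u⁆ := by
          rw [commutatorElement_def]; group
        rw [this]
        exact mul_mem (inv_mem hx) hgP
      have huN : u ∈ N := hse u x⁻¹ (inv_mem hx) (by simpa using hx1) h1
      have hxN : x ∈ N := hPN hx
      refine ⟨⁅(⟨x, hxN⟩ : ↥N), ⟨u, huN⟩⁆, ?_, ?_⟩
      · rw [SetLike.mem_coe, _root_.commutator_def]
        exact Subgroup.commutator_mem_commutator (Subgroup.mem_top _) (Subgroup.mem_top _)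
      · rw [commutatorElement_def, commutatorElement_def]
        rfl
  have hPle : (P : Subgroup G) ≤ (commutator ↥N).map N.subtype := by
    have h1 : commutator G ⊓ (P : Subgroup G) = (P : Subgroup G) := by
      rw [hperf]; exact top_inf_eq _
    rw [Subgroup.commutator_inf_eq_focalSubgroup] at h1
    rw [← h1]
    exact hfoc
  apply ts_sylow_not_le_commutator h3 (P.subtype hPN)
  rw [Sylow.coe_subtype]
  intro w hw
  obtain ⟨c, hc, hcw⟩ := hPle (Subgroup.mem_subgroupOf.mp hw)
  have : c = w := Subtype.ext hcw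
  rwa [← this]

end thmA

end Cfsg.Agent.Lib.Helper50.CNZJ
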