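import Mathlib
import Cfsg.Agent.Lib.Helper50.CNZJ

/-! A minimal simple CN-group of odd order has no three-step subgroups. -/

set_option autoImplicit false
set_option linter.unusedVariables false
set_option linter.unusedSectionVars false

namespace Cfsg.Agent.Lib.Helper50.CNTS

open Subgroup
open Cfsg.Agent.Lib.Helper11.ZJ Cfsg.Agent.Lib.Helper11.ZJFam Cfsg.Agent.Lib.Helper11.ZJQuot
open Cfsg.Agent.Lib.Helper11.PConstr
open Cfsg.Agent.S0658 (exists_normalizing_not_mem card_lt_card_inf_normalizer sInf_famA_ne_bot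
  exists_conj_le_sylow)
open Cfsg.Agent.Lib.Helper50.CNBase Cfsg.Agent.Lib.Helper50.CNZJ
open Cfsg.Agent.Lib.Helper50.Cores

universe u

variable {G : Type u} [Group G] [Finite G]

theorem odd_card_subgroup (hodd : Odd (Nat.card G)) (S : Subgroup G) : Odd (Nat.card S) := by
  obtain ⟨c, hc⟩ := Subgroup.card_subgroup_dvd_card S
  rw [hc] at hodd
  exact (Nat.odd_mul.mp hodd).1

/-- If `S ≤ N₀` and `N₀` has a normal Sylow `q`-subgroup, every Sylow `q`-subgroup of `S` lies in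
`O_q(S)`. -/
theorem sylow_le_pCore_of_normal_sylow {q : ℕ} [Fact q.Prime] (S N₀ : Subgroup G) (hSN : S ≤ N₀)
    (T₂ : Sylow q ↥N₀) (hT₂ : (T₂ : Subgroup ↥N₀).Normal) (T : Sylow q ↥S) :
    (T : Subgroup ↥S) ≤ Cfsg.pCore q ↥S := by
  have hRq : IsPGroup q (((T₂ : Subgroup ↥N₀).map N₀.subtype).subgroupOf S) :=
    (T₂.isPGroup'.map N₀.subtype).comap_subtype
  have hRn : (((T₂ : Subgroup ↥N₀).map N₀.subtype).subgroupOf S).Normal := by
    constructor
    intro r hr s
    rw [Subgroup.mem_subgroupOf] at hr ⊢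
    obtain ⟨t, ht, hte⟩ := hr
    refine ⟨⟨(s : G), hSN s.2⟩ * t * ⟨(s : G), hSN s.2⟩⁻¹, hT₂.conj_mem t ht _, ?_⟩
    have hte' : (t : G) = (r : G) := hte
    simp [hte']
  have hTR : (T : Subgroup ↥S) ≤ ((T₂ : Subgroup ↥N₀).map N₀.subtype).subgroupOf S := by
    intro t ht
    rw [Subgroup.mem_subgroupOf]
    have hz : IsPGroup q (Subgroup.zpowers (⟨(t : G), hSN t.2⟩ : ↥N₀)) := by
      obtain ⟨k, hk⟩ := T.isPGroup' ⟨t, ht⟩
      apply Cfsg.Agent.S1477.isPGroup_zpowers_of_pow q _ k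
      apply Subtype.ext
      have h1 := congrArg (fun u : ↥(T : Subgroup ↥S) => ((u : ↥S) : G)) hk
      simpa using h1
    obtain ⟨Q, hQ⟩ := hz.exists_le_sylow
    have := Sylow.unique_of_normal T₂ hT₂
    rw [Subsingleton.elim Q T₂] at hQ
    exact ⟨⟨(t : G), hSN t.2⟩, hQ (Subgroup.mem_zpowers _), rfl⟩
  exact hTR.trans (le_pCore q _ hRn hRq)

theorem no_prime_ts_aux (hCN : Cfsg.IsCNGroup G) (hodd : Odd (Nat.card G))
    (hsimp : IsSimpleGroup G) (hsol : ∀ H : Subgroup G, H ≠ ⊤ → Group.IsSolvable H)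
    (hperf : commutator G = ⊤) :
    ∀ (n : ℕ) (S : Subgroup G) (q : ℕ), q.Prime → Nat.card G - Nat.card S = n →
      ¬ Cfsg.IsThreeStepGroup q ↥S := by
  intro n
  induction n using Nat.strong_induction_on with
  | _ n ih =>
  intro S q hq hn h3
  haveI := Fact.mk hq
  have hoddS : Odd (Nat.card S) := odd_card_subgroup hodd S
  have hq2 : q ≠ 2 := by
    rintro rfl
    have hU1 := h3.1
    have hUp : IsPGroup 2 (Cfsg.pCore 2 ↥S) := pCore_isPGroup 2
    obtain ⟨k, hk⟩ := IsPGroup.iff_card.mp hUp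
    have hk0 : k ≠ 0 := by
      rintro rfl
      rw [pow_zero] at hk
      exact hU1 (Subgroup.card_eq_one.mp hk)
    have h2 : 2 ∣ Nat.card S := by
      have h1 : Nat.card (Cfsg.pCore 2 ↥S) ∣ Nat.card S := Subgroup.card_subgroup_dvd_card _
      rw [hk] at h1
      exact (dvd_pow_self 2 hk0).trans h1
    exact (Nat.not_even_iff_odd.mpr hoddS) (even_iff_two_dvd.mpr h2)
  obtain ⟨T⟩ : Nonempty (Sylow q ↥S) := inferInstance
  have hZn := zj_normal hq2 hoddS (ts_centralizer_le h3) T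
  have hSN := normalizer_le_of_sylow' S T hZn
  have hT1 : (T : Subgroup ↥S) ≠ ⊥ := by
    intro h0
    have h1 := Cfsg.Agent.Lib.Helper33.PCore.pCore_le_sylow T
    rw [h0] at h1
    exact h3.1 (le_bot_iff.mp h1)
  obtain ⟨Q₀, hQ₀⟩ : ∃ Q₀ : Subgroup G, Q₀ = (T : Subgroup ↥S).map S.subtype := ⟨_, rfl⟩
  rw [← hQ₀] at hSN
  have hQ₀q : IsPGroup q Q₀ := by rw [hQ₀]; exact T.isPGroup'.map _
  have hQ₀1 : Q₀ ≠ ⊥ := by
    intro h0
    rw [hQ₀, Subgroup.map_eq_bot_iff_of_injective _ S.subtype_injective] at h0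
    exact hT1 h0
  have hZ1 : sInf (famA Q₀) ≠ ⊥ := sInf_famA_ne_bot hQ₀q hQ₀1
  have hZle : sInf (famA Q₀) ≤ Q₀ := sInf_le_self (isFam_famA hq2) Q₀
  have hN₀top : Subgroup.normalizer ((sInf (famA Q₀) : Subgroup G) : Set G) ≠ ⊤ := by
    intro h0
    have hn : (sInf (famA Q₀)).Normal := Subgroup.normalizer_eq_top_iff.mp h0
    rcases hn.eq_bot_or_eq_top with h1 | h1
    · exact hZ1 h1
    · apply ts_sylow_not_normal h3 T
      have h2 : (T : Subgroup ↥S) = ⊤ := by
        rw [eq_top_iff]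
        intro s _
        have hs : (s : G) ∈ Q₀ := hZle (by rw [h1]; exact Subgroup.mem_top _)
        rw [hQ₀] at hs
        obtain ⟨t, ht, hts⟩ := hs
        have : t = s := Subtype.ext hts
        rwa [← this]
      rw [h2]
      infer_instance
  have hZ'n : ((sInf (famA Q₀)).subgroupOf
      (Subgroup.normalizer ((sInf (famA Q₀) : Subgroup G) : Set G))).Normal := inferInstance
  obtain ⟨N₀, hN₀⟩ : ∃ N₀ : Subgroup G,
      N₀ = Subgroup.normalizer ((sInf (famA Q₀) : Subgroup G) : Set G) := ⟨_, rfl⟩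
  rw [← hN₀] at hSN hN₀top hZ'n
  haveI : Group.IsSolvable ↥N₀ := hsol N₀ hN₀top
  have hCN₀ : Cfsg.IsCNGroup ↥N₀ := Cfsg.Agent.S1473.cn_subgroup hCN N₀
  have hoddN₀ : Odd (Nat.card N₀) := odd_card_subgroup hodd N₀
  have hZ'q : IsPGroup q ((sInf (famA Q₀)).subgroupOf N₀) := (hQ₀q.to_le hZle).comap_subtype
  have hZ'1 : (sInf (famA Q₀)).subgroupOf N₀ ≠ ⊥ := by
    intro h0
    apply hZ1
    rw [eq_bot_iff]
    intro z hz
    have hzN : z ∈ N₀ := by rw [hN₀]; exact Subgroup.le_normalizer hz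
    have h1 : (⟨z, hzN⟩ : ↥N₀) ∈ (sInf (famA Q₀)).subgroupOf N₀ :=
      Subgroup.mem_subgroupOf.mpr hz
    rw [h0, Subgroup.mem_bot] at h1
    exact Subgroup.mem_bot.mpr (congrArg Subtype.val h1)
  rcases tri hCN₀ hoddN₀ with hnil | hF | ⟨q', hq', h3'⟩
  · exact ts_not_nilpotent h3 (Cfsg.Agent.S1473.nilp_of_le hSN hnil)
  · obtain ⟨T₂, hT₂⟩ := hF.exists_normal_sylow hCN₀ q _ hZ'q hZ'1
    exact ts_sylow_not_le h3 T (sylow_le_pCore_of_normal_sylow S N₀ hSN T₂ hT₂ T)
  · haveI := Fact.mk hq'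
    have hqq : q' = q := by
      by_contra hne
      apply hZ'1
      apply ts_normal_coprime_eq_bot h3'
      obtain ⟨k, hk⟩ := IsPGroup.iff_card.mp hZ'q
      rw [hk]
      exact Nat.Coprime.pow_left k ((Nat.coprime_primes hq hq').mpr (Ne.symm hne))
    subst hqq
    by_cases hcard : Nat.card S < Nat.card N₀
    · have h1 : Nat.card N₀ ≤ Nat.card G := Subgroup.card_le_card_group N₀
      exact ih (Nat.card G - Nat.card N₀) (by omega) N₀ q' hq' rfl h3'
    · have hSeq : S = N₀ := Subgroup.eq_of_le_of_card_ge hSN (not_lt.mp hcard)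
      obtain ⟨P, hP⟩ := hQ₀q.exists_le_sylow
      have hQP : Q₀ = (P : Subgroup G) := by
        apply le_antisymm hP
        intro y hyP
        by_contra hyQ
        have hlt : Q₀ < (P : Subgroup G) := lt_of_le_of_ne hP (fun h => hyQ (h ▸ hyP))
        obtain ⟨x, hxP, hxN, hxQ⟩ := exists_normalizing_not_mem P.isPGroup' hlt
        have hxS : x ∈ S := by
          rw [hSeq, hN₀]
          exact normalizer_le (isFam_famA hq2) Q₀ hxN
        have hTle : (T : Subgroup ↥S) ≤ ((P : Subgroup G) ⊓ S).subgroupOf S := by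
          intro t ht
          rw [Subgroup.mem_subgroupOf]
          refine ⟨hP ?_, t.2⟩
          rw [hQ₀]
          exact ⟨t, ht, rfl⟩
        have hq'' : IsPGroup q' (((P : Subgroup G) ⊓ S).subgroupOf S) :=
          (P.isPGroup'.to_le inf_le_left).comap_subtype
        have heq := T.is_maximal' hq'' hTle
        apply hxQ
        have h5 : (⟨x, hxS⟩ : ↥S) ∈ (T : Subgroup ↥S) := by
          rw [← heq]
          exact Subgroup.mem_subgroupOf.mpr ⟨hxP, hxS⟩
        rw [hQ₀]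
        exact ⟨⟨x, hxS⟩, h5, rfl⟩
      subst hN₀
      have h3'' : Cfsg.IsThreeStepGroup q'
          ↥(Subgroup.normalizer (Cfsg.centerThompsonAOf (P : Subgroup G) : Set G)) := by
        rw [centerThompsonAOf_eq, ← hQP]
        exact h3'
      exact no_ts_normalizer_zj hCN hodd hq2 hperf P h3''

/-- basic consequences of the standing hypothesis -/
theorem perfect_of_minSimple (hG : Cfsg.IsMinSimpleOddOrder G) : commutator G = ⊤ := by
  obtain ⟨hodd, hsimp, hnc, hsol⟩ := hG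
  haveI := hsimp
  have hn : (commutator G).Normal := inferInstance
  rcases hn.eq_bot_or_eq_top with h | h
  · exfalso
    apply hnc
    refine ⟨⟨fun a b => ?_⟩⟩
    have h1 : a * b * a⁻¹ * b⁻¹ ∈ commutator G := by
      rw [_root_.commutator_def]
      have := Subgroup.commutator_mem_commutator (H₁ := (⊤ : Subgroup G)) (H₂ := (⊤ : Subgroup G))
        (Subgroup.mem_top a) (Subgroup.mem_top b)
      rwa [commutatorElement_def] at this
    rw [h, Subgroup.mem_bot] at h1
    calc a * b = (a * b * a⁻¹ * b⁻¹) * b * a := by group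
      _ = b * a := by rw [h1, one_mul]
  · exact h

/-- A minimal simple CN-group of odd order has no three-step subgroup. -/
theorem no_three_step (hG : Cfsg.IsMinSimpleOddOrder G) (hCN : Cfsg.IsCNGroup G)
    (S : Subgroup G) (p : ℕ) : ¬ Cfsg.IsThreeStepGroup p ↥S := by
  have hperf := perfect_of_minSimple hG
  obtain ⟨hodd, hsimp, hnc, hsol⟩ := hG
  haveI := hsimp
  intro h3
  by_cases hS : S = ⊤
  · subst hS
    obtain ⟨hU, A, hA1, hAc, hAodd, hAcop, hVn, hVtop, ⟨n, hn⟩, hfpf, hlast⟩ := h3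
    haveI : Nontrivial ↥(⊤ : Subgroup G) :=
      (Subgroup.nontrivial_iff_ne_bot _).mpr (by
        intro h0
        exact (bot_ne_top (α := Subgroup G)) h0.symm)
    haveI : IsSimpleGroup ↥(⊤ : Subgroup G) :=
      IsSimpleGroup.isSimpleGroup_of_surjective (Subgroup.topEquiv (G := G)).symm.toMonoidHom
        (Subgroup.topEquiv (G := G)).symm.surjective
    have hUn : (Cfsg.pCore p ↥(⊤ : Subgroup G)).Normal := Subgroup.sSup_normal _ (fun _ h => h.1)
    rcases hUn.eq_bot_or_eq_top with h | h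
    · exact hU h
    · obtain ⟨a, haA, ha1⟩ := exists_ne_one_of_ne_bot hA1
      have h2 : a ∈ Cfsg.pCore p ↥(⊤ : Subgroup G) ⊓ Subgroup.centralizer ({a} : Set _) :=
        ⟨by rw [h]; exact Subgroup.mem_top _, Subgroup.mem_centralizer_singleton_iff.mpr rfl⟩
      rw [hfpf a haA ha1] at h2
      exact ha1 (Subgroup.mem_bot.mp h2)
  · haveI : Group.IsSolvable ↥S := hsol S hS
    obtain ⟨q, hq, h3q⟩ := exists_prime_ts (Cfsg.Agent.S1473.cn_subgroup hCN S)
      (odd_card_subgroup hodd S) p h3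
    exact no_prime_ts_aux hCN hodd hsimp hsol hperf _ S q hq rfl h3q

end Cfsg.Agent.Lib.Helper50.CNTS
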