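import Mathlib
import Cfsg.Agent.Lib.Helper50.CNTS

/-! Maximal nilpotent subgroups of a minimal simple CN-group of odd order. -/

set_option autoImplicit false
set_option linter.unusedVariables false
set_option linter.unusedSectionVars false

namespace Cfsg.Agent.Lib.Helper50.CNMax

open Subgroup
open scoped commutatorElement
open Cfsg.Agent.S0658 (exists_normalizing_not_mem card_lt_card_inf_normalizer exists_conj_le_sylow)
open Cfsg.Agent.Lib.Helper50.CNBase Cfsg.Agent.Lib.Helper50.CNZJ Cfsg.Agent.Lib.Helper50.CNTS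
open Cfsg.Agent.Lib.Helper50.Cores
open Cfsg.Agent.Lib.Helper2.FusCtl (mem_smul_sylow)

universe u

variable {G : Type u} [Group G] [Finite G]

/-- A maximal nilpotent subgroup. -/
def IsMaxNil (H : Subgroup G) : Prop :=
  Group.IsNilpotent ↥H ∧ ∀ L : Subgroup G, Group.IsNilpotent ↥L → H ≤ L → L = H

section conj

theorem mem_cj (H : Subgroup G) (g y : G) :
    y ∈ H.map (MulAut.conj g).toMonoidHom ↔ g⁻¹ * y * g ∈ H := by
  constructor
  · rintro ⟨h, hh, rfl⟩
    have e : g⁻¹ * ((MulAut.conj g).toMonoidHom h) * g = h := by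
      show g⁻¹ * (g * h * g⁻¹) * g = h
      group
    rw [e]; exact hh
  · intro hy
    refine ⟨g⁻¹ * y * g, hy, ?_⟩
    simp [MulAut.conj_apply, mul_assoc]

theorem cj_inv_cj (H : Subgroup G) (g : G) :
    (H.map (MulAut.conj g).toMonoidHom).map (MulAut.conj g⁻¹).toMonoidHom = H := by
  ext y
  rw [mem_cj, mem_cj]
  have e : g⁻¹ * (g⁻¹⁻¹ * y * g⁻¹) * g = y := by group
  rw [e]

theorem cj_cj_inv (H : Subgroup G) (g : G) :
    (H.map (MulAut.conj g⁻¹).toMonoidHom).map (MulAut.conj g).toMonoidHom = H := by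
  have := cj_inv_cj H g⁻¹
  rwa [inv_inv] at this

theorem card_cj (H : Subgroup G) (g : G) :
    Nat.card (H.map (MulAut.conj g).toMonoidHom) = Nat.card H :=
  Subgroup.card_map_of_injective (MulAut.conj g).injective

theorem normalizer_cj (H : Subgroup G) (g : G) :
    Subgroup.normalizer ((H.map (MulAut.conj g).toMonoidHom : Subgroup G) : Set G) =
      (Subgroup.normalizer (H : Set G)).map (MulAut.conj g).toMonoidHom :=
  (Subgroup.map_equiv_normalizer_eq H (MulAut.conj g)).symm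

theorem coe_smul_sylow {p : ℕ} [Fact p.Prime] (P : Sylow p G) (g : G) :
    ((g • P : Sylow p G) : Subgroup G) = (P : Subgroup G).map (MulAut.conj g).toMonoidHom := by
  rw [Sylow.coe_subgroup_smul]
  rfl

theorem IsMaxNil.cj {H : Subgroup G} (h : IsMaxNil H) (g : G) :
    IsMaxNil (H.map (MulAut.conj g).toMonoidHom) := by
  refine ⟨Cfsg.Agent.S1473.nilp_map _ H h.1, ?_⟩
  intro L hL hle
  have h1 : H ≤ L.map (MulAut.conj g⁻¹).toMonoidHom := by
    have := Subgroup.map_mono (f := (MulAut.conj g⁻¹).toMonoidHom) hle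
    rwa [cj_inv_cj] at this
  have h2 := h.2 _ (Cfsg.Agent.S1473.nilp_map _ L hL) h1
  rw [← h2, cj_cj_inv]

end conj

section basic

theorem zpowers_nilpotent (g : G) : Group.IsNilpotent ↥(Subgroup.zpowers g) := by
  letI : CommGroup ↥(Subgroup.zpowers g) :=
    { (inferInstance : Group ↥(Subgroup.zpowers g)) with
      mul_comm := fun a b => mul_comm' a b }
  exact CommGroup.isNilpotent

theorem not_nilpotent_of_minSimple (hG : Cfsg.IsMinSimpleOddOrder G) : ¬ Group.IsNilpotent G := by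
  obtain ⟨hodd, hsimp, hnc, hsol⟩ := hG
  haveI := hsimp
  intro hnil
  haveI := hnil
  have hZ : Subgroup.center G ≠ ⊥ := Group.IsNilpotent.center_ne_bot G
  have hn : (Subgroup.center G).Normal := inferInstance
  rcases hn.eq_bot_or_eq_top with h | h
  · exact hZ h
  · apply hnc
    refine ⟨⟨fun a b => ?_⟩⟩
    have ha : a ∈ Subgroup.center G := by rw [h]; exact Subgroup.mem_top a
    exact (Subgroup.mem_center_iff.mp ha b).symm

theorem top_not_nilpotent (hG : Cfsg.IsMinSimpleOddOrder G) :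
    ¬ Group.IsNilpotent ↥(⊤ : Subgroup G) := by
  intro h
  apply not_nilpotent_of_minSimple hG
  exact Cfsg.Agent.S1473.nilp_of_injective (Subgroup.topEquiv (G := G)).symm.toMonoidHom
    (Subgroup.topEquiv (G := G)).symm.injective

/-- Every nilpotent subgroup lies in a maximal nilpotent subgroup. -/
theorem exists_maxNil_ge : ∀ (n : ℕ) (L : Subgroup G), Group.IsNilpotent ↥L →
    Nat.card G - Nat.card L = n → ∃ H : Subgroup G, IsMaxNil H ∧ L ≤ H := by
  intro n
  induction n using Nat.strong_induction_on with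
  | _ n ih =>
  intro L hL hn
  by_cases hmax : ∀ L' : Subgroup G, Group.IsNilpotent ↥L' → L ≤ L' → L' = L
  · exact ⟨L, ⟨hL, hmax⟩, le_rfl⟩
  · push Not at hmax
    obtain ⟨L', hL', hle, hne⟩ := hmax
    have hlt : Nat.card L < Nat.card L' := by
      by_contra hcon
      exact hne (Subgroup.eq_of_le_of_card_ge hle (not_lt.mp hcon)).symm
    have h1 : Nat.card L' ≤ Nat.card G := Subgroup.card_le_card_group L'
    obtain ⟨H, hH, hle'⟩ := ih (Nat.card G - Nat.card L') (by omega) L' hL' rfl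
    exact ⟨H, hH, hle.trans hle'⟩

theorem IsMaxNil.ne_bot (hG : Cfsg.IsMinSimpleOddOrder G) {H : Subgroup G} (h : IsMaxNil H) :
    H ≠ ⊥ := by
  obtain ⟨hodd, hsimp, hnc, hsol⟩ := hG
  haveI := hsimp
  intro h0
  obtain ⟨g, hg⟩ := exists_ne (1 : G)
  have hnil : Group.IsNilpotent ↥(Subgroup.zpowers g) := zpowers_nilpotent g
  have h1 := h.2 (Subgroup.zpowers g) hnil (by rw [h0]; exact bot_le)
  rw [h0] at h1
  exact hg ((Subgroup.zpowers_eq_bot).mp h1)

theorem IsMaxNil.ne_top (hG : Cfsg.IsMinSimpleOddOrder G) {H : Subgroup G} (h : IsMaxNil H) :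
    H ≠ ⊤ := by
  intro h0
  apply top_not_nilpotent hG
  rw [← h0]
  exact h.1

theorem IsMaxNil.normalizer_ne_top (hG : Cfsg.IsMinSimpleOddOrder G) {H : Subgroup G}
    (h : IsMaxNil H) : Subgroup.normalizer (H : Set G) ≠ ⊤ := by
  have hsimp := hG.2.1
  haveI := hsimp
  intro h0
  have hn : H.Normal := Subgroup.normalizer_eq_top_iff.mp h0
  rcases hn.eq_bot_or_eq_top with h1 | h1
  · exact h.ne_bot hG h1
  · exact h.ne_top hG h1

theorem IsMaxNil.coprime (hCN : Cfsg.IsCNGroup G) {H : Subgroup G} (h : IsMaxNil H) :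
    (Nat.card H).Coprime H.index :=
  (Cfsg.Agent.S1477.result hCN H h.1 h.2).1

/-- A maximal nilpotent subgroup contains a Sylow `p`-subgroup of `G` for each prime `p` dividing
its order, and that Sylow subgroup contains all `p`-elements of `H`. -/
theorem IsMaxNil.exists_sylow (hCN : Cfsg.IsCNGroup G) {H : Subgroup G} (h : IsMaxNil H) (p : ℕ)
    [Fact p.Prime] (hp : p ∣ Nat.card H) :
    ∃ S : Sylow p G, (S : Subgroup G) ≤ H ∧
      ∀ y ∈ H, (∃ k : ℕ, y ^ p ^ k = 1) → y ∈ (S : Subgroup G) := by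
  obtain ⟨R, hRp, hRH, hR⟩ := Cfsg.Agent.S1477.exists_sylow_of_nilpotent H h.1 p
  obtain ⟨S, hS⟩ := hRp.exists_le_sylow
  have hSH : (S : Subgroup G) ≤ H :=
    Cfsg.Agent.S1477.le_of_contains_pElements hCN H h.1 h.2 p hp S S.2
      (fun y hy hyp => hS (hR y hy hyp))
  exact ⟨S, hSH, fun y hy hyp => hS (hR y hy hyp)⟩

theorem pElt_of_mem_sylow {p : ℕ} [Fact p.Prime] (P : Sylow p G) {w : G}
    (hw : w ∈ (P : Subgroup G)) : ∃ k : ℕ, w ^ p ^ k = 1 := by
  obtain ⟨k, hk⟩ := P.isPGroup' ⟨w, hw⟩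
  exact ⟨k, by simpa using congrArg Subtype.val hk⟩

/-- In a nilpotent subgroup containing the Sylow `p`-subgroup `P` of `G`, all `p`-elements lie in
`P`. -/
theorem pElt_mem_sylow_of_nilpotent {p : ℕ} [Fact p.Prime] (P : Sylow p G) (L : Subgroup G)
    (hL : Group.IsNilpotent ↥L) (hPL : (P : Subgroup G) ≤ L) (y : G) (hy : y ∈ L)
    (hyp : ∃ k : ℕ, y ^ p ^ k = 1) : y ∈ (P : Subgroup G) := by
  obtain ⟨R, hRp, hRL, hR⟩ := Cfsg.Agent.S1477.exists_sylow_of_nilpotent L hL p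
  have hPR : (P : Subgroup G) ≤ R := fun w hw => hR w (hPL hw) (pElt_of_mem_sylow P hw)
  have hRP : R = (P : Subgroup G) := P.is_maximal' hRp hPR
  rw [← hRP]
  exact hR y hy hyp

/-- Uniqueness: a nilpotent subgroup containing a nontrivial Sylow subgroup of `G` that lies in the
maximal nilpotent subgroup `H` is contained in `H`. -/
theorem IsMaxNil.le_of_sylow_le (hCN : Cfsg.IsCNGroup G) {H : Subgroup G} (h : IsMaxNil H) {p : ℕ}
    [Fact p.Prime] (P : Sylow p G) (hPH : (P : Subgroup G) ≤ H) (hP1 : (P : Subgroup G) ≠ ⊥)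
    (L : Subgroup G) (hL : Group.IsNilpotent ↥L) (hPL : (P : Subgroup G) ≤ L) : L ≤ H := by
  have hpH : p ∣ Nat.card H := by
    have h1 : p ∣ Nat.card (P : Subgroup G) := by
      obtain ⟨k, hk⟩ := IsPGroup.iff_card.mp P.isPGroup'
      have hk0 : k ≠ 0 := by
        rintro rfl
        rw [pow_zero] at hk
        exact hP1 (Subgroup.card_eq_one.mp hk)
      rw [hk]
      exact dvd_pow_self p hk0
    exact h1.trans (Subgroup.card_dvd_of_le hPH)
  obtain ⟨z, hzH, hz1, hzp, hzc⟩ := Cfsg.Agent.S1477.exists_central_pElement H h.1 p hpH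
  have hzP : z ∈ (P : Subgroup G) := pElt_mem_sylow_of_nilpotent P H h.1 hPH z hzH hzp
  have hCz := Cfsg.Agent.S1477.cent_eq hCN H h.2 z hz1 hzc
  have hzL : z ∈ L := hPL hzP
  have hall := Cfsg.Agent.S1477.central_of_commute_pElements L hL p z hzL hzp
    (fun y hy hyp => hzc y (hPH (pElt_mem_sylow_of_nilpotent P L hL hPL y hy hyp)))
  intro l hl
  rw [← hCz, Subgroup.mem_centralizer_iff]
  intro x hx
  rw [Set.mem_singleton_iff] at hx
  subst hx
  exact (hall l hl).symm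

/-- The normalizer of a nontrivial Sylow subgroup of `G` inside `H` normalizes `H`. -/
theorem IsMaxNil.normalizer_sylow_le (hCN : Cfsg.IsCNGroup G) {H : Subgroup G} (h : IsMaxNil H)
    {p : ℕ} [Fact p.Prime] (P : Sylow p G) (hPH : (P : Subgroup G) ≤ H)
    (hP1 : (P : Subgroup G) ≠ ⊥) :
    Subgroup.normalizer ((P : Subgroup G) : Set G) ≤ Subgroup.normalizer (H : Set G) := by
  intro n hn
  apply Cfsg.Agent.Lib.Helper11.PConstr.mem_normalizer_of_conj_mem'
  intro x hx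
  have hle : (P : Subgroup G) ≤ H.map (MulAut.conj n).toMonoidHom := by
    intro w hw
    rw [mem_cj]
    apply hPH
    have hn' : n⁻¹ ∈ Subgroup.normalizer ((P : Subgroup G) : Set G) := inv_mem hn
    have := (Subgroup.mem_normalizer_iff.mp hn' w).mp hw
    simpa using this
  have h1 := h.le_of_sylow_le hCN P hPH hP1 _ (Cfsg.Agent.S1473.nilp_map _ H h.1) hle
  apply h1
  rw [mem_cj]
  have e : n⁻¹ * (n * x * n⁻¹) * n = x := by group
  rw [e]; exact hx

end basic


section sylowTI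

theorem nil_or_frob (hG : Cfsg.IsMinSimpleOddOrder G) (hCN : Cfsg.IsCNGroup G) (M : Subgroup G)
    (hM : M ≠ ⊤) : Group.IsNilpotent ↥M ∨ Frob ↥M := by
  have hG' := hG
  obtain ⟨hodd, hsimp, hnc, hsol⟩ := hG
  haveI := hsol M hM
  rcases tri (Cfsg.Agent.S1473.cn_subgroup hCN M) (odd_card_subgroup hodd M) with h | h | ⟨p, hp, h⟩
  · exact Or.inl h
  · exact Or.inr h
  · exact absurd h (no_three_step hG' hCN M p)

/-- A proper subgroup normalizing a nontrivial `p`-subgroup has a normal Sylow `p`-subgroup. -/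
theorem exists_normal_sylow_of_normal_pSubgroup (hG : Cfsg.IsMinSimpleOddOrder G)
    (hCN : Cfsg.IsCNGroup G) {p : ℕ} [Fact p.Prime] (M : Subgroup G) (hM : M ≠ ⊤)
    (D : Subgroup G) (hDp : IsPGroup p D) (hD1 : D ≠ ⊥) (hDM : D ≤ M)
    (hMD : M ≤ Subgroup.normalizer (D : Set G)) :
    ∃ T : Sylow p ↥M, (T : Subgroup ↥M).Normal := by
  rcases nil_or_frob hG hCN M hM with h | h
  · haveI := h
    obtain ⟨T⟩ : Nonempty (Sylow p ↥M) := inferInstance
    exact ⟨T, inferInstance⟩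
  · have hn : (D.subgroupOf M).Normal := (Subgroup.normal_subgroupOf_iff_le_normalizer hDM).mpr hMD
    haveI := hn
    apply h.exists_normal_sylow (Cfsg.Agent.S1473.cn_subgroup hCN M) p (D.subgroupOf M)
      hDp.comap_subtype
    intro h0
    apply hD1
    rw [eq_bot_iff]
    intro d hd
    have h1 : (⟨d, hDM hd⟩ : ↥M) ∈ D.subgroupOf M := by
      rw [Subgroup.mem_subgroupOf]; exact hd
    rw [h0, Subgroup.mem_bot] at h1
    rw [Subgroup.mem_bot]
    simpa using congrArg Subtype.val h1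

theorem pGroup_ne_top (hG : Cfsg.IsMinSimpleOddOrder G) {p : ℕ} [Fact p.Prime] (D : Subgroup G)
    (hDp : IsPGroup p D) : D ≠ ⊤ := by
  intro h0
  apply top_not_nilpotent hG
  rw [← h0]
  exact hDp.isNilpotent

theorem normalizer_pGroup_ne_top (hG : Cfsg.IsMinSimpleOddOrder G) {p : ℕ} [Fact p.Prime]
    (D : Subgroup G) (hDp : IsPGroup p D) (hD1 : D ≠ ⊥) :
    Subgroup.normalizer (D : Set G) ≠ ⊤ := by
  have hsimp := hG.2.1
  haveI := hsimp
  intro h0
  have hn : D.Normal := Subgroup.normalizer_eq_top_iff.mp h0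
  rcases hn.eq_bot_or_eq_top with h1 | h1
  · exact hD1 h1
  · exact pGroup_ne_top hG D hDp h1

/-- Sylow subgroups of a minimal simple CN-group of odd order are TI. -/
theorem sylow_ti (hG : Cfsg.IsMinSimpleOddOrder G) (hCN : Cfsg.IsCNGroup G) {p : ℕ}
    [Fact p.Prime] : ∀ (n : ℕ) (P₁ P₂ : Sylow p G), P₁ ≠ P₂ →
    Nat.card (P₁ : Subgroup G) - Nat.card ↥((P₁ : Subgroup G) ⊓ (P₂ : Subgroup G)) = n →
    (P₁ : Subgroup G) ⊓ (P₂ : Subgroup G) = ⊥ := by
  intro n
  induction n using Nat.strong_induction_on with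
  | _ n ih =>
  intro P₁ P₂ hne hn
  by_contra hD1
  obtain ⟨D, hD⟩ : ∃ D : Subgroup G, D = (P₁ : Subgroup G) ⊓ (P₂ : Subgroup G) := ⟨_, rfl⟩
  rw [← hD] at hn hD1
  have hDP1 : D ≤ (P₁ : Subgroup G) := by rw [hD]; exact inf_le_left
  have hDP2 : D ≤ (P₂ : Subgroup G) := by rw [hD]; exact inf_le_right
  have hDp : IsPGroup p D := P₁.isPGroup'.to_le hDP1
  have hDlt1 : D < (P₁ : Subgroup G) := by
    refine lt_of_le_of_ne hDP1 (fun h => hne ?_)
    have h1 : (P₁ : Subgroup G) ≤ P₂ := by rw [← h]; exact hDP2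
    exact Sylow.ext (P₁.is_maximal' P₂.isPGroup' h1).symm
  have hDlt2 : D < (P₂ : Subgroup G) := by
    refine lt_of_le_of_ne hDP2 (fun h => hne ?_)
    have h1 : (P₂ : Subgroup G) ≤ P₁ := by rw [← h]; exact hDP1
    exact Sylow.ext (P₂.is_maximal' P₁.isPGroup' h1)
  have hM := normalizer_pGroup_ne_top hG D hDp hD1
  obtain ⟨T, hT⟩ := exists_normal_sylow_of_normal_pSubgroup hG hCN
    (Subgroup.normalizer (D : Set G)) hM D hDp hD1 Subgroup.le_normalizer le_rfl
  obtain ⟨P₃, hP₃⟩ := (T.isPGroup'.map (Subgroup.normalizer (D : Set G)).subtype).exists_le_sylow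
  have hcard : ∀ P : Sylow p G, Nat.card (P : Subgroup G) = Nat.card (P₁ : Subgroup G) := by
    intro P
    rw [P.card_eq_multiplicity, P₁.card_eq_multiplicity]
  have key : ∀ P : Sylow p G, D < (P : Subgroup G) →
      Nat.card (P : Subgroup G) - Nat.card ↥((P : Subgroup G) ⊓ (P₃ : Subgroup G)) < n ∧
        (P : Subgroup G) ⊓ (P₃ : Subgroup G) ≠ ⊥ := by
    intro P hDP
    have h1 := card_lt_card_inf_normalizer P.isPGroup' hDP
    have h2 : (P : Subgroup G) ⊓ Subgroup.normalizer (D : Set G) ≤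
        (P : Subgroup G) ⊓ (P₃ : Subgroup G) := by
      refine le_inf inf_le_left ?_
      intro x hx
      apply hP₃
      have hq : IsPGroup p (((P : Subgroup G) ⊓ Subgroup.normalizer (D : Set G)).subgroupOf
          (Subgroup.normalizer (D : Set G))) :=
        (P.isPGroup'.to_le inf_le_left).comap_subtype
      obtain ⟨Q, hQ⟩ := hq.exists_le_sylow
      have := Sylow.unique_of_normal T hT
      rw [Subsingleton.elim Q T] at hQ
      exact ⟨⟨x, hx.2⟩, hQ (Subgroup.mem_subgroupOf.mpr hx), rfl⟩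
    have h3 : Nat.card ↥((P : Subgroup G) ⊓ Subgroup.normalizer (D : Set G)) ≤
        Nat.card ↥((P : Subgroup G) ⊓ (P₃ : Subgroup G)) := Subgroup.card_le_of_le h2
    have h4 : Nat.card ↥((P : Subgroup G) ⊓ (P₃ : Subgroup G)) ≤ Nat.card (P : Subgroup G) :=
      Subgroup.card_le_of_le inf_le_left
    have h5 := hcard P
    have h6 : Nat.card D < Nat.card (P₁ : Subgroup G) := by
      by_contra hcon
      push Not at hcon
      exact (ne_of_lt hDlt1) (Subgroup.eq_of_le_of_card_ge hDP1 hcon)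
    refine ⟨by omega, ?_⟩
    intro h0
    rw [h0, Subgroup.card_bot] at h3
    have h7 : 0 < Nat.card D := Nat.card_pos
    omega
  have e1 : P₁ = P₃ := by
    by_contra hne1
    obtain ⟨hlt, hnb⟩ := key P₁ hDlt1
    exact hnb (ih _ hlt P₁ P₃ hne1 rfl)
  have e2 : P₂ = P₃ := by
    by_contra hne2
    obtain ⟨hlt, hnb⟩ := key P₂ hDlt2
    exact hnb (ih _ hlt P₂ P₃ hne2 rfl)
  exact hne (e1.trans e2.symm)

theorem IsMaxNil.ti (hG : Cfsg.IsMinSimpleOddOrder G) (hCN : Cfsg.IsCNGroup G) {H : Subgroup G}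
    (h : IsMaxNil H) (g : G) (hg : H.map (MulAut.conj g).toMonoidHom ≠ H) :
    H ⊓ H.map (MulAut.conj g).toMonoidHom = ⊥ := by
  have h1 := (Cfsg.Agent.S1477.result hCN H h.1 h.2).2.1
  by_cases hpp : IsPrimePow (Nat.card H)
  · obtain ⟨p, k, hp, hk, hpk⟩ := hpp
    have hp' : p.Prime := Nat.prime_iff.mpr hp
    haveI := Fact.mk hp'
    have hpH : p ∣ Nat.card H := by rw [← hpk]; exact dvd_pow_self p hk.ne'
    obtain ⟨S, hSH, hS⟩ := h.exists_sylow hCN p hpH
    have hHS : H = (S : Subgroup G) := S.is_maximal' (IsPGroup.of_card hpk.symm) hSH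
    have hne : S ≠ g • S := by
      intro h0
      apply hg
      rw [hHS, ← coe_smul_sylow, ← h0]
    have := sylow_ti hG hCN _ S (g • S) hne rfl
    rw [hHS, ← coe_smul_sylow]
    exact this
  · apply h1 hpp _ g hg
    intro hc
    exact h.ne_bot hG (Subgroup.card_eq_one.mp hc)

theorem IsMaxNil.centralizer_le (hG : Cfsg.IsMinSimpleOddOrder G) (hCN : Cfsg.IsCNGroup G)
    {H : Subgroup G} (h : IsMaxNil H) (x : G) (hx : x ∈ H) (hx1 : x ≠ 1) :
    Subgroup.centralizer ({x} : Set G) ≤ H :=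
  (Cfsg.Agent.S1477.result hCN H h.1 h.2).2.2 (h.ti hG hCN) x hx hx1

theorem IsMaxNil.fpf (hG : Cfsg.IsMinSimpleOddOrder G) (hCN : Cfsg.IsCNGroup G)
    {H : Subgroup G} (h : IsMaxNil H) (E : Subgroup G) (hHE : H ⊓ E = ⊥) :
    ∀ e ∈ E, e ≠ 1 → H ⊓ Subgroup.centralizer ({e} : Set G) = ⊥ := by
  intro e he he1
  rw [eq_bot_iff]
  rintro x ⟨hxH, hxc⟩
  rw [Subgroup.mem_bot]
  by_contra hx1
  have hle := h.centralizer_le hG hCN x hxH hx1
  have heH : e ∈ H := by
    apply hle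
    rw [Subgroup.mem_centralizer_singleton_iff]
    exact (Subgroup.mem_centralizer_singleton_iff.mp hxc).symm
  have h2 : e ∈ H ⊓ E := ⟨heH, he⟩
  rw [hHE, Subgroup.mem_bot] at h2
  exact he1 h2

end sylowTI


section normalizer

/-- Schur–Zassenhaus inside the normalizer of a maximal nilpotent subgroup. -/
theorem IsMaxNil.exists_compl (hCN : Cfsg.IsCNGroup G) {H : Subgroup G} (h : IsMaxNil H) :
    ∃ E : Subgroup G, Cfsg.IsComplIn H E (Subgroup.normalizer (H : Set G)) := by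
  obtain ⟨N, hN⟩ : ∃ N : Subgroup G, N = Subgroup.normalizer (H : Set G) := ⟨_, rfl⟩
  have hHN : H ≤ N := by rw [hN]; exact Subgroup.le_normalizer
  have hn : (H.subgroupOf N).Normal :=
    (Subgroup.normal_subgroupOf_iff_le_normalizer hHN).mpr (by rw [hN])
  haveI := hn
  have hcop : (Nat.card ↥(H.subgroupOf N)).Coprime (H.subgroupOf N).index := by
    rw [Nat.card_congr (Subgroup.subgroupOfEquivOfLe hHN).toEquiv]
    have h1 : H.relIndex N * N.index = H.index := Subgroup.relIndex_mul_index hHN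
    exact Nat.Coprime.coprime_dvd_right (Dvd.intro _ h1) (h.coprime hCN)
  obtain ⟨E', hE'⟩ := Subgroup.exists_right_complement'_of_coprime hcop
  rw [← hN]
  refine ⟨E'.map N.subtype, hHN, Subgroup.map_subtype_le _, ?_, ?_⟩
  · rw [eq_bot_iff]
    rintro x ⟨hxH, ⟨e, he, rfl⟩⟩
    have h2 : e ∈ H.subgroupOf N ⊓ E' := ⟨Subgroup.mem_subgroupOf.mpr hxH, he⟩
    rw [hE'.disjoint.eq_bot, Subgroup.mem_bot] at h2
    rw [Subgroup.mem_bot, h2]
    rfl
  · intro m hm
    obtain ⟨⟨a, b⟩, hab⟩ := hE'.2 ⟨m, hm⟩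
    refine ⟨a, Subgroup.mem_subgroupOf.mp a.2, b, ⟨b, b.2, rfl⟩, ?_⟩
    have h3 := congrArg Subtype.val hab
    simpa using h3.symm

/-- A maximal nilpotent subgroup is not self-normalizing (Burnside transfer/fusion control). -/
theorem IsMaxNil.normalizer_not_le (hG : Cfsg.IsMinSimpleOddOrder G) (hCN : Cfsg.IsCNGroup G)
    {H : Subgroup G} (h : IsMaxNil H) : ¬ Subgroup.normalizer (H : Set G) ≤ H := by
  intro hNH
  have hsimp := hG.2.1
  haveI := hsimp
  have hH1 := h.ne_bot hG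
  have hc1 : Nat.card H ≠ 1 := fun hc => hH1 (Subgroup.card_eq_one.mp hc)
  obtain ⟨p, hp, hpH⟩ := Nat.exists_prime_and_dvd hc1
  haveI := Fact.mk hp
  obtain ⟨P, hPH, hP⟩ := h.exists_sylow hCN p hpH
  have hP1 : (P : Subgroup G) ≠ ⊥ :=
    P.ne_bot_of_dvd_card (hpH.trans (Subgroup.card_subgroup_dvd_card H))
  have hctl : ∀ x ∈ P, ∀ y ∈ P, (∃ g : G, g * x * g⁻¹ = y) → ∃ z ∈ P, z * x * z⁻¹ = y := by
    intro x hx y hy ⟨g, hg⟩
    by_cases hx1 : x = 1
    · subst hx1
      refine ⟨1, one_mem _, ?_⟩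
      rw [← hg]; group
    have hgP : g • P = P := by
      by_contra hne
      have hti := sylow_ti hG hCN _ P (g • P) (fun h0 => hne h0.symm) rfl
      have hy2 : y ∈ ((g • P : Sylow p G) : Subgroup G) := by
        have h0 : y ∈ g • P := by
          rw [mem_smul_sylow, ← hg]
          have e : g⁻¹ * (g * x * g⁻¹) * g = x := by group
          rw [e]; exact hx
        exact h0
      have h2 : y ∈ (P : Subgroup G) ⊓ ((g • P : Sylow p G) : Subgroup G) := ⟨hy, hy2⟩
      rw [hti, Subgroup.mem_bot] at h2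
      apply hx1
      rw [h2] at hg
      have e : x = g⁻¹ * (g * x * g⁻¹) * g := by group
      rw [e, hg]; group
    have hgN : g ∈ Subgroup.normalizer ((P : Subgroup G) : Set G) :=
      Sylow.smul_eq_iff_mem_normalizer.mp hgP
    have hgH : g ∈ H := hNH (h.normalizer_sylow_le hCN P hPH hP1 hgN)
    obtain ⟨k, m, hm, hord, hordb, horda⟩ := Cfsg.Agent.S1477.exists_order_split p g
    have hcop0 : Nat.Coprime m p := ((Nat.Prime.coprime_iff_not_dvd hp).mpr hm).symm
    have hcop : Nat.Coprime m (p ^ k) := Nat.Coprime.pow_right k hcop0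
    have h1 := Nat.gcd_eq_gcd_ab m (p ^ k)
    rw [hcop] at h1
    have hgz : g = (g ^ m) ^ (Nat.gcdA m (p ^ k)) * (g ^ p ^ k) ^ (Nat.gcdB m (p ^ k)) := by
      rw [← zpow_natCast g m, ← zpow_natCast g (p ^ k), ← zpow_mul, ← zpow_mul, ← zpow_add, ← h1]
      simp
    obtain ⟨z, hz⟩ : ∃ z : G, z = (g ^ m) ^ (Nat.gcdA m (p ^ k)) := ⟨_, rfl⟩
    obtain ⟨d, hd⟩ : ∃ d : G, d = (g ^ p ^ k) ^ (Nat.gcdB m (p ^ k)) := ⟨_, rfl⟩
    rw [← hz, ← hd] at hgz
    have haP : g ^ m ∈ (P : Subgroup G) := by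
      apply hP _ (H.pow_mem hgH m)
      refine ⟨k, ?_⟩
      rw [← horda]; exact pow_orderOf_eq_one _
    have hzP : z ∈ (P : Subgroup G) := by rw [hz]; exact Subgroup.zpow_mem _ haP _
    have hdH : d ∈ H := by rw [hd]; exact H.zpow_mem (H.pow_mem hgH _) _
    have hdm : d ^ m = 1 := by
      rw [hd, ← zpow_natCast, ← zpow_mul, mul_comm, zpow_mul, zpow_natCast]
      have e : (g ^ p ^ k) ^ m = 1 := by rw [← hordb]; exact pow_orderOf_eq_one _
      rw [e, one_zpow]
    obtain ⟨j, hj⟩ := pElt_of_mem_sylow P hx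
    have hcop2 : Nat.Coprime (orderOf d) (orderOf x) :=
      Nat.Coprime.coprime_dvd_left (orderOf_dvd_of_pow_eq_one hdm)
        (Nat.Coprime.coprime_dvd_right (orderOf_dvd_of_pow_eq_one hj)
          (Nat.Coprime.pow_right j hcop0))
    have hcomm : d * x = x * d :=
      Cfsg.Agent.S1477.commute_in_nilpotent H h.1 hdH (hPH hx) hcop2
    refine ⟨z, hzP, ?_⟩
    rw [← hg, hgz]
    calc z * x * z⁻¹ = z * (x * d) * d⁻¹ * z⁻¹ := by group
      _ = z * (d * x) * d⁻¹ * z⁻¹ := by rw [hcomm]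
      _ = (z * d) * x * (z * d)⁻¹ := by group
  obtain ⟨K, hKn, hKc⟩ := Cfsg.Agent.Lib.Helper2.FusCtl.exists_normal_complement P hctl
  rcases hKn.eq_bot_or_eq_top with hK | hK
  · rw [hK] at hKc
    have h3 : (P : Subgroup G) = ⊤ := Subgroup.isComplement'_bot_left.mp hKc
    apply h.ne_top hG
    rw [eq_top_iff, ← h3]; exact hPH
  · rw [hK] at hKc
    exact hP1 (Subgroup.isComplement'_top_left.mp hKc)

theorem IsMaxNil.exists_compl' (hG : Cfsg.IsMinSimpleOddOrder G) (hCN : Cfsg.IsCNGroup G)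
    {H : Subgroup G} (h : IsMaxNil H) :
    ∃ E : Subgroup G, Cfsg.IsComplIn H E (Subgroup.normalizer (H : Set G)) ∧ E ≠ ⊥ ∧
      ∀ e ∈ E, e ≠ 1 → H ⊓ Subgroup.centralizer ({e} : Set G) = ⊥ := by
  obtain ⟨E, hE⟩ := h.exists_compl hCN
  refine ⟨E, hE, ?_, h.fpf hG hCN E hE.2.2.1⟩
  intro h0
  apply h.normalizer_not_le hG hCN
  intro m hm
  obtain ⟨a, ha, b, hb, rfl⟩ := hE.2.2.2 m hm
  rw [h0, Subgroup.mem_bot] at hb
  rw [hb, mul_one]; exact ha

/-- If `e` normalizes the finite subgroup `H` and fixes no non-identity element of it, then every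
element of `H` is a commutator `k e k⁻¹ e⁻¹` with `k ∈ H`. -/
theorem exists_comm_of_fpf (H : Subgroup G) (e : G) (heN : e ∈ Subgroup.normalizer (H : Set G))
    (hfp : H ⊓ Subgroup.centralizer ({e} : Set G) = ⊥) (x : G) (hx : x ∈ H) :
    ∃ k ∈ H, x = k * e * k⁻¹ * e⁻¹ := by
  let φ : ↥H → ↥H := fun k => ⟨(k : G) * e * (k : G)⁻¹ * e⁻¹, by
    have h1 : e * (k : G)⁻¹ * e⁻¹ ∈ H := (Subgroup.mem_normalizer_iff.mp heN _).mp (H.inv_mem k.2)
    have e1 : (k : G) * e * (k : G)⁻¹ * e⁻¹ = (k : G) * (e * (k : G)⁻¹ * e⁻¹) := by group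
    rw [e1]; exact H.mul_mem k.2 h1⟩
  have hinj : Function.Injective φ := by
    intro k k' hkk
    have h1 : (k : G) * e * (k : G)⁻¹ * e⁻¹ = (k' : G) * e * (k' : G)⁻¹ * e⁻¹ :=
      congrArg Subtype.val hkk
    have h3 : (k : G) * e * (k : G)⁻¹ = (k' : G) * e * (k' : G)⁻¹ := mul_right_cancel h1
    have h2 : ((k' : G)⁻¹ * (k : G)) * e = e * ((k' : G)⁻¹ * (k : G)) := by
      calc ((k' : G)⁻¹ * (k : G)) * e = (k' : G)⁻¹ * ((k : G) * e * (k : G)⁻¹) * (k : G) := by
            group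
        _ = (k' : G)⁻¹ * ((k' : G) * e * (k' : G)⁻¹) * (k : G) := by rw [h3]
        _ = e * ((k' : G)⁻¹ * (k : G)) := by group
    have h4 : (k' : G)⁻¹ * (k : G) ∈ H ⊓ Subgroup.centralizer ({e} : Set G) :=
      ⟨H.mul_mem (H.inv_mem k'.2) k.2, Subgroup.mem_centralizer_singleton_iff.mpr h2⟩
    rw [hfp, Subgroup.mem_bot] at h4
    apply Subtype.ext
    exact (inv_mul_eq_one.mp h4).symm
  have hsurj : Function.Surjective φ := Finite.injective_iff_surjective.mp hinj
  obtain ⟨k, hk⟩ := hsurj ⟨x, hx⟩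
  exact ⟨k, k.2, (congrArg Subtype.val hk).symm⟩

theorem le_normalizer_map_subtype (L : Subgroup G) (N : Subgroup ↥L) [hN : N.Normal] :
    L ≤ Subgroup.normalizer ((N.map L.subtype : Subgroup G) : Set G) := by
  intro l hl
  apply Cfsg.Agent.Lib.Helper11.PConstr.mem_normalizer_of_conj_mem'
  rintro x ⟨n, hn, rfl⟩
  exact ⟨⟨l, hl⟩ * n * ⟨l, hl⟩⁻¹, hN.conj_mem n hn _, by simp⟩

theorem fittingHallOf_nilpotent (L : Subgroup G) : Group.IsNilpotent ↥(Cfsg.fittingHallOf L) :=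
  Cfsg.Agent.S1473.nilp_map _ _ Cfsg.Agent.S1474.fittingHall_nilpotent

theorem fittingHallOf_le (L : Subgroup G) : Cfsg.fittingHallOf L ≤ L :=
  Subgroup.map_subtype_le _

theorem le_normalizer_fittingHallOf (L : Subgroup G) :
    L ≤ Subgroup.normalizer ((Cfsg.fittingHallOf L : Subgroup G) : Set G) :=
  le_normalizer_map_subtype L (Cfsg.fittingHall ↥L)

/-- The normalizer of a maximal nilpotent subgroup is a maximal subgroup. -/
theorem IsMaxNil.isCoatom_normalizer (hG : Cfsg.IsMinSimpleOddOrder G) (hCN : Cfsg.IsCNGroup G)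
    {H : Subgroup G} (h : IsMaxNil H) : IsCoatom (Subgroup.normalizer (H : Set G)) := by
  refine ⟨h.normalizer_ne_top hG, ?_⟩
  intro L hNL
  by_contra hL
  obtain ⟨E, hE, hE1, hfp⟩ := h.exists_compl' hG hCN
  have hHL : H ≤ L := Subgroup.le_normalizer.trans hNL.le
  rcases nil_or_frob hG hCN L hL with hn | hF
  · have h0 := h.2 L hn hHL
    rw [h0] at hNL
    exact absurd Subgroup.le_normalizer (not_le_of_gt hNL)
  · obtain ⟨e, heE, he1⟩ := exists_ne_one_of_ne_bot hE1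
    have heN : e ∈ Subgroup.normalizer (H : Set G) := hE.2.1 heE
    have heL : e ∈ L := hNL.le heN
    have hHF : H ≤ Cfsg.fittingHallOf L := by
      intro x hx
      obtain ⟨k, hk, rfl⟩ := exists_comm_of_fpf H e heN (hfp e heE he1) x hx
      have h1 : ⁅(⟨k, hHL hk⟩ : ↥L), (⟨e, heL⟩ : ↥L)⁆ ∈ commutator ↥L := by
        rw [_root_.commutator_def]
        exact Subgroup.commutator_mem_commutator (Subgroup.mem_top _) (Subgroup.mem_top _)
      have h2 := hF.commutator_le h1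
      exact ⟨_, h2, by simp [commutatorElement_def]⟩
    have hFH := h.2 _ (fittingHallOf_nilpotent L) hHF
    have hLN := le_normalizer_fittingHallOf L
    rw [hFH] at hLN
    exact absurd hLN (not_le_of_gt hNL)

end normalizer


section coatom

theorem IsMaxNil.le_fittingHallOf (hCN : Cfsg.IsCNGroup G) {H : Subgroup G} (h : IsMaxNil H)
    (M : Subgroup G) (hHM : H ≤ M) (hMN : M ≤ Subgroup.normalizer (H : Set G)) :
    H ≤ Cfsg.fittingHallOf M := by
  have hn : (H.subgroupOf M).Normal := (Subgroup.normal_subgroupOf_iff_le_normalizer hHM).mpr hMN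
  have hnil : Group.IsNilpotent ↥(H.subgroupOf M) := by
    haveI := h.1
    exact Cfsg.Agent.S1473.nilp_of_injective (Subgroup.subgroupOfEquivOfLe hHM).toMonoidHom
      (Subgroup.subgroupOfEquivOfLe hHM).injective
  have hcop : (Nat.card ↥(H.subgroupOf M)).Coprime (H.subgroupOf M).index := by
    rw [Nat.card_congr (Subgroup.subgroupOfEquivOfLe hHM).toEquiv]
    have h1 : H.relIndex M * M.index = H.index := Subgroup.relIndex_mul_index hHM
    exact Nat.Coprime.coprime_dvd_right (Dvd.intro _ h1) (h.coprime hCN)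
  have hle : H.subgroupOf M ≤ Cfsg.fittingHall ↥M := le_sSup ⟨hn, hnil, hcop⟩
  intro x hx
  exact ⟨⟨x, hHM hx⟩, hle (Subgroup.mem_subgroupOf.mpr hx), rfl⟩

theorem coatom_not_nilpotent (hG : Cfsg.IsMinSimpleOddOrder G) (hCN : Cfsg.IsCNGroup G)
    (M : Subgroup G) (hM : IsCoatom M) : ¬ Group.IsNilpotent ↥M := by
  intro hnil
  obtain ⟨H, hH, hMH⟩ := exists_maxNil_ge _ M hnil rfl
  have hHM : H = M := by
    by_contra hne
    exact hH.ne_top hG (hM.2 H (lt_of_le_of_ne hMH (fun h0 => hne h0.symm)))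
  rw [hHM] at hH
  have hN : Subgroup.normalizer (M : Set G) = M := by
    by_contra hne
    exact hH.normalizer_ne_top hG
      (hM.2 _ (lt_of_le_of_ne Subgroup.le_normalizer (fun h0 => hne h0.symm)))
  apply hH.normalizer_not_le hG hCN
  rw [hN]

theorem map_subtype_ne_bot (M : Subgroup G) (F : Subgroup ↥M) (hF : F ≠ ⊥) :
    F.map M.subtype ≠ ⊥ := by
  intro h0
  apply hF
  rw [eq_bot_iff]
  intro f hf
  have h1 : (f : G) ∈ F.map M.subtype := ⟨f, hf, rfl⟩
  rw [h0, Subgroup.mem_bot] at h1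
  rw [Subgroup.mem_bot]
  exact Subtype.ext h1

/-- For a maximal subgroup `M`, `M_F` is a maximal nilpotent subgroup with normalizer `M` and a
complement in `M`. -/
theorem coatom_fittingHallOf (hG : Cfsg.IsMinSimpleOddOrder G) (hCN : Cfsg.IsCNGroup G)
    (M : Subgroup G) (hM : IsCoatom M) :
    IsMaxNil (Cfsg.fittingHallOf M) ∧
      Subgroup.normalizer ((Cfsg.fittingHallOf M : Subgroup G) : Set G) = M ∧
      Cfsg.fittingHallOf M ≠ ⊥ ∧
      ∃ E : Subgroup G, Cfsg.IsComplIn (Cfsg.fittingHallOf M) E M ∧ E ≠ ⊥ := by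
  have hsimp := hG.2.1
  haveI := hsimp
  have hF : Frob ↥M := by
    rcases nil_or_frob hG hCN M hM.1 with h | h
    · exact absurd h (coatom_not_nilpotent hG hCN M hM)
    · exact h
  have hH1 : Cfsg.fittingHallOf M ≠ ⊥ := map_subtype_ne_bot M _ hF.ne_bot
  -- a subgroup of `M` normalized by `M`, nontrivial, has normalizer `M`
  have hnorm : ∀ X : Subgroup G, X ≤ M → X ≠ ⊥ → M ≤ Subgroup.normalizer (X : Set G) →
      Subgroup.normalizer (X : Set G) = M := by
    intro X hXM hX1 hMX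
    by_contra hne
    have htop := hM.2 _ (lt_of_le_of_ne hMX (fun h0 => hne h0.symm))
    have hn : X.Normal := Subgroup.normalizer_eq_top_iff.mp htop
    rcases hn.eq_bot_or_eq_top with h1 | h1
    · exact hX1 h1
    · apply hM.1
      rw [eq_top_iff, ← h1]; exact hXM
  have hN : Subgroup.normalizer ((Cfsg.fittingHallOf M : Subgroup G) : Set G) = M :=
    hnorm _ (fittingHallOf_le M) hH1 (le_normalizer_fittingHallOf M)
  have hmaxnil : IsMaxNil (Cfsg.fittingHallOf M) := by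
    refine ⟨fittingHallOf_nilpotent M, ?_⟩
    intro L hL hHL
    have hc1 : Nat.card (Cfsg.fittingHall ↥M) ≠ 1 := fun hc => hF.ne_bot (Subgroup.card_eq_one.mp hc)
    obtain ⟨p, hp, hpF⟩ := Nat.exists_prime_and_dvd hc1
    haveI := Fact.mk hp
    obtain ⟨S, hS⟩ := Cfsg.Agent.S1474.fittingHall_primes p hp hpF
    have hS1 : (S : Subgroup ↥M) ≠ ⊥ :=
      S.ne_bot_of_dvd_card (hpF.trans (Subgroup.card_subgroup_dvd_card _))
    have hP₀p : IsPGroup p ((S : Subgroup ↥M).map M.subtype) := S.isPGroup'.map M.subtype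
    have hP₀1 : (S : Subgroup ↥M).map M.subtype ≠ ⊥ := map_subtype_ne_bot M _ hS1
    haveI := hS
    have hP₀N : Subgroup.normalizer (((S : Subgroup ↥M).map M.subtype : Subgroup G) : Set G) = M :=
      hnorm _ (Subgroup.map_subtype_le _) hP₀1 (le_normalizer_map_subtype M (S : Subgroup ↥M))
    obtain ⟨P, hP⟩ := hP₀p.exists_le_sylow
    have hPeq : (S : Subgroup ↥M).map M.subtype = (P : Subgroup G) := by
      by_contra hne
      obtain ⟨x, hxP, hxN, hxS⟩ := exists_normalizing_not_mem P.isPGroup' (lt_of_le_of_ne hP hne)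
      rw [hP₀N] at hxN
      apply hxS
      have hq : IsPGroup p (((P : Subgroup G) ⊓ M).subgroupOf M) :=
        (P.isPGroup'.to_le inf_le_left).comap_subtype
      have hle : (S : Subgroup ↥M) ≤ ((P : Subgroup G) ⊓ M).subgroupOf M := by
        intro s hs
        rw [Subgroup.mem_subgroupOf]
        exact ⟨hP ⟨s, hs, rfl⟩, s.2⟩
      have heq := S.is_maximal' hq hle
      have hxmem : (⟨x, hxN⟩ : ↥M) ∈ ((P : Subgroup G) ⊓ M).subgroupOf M := by
        rw [Subgroup.mem_subgroupOf]; exact ⟨hxP, hxN⟩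
      rw [heq] at hxmem
      exact ⟨⟨x, hxN⟩, hxmem, rfl⟩
    have hPH : (P : Subgroup G) ≤ Cfsg.fittingHallOf M := by
      rw [← hPeq]
      exact Subgroup.map_mono (Cfsg.Agent.S1474.sylow_le_fittingHall p hp S hS)
    have hP1 : (P : Subgroup G) ≠ ⊥ := by rw [← hPeq]; exact hP₀1
    obtain ⟨Hs, hHs, hLHs⟩ := exists_maxNil_ge _ L hL rfl
    have hPHs : (P : Subgroup G) ≤ Hs := hPH.trans (hHL.trans hLHs)
    have h1 := hHs.normalizer_sylow_le hCN P hPHs hP1
    rw [← hPeq, hP₀N] at h1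
    have h2 : Subgroup.normalizer (Hs : Set G) = M := by
      by_contra hne
      exact hHs.normalizer_ne_top hG (hM.2 _ (lt_of_le_of_ne h1 (fun h0 => hne h0.symm)))
    have h3 : Hs ≤ M := by rw [← h2]; exact Subgroup.le_normalizer
    have h4 : Hs ≤ Cfsg.fittingHallOf M := hHs.le_fittingHallOf hCN M h3 h1
    exact le_antisymm (hLHs.trans h4) hHL
  refine ⟨hmaxnil, hN, hH1, ?_⟩
  obtain ⟨E', hE', hE'1, hE'c, hE'fp⟩ := hF.compl
  refine ⟨E'.map M.subtype, ⟨fittingHallOf_le M, Subgroup.map_subtype_le _, ?_, ?_⟩,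
    map_subtype_ne_bot M _ hE'1⟩
  · rw [eq_bot_iff]
    rintro x ⟨⟨f, hf, hfx⟩, ⟨e, he, rfl⟩⟩
    have hfe : f = e := Subtype.ext hfx
    have h2 : e ∈ Cfsg.fittingHall ↥M ⊓ E' := ⟨hfe ▸ hf, he⟩
    rw [hE'.disjoint.eq_bot, Subgroup.mem_bot] at h2
    rw [Subgroup.mem_bot, h2]
    rfl
  · intro m hm
    obtain ⟨⟨a, b⟩, hab⟩ := hE'.2 ⟨m, hm⟩
    refine ⟨a, ⟨a, a.2, rfl⟩, b, ⟨b, b.2, rfl⟩, ?_⟩
    have h3 := congrArg Subtype.val hab
    simpa using h3.symm

theorem IsMaxNil.fittingHallOf_normalizer (hG : Cfsg.IsMinSimpleOddOrder G)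
    (hCN : Cfsg.IsCNGroup G) {H : Subgroup G} (h : IsMaxNil H) :
    Cfsg.fittingHallOf (Subgroup.normalizer (H : Set G)) = H := by
  have hco := h.isCoatom_normalizer hG hCN
  have h1 := (coatom_fittingHallOf hG hCN _ hco).1
  have hle := h.le_fittingHallOf hCN (Subgroup.normalizer (H : Set G)) Subgroup.le_normalizer le_rfl
  exact h.2 _ h1.1 hle

/-- Two maximal nilpotent subgroups are conjugate or have coprime orders. -/
theorem IsMaxNil.conj_or_coprime (hCN : Cfsg.IsCNGroup G) {H₁ H₂ : Subgroup G}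
    (h₁ : IsMaxNil H₁) (h₂ : IsMaxNil H₂) :
    (∃ g : G, H₂ = H₁.map (MulAut.conj g).toMonoidHom) ∨
      (Nat.card H₁).Coprime (Nat.card H₂) := by
  by_cases hc : (Nat.card H₁).Coprime (Nat.card H₂)
  · exact Or.inr hc
  · left
    obtain ⟨p, hp, hpd⟩ := Nat.exists_prime_and_dvd hc
    haveI := Fact.mk hp
    have hp1 : p ∣ Nat.card H₁ := hpd.trans (Nat.gcd_dvd_left _ _)
    have hp2 : p ∣ Nat.card H₂ := hpd.trans (Nat.gcd_dvd_right _ _)
    obtain ⟨P₁, hP₁, -⟩ := h₁.exists_sylow hCN p hp1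
    obtain ⟨P₂, hP₂, -⟩ := h₂.exists_sylow hCN p hp2
    obtain ⟨g, hg⟩ := MulAction.exists_smul_eq G P₁ P₂
    refine ⟨g, ?_⟩
    have hP2' : (P₂ : Subgroup G) ≤ H₁.map (MulAut.conj g).toMonoidHom := by
      rw [← hg, coe_smul_sylow]
      exact Subgroup.map_mono hP₁
    have hP21 : (P₂ : Subgroup G) ≠ ⊥ :=
      P₂.ne_bot_of_dvd_card (hp2.trans (Subgroup.card_subgroup_dvd_card _))
    have hle := (h₁.cj g).le_of_sylow_le hCN P₂ hP2' hP21 H₂ h₂.1 hP₂
    exact (h₂.2 _ (h₁.cj g).1 hle).symm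

/-- Every maximal nilpotent subgroup is conjugate to `M_F` for one of the representatives `M` of
the conjugacy classes of maximal subgroups. -/
theorem IsMaxNil.exists_rep (hG : Cfsg.IsMinSimpleOddOrder G) (hCN : Cfsg.IsCNGroup G)
    {H : Subgroup G} (h : IsMaxNil H) (k : ℕ) (Mrep : Fin k → Subgroup G)
    (hall : ∀ M : Subgroup G, IsCoatom M →
      ∃ i, ∃ g : G, M = (Mrep i).map (MulAut.conj g).toMonoidHom) :
    ∃ i, ∃ g : G, H.map (MulAut.conj g).toMonoidHom = Cfsg.fittingHallOf (Mrep i) := by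
  obtain ⟨i, g, hg⟩ := hall _ (h.isCoatom_normalizer hG hCN)
  refine ⟨i, g⁻¹, ?_⟩
  have h1 := (h.cj g⁻¹).fittingHallOf_normalizer hG hCN
  rw [normalizer_cj, hg, cj_inv_cj] at h1
  exact h1.symm

end coatom

end Cfsg.Agent.Lib.Helper50.CNMax
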