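import Mathlib
import Cfsg.Agent.Lib.Helper12.AOStmt

/-!
S4068 piece CENT: in a group all of whose non-identity elements have prime order, commuting
non-identity elements have the same order.
-/

set_option autoImplicit false

namespace Cfsg.Agent.Lib.Helper50.AOCENT

open Cfsg.Agent.Lib.Helper12.AOStmt

universe u

theorem main : Cfsg.Agent.Lib.Helper12.AOStmt.Cent.{u} := by
  intro G _ _ hE x hx y hy hy1
  have hp := hE x hx
  have hq := hE y hy1
  by_contra hne
  have hcop : Nat.Coprime (orderOf x) (orderOf y) :=
    (Nat.coprime_primes hp hq).2 (fun h => hne h.symm)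
  have hcomm : Commute x y := by
    have h1 := Subgroup.mem_centralizer_iff.1 hy x (Set.mem_singleton x)
    exact h1
  have hord : orderOf (x * y) = orderOf x * orderOf y :=
    hcomm.orderOf_mul_eq_mul_orderOf_of_coprime hcop
  have hxy : x * y ≠ 1 := by
    intro h1
    rw [h1, orderOf_one] at hord
    have h2 := hp.two_le
    have h3 := hq.two_le
    nlinarith
  have hpr := hE (x * y) hxy
  rw [hord] at hpr
  exact Nat.not_prime_mul hp.one_lt.ne' hq.one_lt.ne' hpr

end Cfsg.Agent.Lib.Helper50.AOCENT
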