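import Mathlib
import Cfsg.Agent.Lib.Helper12.AOStmt

/-!
S4068 piece INV: the centralizer of an involution is commutative of exponent two.
-/

set_option autoImplicit false

namespace Cfsg.Agent.Lib.Helper50.AOINV

open Cfsg.Agent.Lib.Helper12.AOStmt

universe u

theorem main : Cfsg.Agent.Lib.Helper12.AOStmt.Inv.{u} := by
  intro G _ _ hcent t ht
  have ht1 : t ≠ 1 := by
    intro h
    rw [h, orderOf_one] at ht
    omega
  have hsq : ∀ c ∈ Subgroup.centralizer ({t} : Set G), c ^ 2 = 1 := by
    intro c hc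
    by_cases hc1 : c = 1
    · rw [hc1, one_pow]
    · have h1 := hcent t ht1 c hc hc1
      rw [ht] at h1
      rw [← h1]
      exact pow_orderOf_eq_one c
  refine ⟨⟨⟨?_⟩⟩, hsq⟩
  intro a b
  apply Subtype.ext
  have ha := hsq a a.2
  have hb := hsq b b.2
  have hab := hsq (a * b) (a * b).2
  have h1 : (a : G) * b * (a * b) = 1 := by
    have := hab
    rw [pow_two] at this
    exact this
  have ha' : (a : G) * a = 1 := by rw [← pow_two]; exact ha
  have hb' : (b : G) * b = 1 := by rw [← pow_two]; exact hb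
  have ia : (a : G)⁻¹ = a := (eq_inv_of_mul_eq_one_left ha').symm
  have ib : (b : G)⁻¹ = b := (eq_inv_of_mul_eq_one_left hb').symm
  have e1 : (a : G) * b = ((a : G) * b)⁻¹ := eq_inv_of_mul_eq_one_left h1
  rw [mul_inv_rev, ia, ib] at e1
  exact e1

end Cfsg.Agent.Lib.Helper50.AOINV
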