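import Mathlib
import Cfsg.Agent.Lib.Helper12.AOStmt

/-!
S4068 piece ORB1: the number of automorphism orbits is at least the number of prime divisors of
the order plus one.
-/

set_option autoImplicit false

namespace Cfsg.Agent.Lib.Helper50.AOORB1

open Cfsg.Agent.Lib.Helper12.AOStmt

universe u

variable {G : Type u} [Group G]

theorem ord_eq (a b : G) (h : (MulAction.orbitRel (MulAut G) G) a b) :
    orderOf a = orderOf b := by
  rw [MulAction.orbitRel_apply] at h
  obtain ⟨σ, rfl⟩ := h
  exact MulEquiv.orderOf_eq σ b

/-- the order of the elements of an orbit -/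
noncomputable def ord (G : Type u) [Group G] : MulAction.orbitRel.Quotient (MulAut G) G → ℕ :=
  Quotient.lift orderOf (fun a b h => ord_eq a b h)

theorem ord_mk (x : G) : ord G (Quotient.mk _ x) = orderOf x := rfl

theorem exists_order [Finite G] (n : ℕ) (hn : n ∈ insert 1 (Nat.card G).primeFactors) :
    ∃ x : G, orderOf x = n := by
  rw [Finset.mem_insert] at hn
  rcases hn with rfl | hn
  · exact ⟨1, orderOf_one⟩
  · have hp := Nat.prime_of_mem_primeFactors hn
    have hd := Nat.dvd_of_mem_primeFactors hn
    haveI : Fact n.Prime := ⟨hp⟩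
    exact exists_prime_orderOf_dvd_card' n hd

/-- a class for each of `1` and the prime divisors -/
noncomputable def cls (G : Type u) [Group G] [Finite G] :
    {n // n ∈ insert 1 (Nat.card G).primeFactors} → MulAction.orbitRel.Quotient (MulAut G) G :=
  fun n => Quotient.mk _ (Classical.choose (exists_order (G := G) n.1 n.2))

theorem ord_cls [Finite G] (n : {n // n ∈ insert 1 (Nat.card G).primeFactors}) :
    ord G (cls G n) = n.1 :=
  Classical.choose_spec (exists_order (G := G) n.1 n.2)

theorem cls_injective [Finite G] : Function.Injective (cls G) := by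
  intro a b h
  apply Subtype.ext
  rw [← ord_cls a, ← ord_cls b, h]

omit [Group G] in
theorem card_dom [Finite G] :
    Nat.card {n // n ∈ insert 1 (Nat.card G).primeFactors} =
      (Nat.card G).primeFactors.card + 1 := by
  rw [Nat.card_eq_fintype_card, Fintype.card_coe, Finset.card_insert_of_notMem]
  intro h
  exact Nat.not_prime_one (Nat.prime_of_mem_primeFactors h)

theorem main : Cfsg.Agent.Lib.Helper12.AOStmt.Orb1.{u} := by
  intro G _ _
  rw [← card_dom]
  exact Nat.card_le_card_of_injective (cls G) cls_injective

end Cfsg.Agent.Lib.Helper50.AOORB1
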