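import Mathlib
import Cfsg.Agent.Lib.Helper12.AOStmt
import Cfsg.Agent.Lib.Helper50.AOORB1

/-!
S4068 piece ORB2: if the number of automorphism orbits is the number of prime divisors of the
order plus one, every non-identity element has prime order.
-/

set_option autoImplicit false

namespace Cfsg.Agent.Lib.Helper50.AOORB2

open Cfsg.Agent.Lib.Helper12.AOStmt Cfsg.Agent.Lib.Helper50.AOORB1

universe u

theorem main : Cfsg.Agent.Lib.Helper12.AOStmt.Orb2.{u} := by
  intro G _ _ h x hx
  have hle : Nat.card (MulAction.orbitRel.Quotient (MulAut G) G) ≤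
      Nat.card {n // n ∈ insert 1 (Nat.card G).primeFactors} := by
    rw [card_dom, h]
  have hbij := (cls_injective (G := G)).bijective_of_nat_card_le hle
  obtain ⟨n, hn⟩ := hbij.2 (Quotient.mk _ x)
  have h1 : orderOf x = n.1 := by
    rw [← ord_mk x, ← hn, ord_cls]
  have h2 := n.2
  rw [Finset.mem_insert] at h2
  rcases h2 with h2 | h2
  · exfalso
    rw [h2] at h1
    exact hx (orderOf_eq_one_iff.1 h1)
  · rw [h1]
    exact Nat.prime_of_mem_primeFactors h2

end Cfsg.Agent.Lib.Helper50.AOORB2
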