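import Mathlib
import Cfsg.Agent.Lib.Helper31.ECStmt
import Cfsg.Agent.Lib.Helper47.Qs
import Cfsg.Agent.Lib.Helper47.Basic
import Cfsg.Agent.Lib.Helper21.Comp

/-!
# S2860 piece QSA

`O_p(X) = 1`, `K ⊴ X` quasisimple with `X / K` a `p`-group: every normal subgroup of `X`
containing a nontrivial `p`-element contains `K`.
-/

set_option autoImplicit false

namespace Cfsg.Agent.Lib.Helper50.ECQSA

universe u

open Cfsg

theorem main : Cfsg.Agent.Lib.Helper31.ECStmt.QSA.{u} := by
  intro X _ _ p _ K hcore hKn hq hpK N hNn hy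
  obtain ⟨y, hyN, hy1, n, hyn⟩ := hy
  have hnorm : K ≤ Subgroup.normalizer (N : Set X) := by
    rw [Subgroup.normalizer_eq_top]
    exact le_top
  rcases Cfsg.Agent.Lib.Helper21.Comp.le_or_inf_le_centralizer hq hnorm with h | h
  · exact h
  exfalso
  have hperf : ⁅K, K⁆ = K := Cfsg.Agent.Lib.Helper21.Comp.commutator_self hq
  -- `[N, K] ≤ N ⊓ K ≤ C(K)`
  have hcomm : ⁅N, K⁆ ≤ Subgroup.centralizer (K : Set X) :=
    le_trans (Subgroup.commutator_le_inf N K) h
  have hNC : N ≤ Subgroup.centralizer (K : Set X) :=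
    Cfsg.Agent.Lib.Helper47.Qs.le_centralizer_of_commutator_le hperf hcomm
  -- `N / (N ⊓ K)` is a `p`-group
  let A : Subgroup ↥N := K.subgroupOf N
  have hAn : A.Normal := hKn.subgroupOf N
  have hpq : IsPGroup p (↥N ⧸ A) := by
    intro g
    induction g using QuotientGroup.induction_on with
    | H x =>
      obtain ⟨m, hm⟩ := hpK (x : X)
      refine ⟨m, ?_⟩
      rw [← QuotientGroup.mk_pow]
      rw [QuotientGroup.eq_one_iff]
      show ((x ^ p ^ m : ↥N) : X) ∈ K
      simpa using hm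
  have hnilq : Group.IsNilpotent (↥N ⧸ A) := hpq.isNilpotent
  have hker : (QuotientGroup.mk' A).ker ≤ Subgroup.center ↥N := by
    rw [QuotientGroup.ker_mk']
    intro a ha
    rw [Subgroup.mem_center_iff]
    intro b
    have haK : (a : X) ∈ K := ha
    have hb : (b : X) ∈ Subgroup.centralizer (K : Set X) := hNC b.2
    apply Subtype.ext
    have := hb (a : X) haK
    simpa using this.symm
  have hnil : Group.IsNilpotent ↥N :=
    Subgroup.isNilpotent_of_ker_le_center (QuotientGroup.mk' A) hker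
  -- Sylow `p`-subgroup of `N` is normal in `N`, hence characteristic, hence normal in `X`
  have htfae := Group.isNilpotent_of_finite_tfae (G := ↥N)
  have hsyl : ∀ (q : ℕ) (_hq : Fact q.Prime) (P : Sylow q ↥N), (P : Subgroup ↥N).Normal :=
    (htfae.out 0 3).mp hnil
  obtain ⟨P⟩ : Nonempty (Sylow p ↥N) := inferInstance
  have hPn : (P : Subgroup ↥N).Normal := hsyl p inferInstance P
  have hPc : (P : Subgroup ↥N).Characteristic := Sylow.characteristic_of_normal P hPn
  have := hNn
  have hPX : ((P : Subgroup ↥N).map N.subtype).Normal := inferInstance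
  have hPp : IsPGroup p ↥((P : Subgroup ↥N).map N.subtype) :=
    P.isPGroup'.map N.subtype
  have hle : (P : Subgroup ↥N).map N.subtype ≤ Cfsg.pCore p X :=
    Cfsg.Agent.Lib.Helper47.Basic.le_pCore hPX hPp
  rw [hcore] at hle
  -- `y` lies in `P`
  have hyP : (⟨y, hyN⟩ : ↥N) ∈ (P : Subgroup ↥N) := by
    have hz : IsPGroup p ↥(Subgroup.zpowers (⟨y, hyN⟩ : ↥N)) := by
      rintro ⟨g, hg⟩
      obtain ⟨i, rfl⟩ := Subgroup.mem_zpowers_iff.mp hg
      refine ⟨n, ?_⟩
      apply Subtype.ext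
      apply Subtype.ext
      show (((⟨y, hyN⟩ : ↥N) ^ i) ^ p ^ n : ↥N).1 = 1
      rw [← zpow_natCast, ← zpow_mul, mul_comm, zpow_mul, zpow_natCast]
      have : ((⟨y, hyN⟩ : ↥N) ^ p ^ n) = 1 := Subtype.ext (by simpa using hyn)
      rw [this, one_zpow]
      rfl
    obtain ⟨Q, hQ⟩ := hz.exists_le_sylow
    have : Q = P := by
      have := Sylow.unique_of_normal P hPn
      exact Subsingleton.elim _ _
    rw [← this]
    exact hQ (Subgroup.mem_zpowers _)
  have : y ∈ (P : Subgroup ↥N).map N.subtype := ⟨⟨y, hyN⟩, hyP, rfl⟩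
  have : y ∈ (⊥ : Subgroup X) := hle this
  exact hy1 (Subgroup.mem_bot.mp this)

end Cfsg.Agent.Lib.Helper50.ECQSA

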