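import Mathlib
import Cfsg.Agent.Lib.Helper31.InvSylow
import Cfsg.Agent.Lib.Helper9.Rank2Aut
import Cfsg.Agent.Lib.Helper50.Transfer

set_option autoImplicit false

/-!
helper50: the "LP core" lemma for Bender–Glauberman Lemma 9.5 (S1402, helper90's proof).

* `frattini` : Frattini argument, internal form: `L = K N_L(S)` for a Sylow subgroup `S` of the
  normal subgroup `K` of `L`.
* `exists_mem_commutator_mul` : if `L = K N` with `K` normal in `L`, then `L' ⊆ N' K`.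
* `mem_commutator_of_pow` : a `p`-element `a ∈ N` with `a ∈ N' K`, `K` a `p'`-group: `a ∈ N'`.
* `lp_core` : `L` solvable of odd order, `K` a normal `p'`-subgroup of `L`, `S` a Sylow
  `v`-subgroup of `K` of rank at most 2 (`v` odd, `v ≠ p`): every `p`-element of `L'`
  normalizing `S` centralizes `S`.
-/

namespace Cfsg.Agent.Lib.Helper50.LPCore

open Cfsg.Agent.Lib.Helper50

open scoped commutatorElement

variable {G : Type*} [Group G]

/-- Frattini argument, internal form. -/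
theorem frattini [Finite G] {v : ℕ} [Fact v.Prime] (L K S : Subgroup G)
    (hLK : L ≤ Subgroup.normalizer (K : Set G)) (hSK : S ≤ K)
    (hScard : Nat.card ↥S = v ^ (Nat.card ↥K).factorization v) :
    ∀ g ∈ L, ∃ x ∈ K, x⁻¹ * g ∈ Subgroup.normalizer (S : Set G) := by
  intro g hg
  have h₂K : S.map (MulAut.conj g).toMonoidHom ≤ K := by
    rintro _ ⟨s, hs, rfl⟩
    exact (Subgroup.mem_normalizer_iff.mp (hLK hg) s).mp (hSK hs)
  have h₂c : Nat.card ↥(S.map (MulAut.conj g).toMonoidHom) =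
      v ^ (Nat.card ↥K).factorization v := by
    rw [Subgroup.card_map_of_injective (MulAut.conj g).injective, hScard]
  obtain ⟨x, hxK, hx⟩ := Cfsg.Agent.Lib.Helper31.InvSylow.sylow_conj K v S _ hSK h₂K hScard h₂c
  refine ⟨x, hxK, ?_⟩
  apply Transfer.mem_normalizer_of_conj_mem
  intro s hs
  have h1 : g * s * g⁻¹ ∈ S.map (MulAut.conj x).toMonoidHom := by
    rw [hx]; exact ⟨s, hs, rfl⟩
  obtain ⟨s', hs', hs'eq⟩ := h1
  have h2 : x * s' * x⁻¹ = g * s * g⁻¹ := hs'eq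
  have e : x⁻¹ * g * s * (x⁻¹ * g)⁻¹ = x⁻¹ * (g * s * g⁻¹) * x := by group
  rw [e, ← h2]
  have : x⁻¹ * (x * s' * x⁻¹) * x = s' := by group
  rw [this]; exact hs'

/-- If `L = K N` with `K` normal in `L`, every element of `L'` is a product of an element of
`N'` and an element of `K`. -/
theorem exists_mem_commutator_mul (L K N : Subgroup G) (hKL : K ≤ L) (hNL : N ≤ L)
    (hLK : L ≤ Subgroup.normalizer (K : Set G))
    (hfr : ∀ g ∈ L, ∃ x ∈ K, x⁻¹ * g ∈ N) (a : G) (ha : a ∈ ⁅L, L⁆) :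
    ∃ m ∈ ⁅N, N⁆, m⁻¹ * a ∈ K := by
  haveI hKn : (K.subgroupOf L).Normal := Subgroup.normal_subgroupOf_of_le_normalizer hLK
  have key : ∀ g : ↥L, ∃ n : ↥L, n ∈ N.subgroupOf L ∧
      (QuotientGroup.mk' (K.subgroupOf L)) g = (QuotientGroup.mk' (K.subgroupOf L)) n := by
    intro g
    obtain ⟨x, hx, hn⟩ := hfr g g.2
    refine ⟨⟨x⁻¹ * g, L.mul_mem (L.inv_mem (hKL hx)) g.2⟩, Subgroup.mem_subgroupOf.mpr hn, ?_⟩
    apply QuotientGroup.eq.mpr
    rw [Subgroup.mem_subgroupOf]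
    have h1 : (g : G)⁻¹ * x⁻¹ * (g : G)⁻¹⁻¹ ∈ K :=
      (Subgroup.mem_normalizer_iff.mp (hLK (L.inv_mem g.2)) _).mp (K.inv_mem hx)
    have e : ((g⁻¹ * ⟨x⁻¹ * g, L.mul_mem (L.inv_mem (hKL hx)) g.2⟩ : ↥L) : G) =
        (g : G)⁻¹ * x⁻¹ * (g : G)⁻¹⁻¹ := by
      push_cast; group
    rw [e]; exact h1
  have hle : commutator ↥L ≤ ⁅N.subgroupOf L, N.subgroupOf L⁆ ⊔ K.subgroupOf L := by
    rw [commutator_def, Subgroup.commutator_le]
    intro g₁ _ g₂ _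
    obtain ⟨n₁, hn₁, e₁⟩ := key g₁
    obtain ⟨n₂, hn₂, e₂⟩ := key g₂
    have h1 : (QuotientGroup.mk' (K.subgroupOf L)) ⁅g₁, g₂⁆ =
        (QuotientGroup.mk' (K.subgroupOf L)) ⁅n₁, n₂⁆ := by
      rw [map_commutatorElement, map_commutatorElement, e₁, e₂]
    have h2 : ⁅n₁, n₂⁆⁻¹ * ⁅g₁, g₂⁆ ∈ K.subgroupOf L := QuotientGroup.eq.mp h1.symm
    have e : ⁅g₁, g₂⁆ = ⁅n₁, n₂⁆ * (⁅n₁, n₂⁆⁻¹ * ⁅g₁, g₂⁆) := by group
    rw [e]
    exact Subgroup.mul_mem _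
      (Subgroup.mem_sup_left (Subgroup.commutator_mem_commutator hn₁ hn₂))
      (Subgroup.mem_sup_right h2)
  rw [← Subgroup.map_subtype_commutator] at ha
  obtain ⟨a', ha', rfl⟩ := ha
  obtain ⟨m', hm', κ, hκ, hmκ⟩ := Subgroup.mem_sup_of_normal_right.mp (hle ha')
  refine ⟨(m' : G), ?_, ?_⟩
  · have h3 : (⁅N.subgroupOf L, N.subgroupOf L⁆).map L.subtype = ⁅N, N⁆ := by
      rw [Subgroup.map_commutator, Subgroup.map_subgroupOf_eq_of_le hNL]
    rw [← h3]; exact ⟨m', hm', rfl⟩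
  · have : (m' : G)⁻¹ * (L.subtype a') = (κ : G) := by
      show (m' : G)⁻¹ * ((a' : ↥L) : G) = κ
      rw [← hmκ, Subgroup.coe_mul]; group
    rw [this]; exact Subgroup.mem_subgroupOf.mp hκ

/-- A `p`-element `a ∈ N` which is the product of an element of `N'` and an element of the
`p'`-group `K` lies in `N'`. -/
theorem mem_commutator_of_pow [Finite G] {p : ℕ} [Fact p.Prime] (N K : Subgroup G)
    (hKp : ¬ p ∣ Nat.card ↥K) (a m : G) (haN : a ∈ N) (hm : m ∈ ⁅N, N⁆) (hκ : m⁻¹ * a ∈ K)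
    (k : ℕ) (hak : a ^ p ^ k = 1) : a ∈ ⁅N, N⁆ := by
  have hpP : p.Prime := Fact.out
  rw [← Subgroup.map_subtype_commutator] at hm ⊢
  obtain ⟨m', hm', rfl⟩ := hm
  refine ⟨⟨a, haN⟩, ?_, rfl⟩
  have hψm : (QuotientGroup.mk' (commutator ↥N)) m' = 1 :=
    (QuotientGroup.eq_one_iff m').mpr hm'
  have h1 : ((QuotientGroup.mk' (commutator ↥N)) ⟨a, haN⟩) ^ p ^ k = 1 := by
    rw [← map_pow]
    have : (⟨a, haN⟩ : ↥N) ^ p ^ k = 1 := Subtype.ext (by simpa using hak)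
    rw [this, map_one]
  have h2 : (QuotientGroup.mk' (commutator ↥N)) ⟨a, haN⟩ =
      (QuotientGroup.mk' (commutator ↥N)) (m'⁻¹ * ⟨a, haN⟩) := by
    rw [map_mul, map_inv, hψm, inv_one, one_mul]
  have h3 : ((QuotientGroup.mk' (commutator ↥N)) (m'⁻¹ * ⟨a, haN⟩)) ^ Nat.card ↥K = 1 := by
    rw [← map_pow]
    have h4 : (m'⁻¹ * ⟨a, haN⟩ : ↥N) ^ Nat.card ↥K = 1 := by
      apply Subtype.ext
      have h5 : (⟨(m' : G)⁻¹ * a, hκ⟩ : ↥K) ^ Nat.card ↥K = 1 := pow_card_eq_one'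
      have h6 : ((m' : G)⁻¹ * a) ^ Nat.card ↥K = 1 := congrArg Subtype.val h5
      exact h6
    rw [h4, map_one]
  rw [← h2] at h3
  have h6 : orderOf ((QuotientGroup.mk' (commutator ↥N)) ⟨a, haN⟩) ∣ Nat.gcd (p ^ k) (Nat.card ↥K) :=
    Nat.dvd_gcd (orderOf_dvd_of_pow_eq_one h1) (orderOf_dvd_of_pow_eq_one h3)
  have hcop : Nat.Coprime (p ^ k) (Nat.card ↥K) :=
    Nat.Coprime.pow_left k ((Nat.Prime.coprime_iff_not_dvd hpP).mpr hKp)
  rw [hcop.gcd_eq_one, Nat.dvd_one, orderOf_eq_one_iff] at h6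
  exact (QuotientGroup.eq_one_iff _).mp h6

/-- **LP core.**  `L` solvable of odd order, `K` a normal `p'`-subgroup of `L`, `S` a Sylow
`v`-subgroup of `K` of `v`-rank at most 2, `v` odd, `v ≠ p`.  Then every `p`-element of `L'`
normalizing `S` centralizes `S`. -/
theorem lp_core [Finite G] {p v : ℕ} [Fact p.Prime] [Fact v.Prime] (hpv : p ≠ v) (hv2 : v ≠ 2)
    (L K S : Subgroup G) (hLodd : Odd (Nat.card ↥L)) (hLsol : Group.IsSolvable ↥L)
    (hKL : K ≤ L) (hLK : L ≤ Subgroup.normalizer (K : Set G)) (hKp : ¬ p ∣ Nat.card ↥K)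
    (hSK : S ≤ K) (hScard : Nat.card ↥S = v ^ (Nat.card ↥K).factorization v)
    (hSr : Cfsg.PRankLE v 2 ↥S)
    (a : G) (haL : a ∈ ⁅L, L⁆) (haS : a ∈ Subgroup.normalizer (S : Set G)) (k : ℕ)
    (hak : a ^ p ^ k = 1) : a ∈ Subgroup.centralizer (S : Set G) := by
  have hpP : p.Prime := Fact.out
  have hvP : v.Prime := Fact.out
  obtain ⟨N, hN⟩ : ∃ N : Subgroup G, N = L ⊓ Subgroup.normalizer (S : Set G) := ⟨_, rfl⟩
  have hNL : N ≤ L := hN ▸ inf_le_left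
  have hNS : N ≤ Subgroup.normalizer (S : Set G) := hN ▸ inf_le_right
  have haLL : a ∈ L := (Subgroup.commutator_le.mpr (fun g₁ h₁ g₂ h₂ =>
    L.mul_mem (L.mul_mem (L.mul_mem h₁ h₂) (L.inv_mem h₁)) (L.inv_mem h₂))) haL
  have haN : a ∈ N := hN ▸ Subgroup.mem_inf.mpr ⟨haLL, haS⟩
  have hfr : ∀ g ∈ L, ∃ x ∈ K, x⁻¹ * g ∈ N := by
    intro g hg
    obtain ⟨x, hx, hxn⟩ := frattini L K S hLK hSK hScard g hg
    exact ⟨x, hx, hN ▸ Subgroup.mem_inf.mpr ⟨L.mul_mem (L.inv_mem (hKL hx)) hg, hxn⟩⟩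
  obtain ⟨m, hm, hκ⟩ := exists_mem_commutator_mul L K N hKL hNL hLK hfr a haL
  have haN' : a ∈ ⁅N, N⁆ := mem_commutator_of_pow N K hKp a m haN hm hκ k hak
  have hSv : IsPGroup v ↥S := IsPGroup.of_card hScard
  have hNsol : Group.IsSolvable ↥N :=
    Group.isSolvable_of_isSolvable_injective (Subgroup.inclusion_injective hNL)
  have hNodd : Odd (Nat.card ↥N) := Odd.of_dvd_nat hLodd (Subgroup.card_dvd_of_le hNL)
  have hcop : (orderOf a).Coprime v := by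
    have h1 : orderOf a ∣ p ^ k := orderOf_dvd_of_pow_eq_one hak
    exact Nat.Coprime.coprime_dvd_left h1
      (Nat.Coprime.pow_left k ((Nat.coprime_primes hpP hvP).mpr hpv))
  exact Cfsg.Agent.Lib.Helper9.Rank2Aut.conj_derived v hv2 S N hSv hSr hNS hNsol hNodd a haN' hcop

end Cfsg.Agent.Lib.Helper50.LPCore
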