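import Mathlib
import Cfsg.Agent.Lib.Helper56.PEStmt

/-!
S2276 piece NSC: the non-solvability certificate `x = z ⁅x, y x y⁻¹⁆ z⁻¹`.
-/

set_option autoImplicit false

namespace Cfsg.Agent.Lib.Helper50.PENSC

open Cfsg.Agent.Lib.Helper56.PEStmt
open scoped commutatorElement

theorem main : NSCert := by
  intro G _ H x y z hx hy hz hx1 key
  obtain ⟨x', hx'⟩ : ∃ x' : ↥H, (x' : G) = x := ⟨⟨x, hx⟩, rfl⟩
  obtain ⟨y', hy'⟩ : ∃ y' : ↥H, (y' : G) = y := ⟨⟨y, hy⟩, rfl⟩
  obtain ⟨z', hz'⟩ : ∃ z' : ↥H, (z' : G) = z := ⟨⟨z, hz⟩, rfl⟩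
  have key' : x' = z' * ⁅x', y' * x' * y'⁻¹⁆ * z'⁻¹ := by
    apply Subtype.ext
    rw [commutatorElement_def]
    simp only [Subgroup.coe_mul, Subgroup.coe_inv, hx', hy', hz']
    exact key
  have hx1' : x' ≠ 1 := by
    intro h
    apply hx1
    rw [← hx', h]
    rfl
  refine not_isSolvable_of_mem_derivedSeries hx1' fun n => ?_
  induction n with
  | zero => exact Subgroup.mem_top x'
  | succ n ih =>
    rw [key', (derivedSeries_normal _ _).mem_comm_iff, inv_mul_cancel_left]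
    exact Subgroup.commutator_mem_commutator ih ((derivedSeries_normal _ _).conj_mem _ ih _)

end Cfsg.Agent.Lib.Helper50.PENSC
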