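import Mathlib
import Cfsg.Agent.Lib.Helper56.PEStmt

/-!
S2276 piece RNS: restriction along an injective equivariant map, non-solvability lifts.
-/

set_option autoImplicit false

namespace Cfsg.Agent.Lib.Helper50.PERNS

open Cfsg.Agent.Lib.Helper56.PEStmt Equiv Equiv.Perm

/-- the subgroup of compatible pairs -/
def compat {α β : Type} (ι : β → α) : Subgroup (Perm α × Perm β) where
  carrier := {w | ∀ b, w.1 (ι b) = ι (w.2 b)}
  mul_mem' := by
    intro w1 w2 h1 h2 b
    have e1 : (w1 * w2).1 (ι b) = w1.1 (w2.1 (ι b)) := rfl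
    have e2 : (w1 * w2).2 b = w1.2 (w2.2 b) := rfl
    rw [e1, e2, h2, h1]
  one_mem' := by
    intro b
    rfl
  inv_mem' := by
    intro w h b
    have e1 : (w⁻¹).1 (ι b) = w.1⁻¹ (ι b) := rfl
    have e2 : (w⁻¹).2 b = w.2⁻¹ b := rfl
    rw [e1, e2, Perm.inv_eq_iff_eq, h]
    simp

theorem main : RNS := by
  intro α β ι hι f g A B hA hB hns H hAH hBH hsolv
  apply hns
  obtain ⟨D, hD⟩ : ∃ D : Subgroup (Perm α × Perm β),
      D = Subgroup.closure {((A, f) : Perm α × Perm β), (B, g)} := ⟨_, rfl⟩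
  have hDK : D ≤ compat ι := by
    rw [hD, Subgroup.closure_le]
    rintro w (rfl | rfl)
    · exact hA
    · exact hB
  have hDH : D ≤ Subgroup.comap (MonoidHom.fst (Perm α) (Perm β)) H := by
    rw [hD, Subgroup.closure_le]
    rintro w (rfl | rfl)
    · exact hAH
    · exact hBH
  have hDC : D ≤ Subgroup.comap (MonoidHom.snd (Perm α) (Perm β))
      (Subgroup.closure ({f, g} : Set (Perm β))) := by
    rw [hD, Subgroup.closure_le]
    rintro w (rfl | rfl)
    · exact Subgroup.subset_closure (Set.mem_insert _ _)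
    · exact Subgroup.subset_closure (Set.mem_insert_of_mem _ rfl)
  obtain ⟨ψ, hψ⟩ : ∃ ψ : ↥D →* ↥H, ∀ w : ↥D, ((ψ w : ↥H) : Perm α) = (w : Perm α × Perm β).1 :=
    ⟨((MonoidHom.fst (Perm α) (Perm β)).comp D.subtype).codRestrict H (fun w => hDH w.2),
      fun w => rfl⟩
  obtain ⟨χ, hχ⟩ : ∃ χ : ↥D →* ↥(Subgroup.closure ({f, g} : Set (Perm β))),
      ∀ w : ↥D, ((χ w : ↥(Subgroup.closure ({f, g} : Set (Perm β)))) : Perm β) =
        (w : Perm α × Perm β).2 :=
    ⟨((MonoidHom.snd (Perm α) (Perm β)).comp D.subtype).codRestrict _ (fun w => hDC w.2),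
      fun w => rfl⟩
  have hψinj : Function.Injective ψ := by
    intro w1 w2 h
    have h1 : (w1 : Perm α × Perm β).1 = (w2 : Perm α × Perm β).1 := by
      rw [← hψ, ← hψ, h]
    have h2 : (w1 : Perm α × Perm β).2 = (w2 : Perm α × Perm β).2 := by
      ext b
      apply hι
      rw [← hDK w1.2 b, ← hDK w2.2 b, h1]
    exact Subtype.ext (Prod.ext h1 h2)
  have hχsurj : Function.Surjective χ := by
    intro y
    have hle : Subgroup.closure ({f, g} : Set (Perm β)) ≤
        Subgroup.map (MonoidHom.snd (Perm α) (Perm β)) D := by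
      rw [Subgroup.closure_le]
      rintro w (rfl | rfl)
      · exact ⟨(A, w), by rw [hD]; exact Subgroup.subset_closure (Set.mem_insert _ _), rfl⟩
      · exact ⟨(B, w), by rw [hD]; exact Subgroup.subset_closure (Set.mem_insert_of_mem _ rfl),
          rfl⟩
    obtain ⟨w, hw, hwy⟩ := hle y.2
    refine ⟨⟨w, hw⟩, ?_⟩
    apply Subtype.ext
    rw [hχ]
    exact hwy
  haveI : Group.IsSolvable ↥D := Group.isSolvable_of_isSolvable_injective hψinj
  exact Group.isSolvable_of_surjective hχsurj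

end Cfsg.Agent.Lib.Helper50.PERNS
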