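import Mathlib
import Cfsg.Agent.Lib.Helper56.PEStmt
import Cfsg.Agent.Lib.Helper50.PENSC
import Cfsg.Agent.Lib.Helper50.PERNS

/-!
S2276 piece A5C: two 3-cycles sharing exactly one point generate a non-solvable group.
-/

set_option autoImplicit false

namespace Cfsg.Agent.Lib.Helper50.PEA5C

open Cfsg.Agent.Lib.Helper56.PEStmt Equiv Equiv.Perm

/-- `(0 1 2)` on `Fin 5` -/
def f5 : Perm (Fin 5) := swap 0 1 * swap 1 2

/-- `(2 3 4)` on `Fin 5` -/
def g5 : Perm (Fin 5) := swap 2 3 * swap 3 4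

set_option maxRecDepth 100000 in
theorem not_solvable_fin5 :
    ¬ Group.IsSolvable ↥(Subgroup.closure ({f5, g5} : Set (Perm (Fin 5)))) := by
  have hf : f5 ∈ Subgroup.closure ({f5, g5} : Set (Perm (Fin 5))) :=
    Subgroup.subset_closure (Set.mem_insert _ _)
  have hg : g5 ∈ Subgroup.closure ({f5, g5} : Set (Perm (Fin 5))) :=
    Subgroup.subset_closure (Set.mem_insert_of_mem _ rfl)
  refine Cfsg.Agent.Lib.Helper50.PENSC.main (Subgroup.closure ({f5, g5} : Set (Perm (Fin 5))))
    f5 (g5 * f5⁻¹ * g5) g5 hf (mul_mem (mul_mem hg (inv_mem hf)) hg) hg ?_ ?_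
  · unfold f5
    decide
  · unfold f5 g5
    decide

theorem main : A5C := by
  intro α _ H v₀ v₁ v₂ v₃ v₄ hnd hA hB
  simp only [List.nodup_cons, List.mem_cons, List.not_mem_nil, or_false, not_or,
    List.nodup_nil, and_true] at hnd
  obtain ⟨⟨h01, h02, h03, h04⟩, ⟨h12, h13, h14⟩, ⟨h23, h24⟩, h34, -⟩ := hnd
  obtain ⟨ι, hι⟩ : ∃ ι : Fin 5 → α, ι = ![v₀, v₁, v₂, v₃, v₄] := ⟨_, rfl⟩
  have hinj : Function.Injective ι := by
    intro i j hij
    rw [hι] at hij
    fin_cases i <;> fin_cases j <;> simp_all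
  have hf : ∀ b, (swap v₀ v₁ * swap v₁ v₂) (ι b) = ι (f5 b) := by
    intro b
    rw [hι]
    fin_cases b
    · have e : f5 (0 : Fin 5) = 1 := by unfold f5; decide
      simp [e, Perm.mul_apply, swap_apply_def, h01, h02]
    · have e : f5 (1 : Fin 5) = 2 := by unfold f5; decide
      simp [e, Perm.mul_apply, swap_apply_def, h12, Ne.symm h02, Ne.symm h12]
    · have e : f5 (2 : Fin 5) = 0 := by unfold f5; decide
      simp [e, Perm.mul_apply, swap_apply_def, Ne.symm h12]
    · have e : f5 (3 : Fin 5) = 3 := by unfold f5; decide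
      simp [e, Perm.mul_apply, swap_apply_def, Ne.symm h03, Ne.symm h13, Ne.symm h23]
    · have e : f5 (4 : Fin 5) = 4 := by unfold f5; decide
      simp [e, Perm.mul_apply, swap_apply_def, Ne.symm h04, Ne.symm h14, Ne.symm h24]
  have hg : ∀ b, (swap v₂ v₃ * swap v₃ v₄) (ι b) = ι (g5 b) := by
    intro b
    rw [hι]
    fin_cases b
    · have e : g5 (0 : Fin 5) = 0 := by unfold g5; decide
      simp [e, Perm.mul_apply, swap_apply_def, h02, h03, h04]
    · have e : g5 (1 : Fin 5) = 1 := by unfold g5; decide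
      simp [e, Perm.mul_apply, swap_apply_def, h12, h13, h14]
    · have e : g5 (2 : Fin 5) = 3 := by unfold g5; decide
      simp [e, Perm.mul_apply, swap_apply_def, h23, h24]
    · have e : g5 (3 : Fin 5) = 4 := by unfold g5; decide
      simp [e, Perm.mul_apply, swap_apply_def, h34, Ne.symm h24, Ne.symm h34]
    · have e : g5 (4 : Fin 5) = 2 := by unfold g5; decide
      simp [e, Perm.mul_apply, swap_apply_def, Ne.symm h34]
  exact Cfsg.Agent.Lib.Helper50.PERNS.main ι hinj f5 g5 _ _ hf hg not_solvable_fin5 H hA hB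

end Cfsg.Agent.Lib.Helper50.PEA5C
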