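import Mathlib
import Cfsg.Agent.Lib.Helper56.PEStmt

/-!
S2276 piece BLOW: `(c * t) ^ M` restricts to `c' * t'`.
-/

set_option autoImplicit false

namespace Cfsg.Agent.Lib.Helper50.PEBLOW

open Cfsg.Agent.Lib.Helper56.PEStmt Equiv Equiv.Perm

theorem main : Blow := by
  intro β γ ι c t c' t' M hM h1 h2 h3 h4 b
  have key : ∀ i : ℕ, i + 1 ≤ M → ((c * t) ^ (i + 1)) (ι b) = (c ^ (i + 1)) (ι (t' b)) := by
    intro i
    induction i with
    | zero =>
      intro _
      simp only [zero_add, pow_one, Perm.mul_apply, h2]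
    | succ i ih =>
      intro hi
      have h5 := ih (by omega)
      have h6 : (c ^ (i + 1)) (ι (t' b)) ∉ Set.range ι := h4 (t' b) (i + 1) (by omega) (by omega)
      rw [pow_succ' (c * t) (i + 1), Perm.mul_apply, h5, Perm.mul_apply, h3 _ h6,
        pow_succ' c (i + 1), Perm.mul_apply]
  obtain ⟨m, rfl⟩ : ∃ m, M = m + 1 := ⟨M - 1, by omega⟩
  rw [key m le_rfl, h1, Perm.mul_apply]

end Cfsg.Agent.Lib.Helper50.PEBLOW
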