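import Mathlib
import Cfsg.Agent.Lib.Helper56.PEStmt
import Cfsg.Agent.Lib.Helper50.PENSC

/-!
S2276 piece NS6: four explicit non-solvable subgroups of `Perm (Fin 6)`.
-/

set_option autoImplicit false

namespace Cfsg.Agent.Lib.Helper50.PENS6

open Cfsg.Agent.Lib.Helper56.PEStmt Equiv Equiv.Perm

/-- the certificate for a two-generator subgroup -/
theorem cert {α : Type} (f g x y z : Perm α)
    (hx : x ∈ Subgroup.closure ({f, g} : Set (Perm α)))
    (hy : y ∈ Subgroup.closure ({f, g} : Set (Perm α)))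
    (hz : z ∈ Subgroup.closure ({f, g} : Set (Perm α))) (hx1 : x ≠ 1)
    (key : x = z * (x * (y * x * y⁻¹) * x⁻¹ * (y * x * y⁻¹)⁻¹) * z⁻¹) :
    ¬ Group.IsSolvable ↥(Subgroup.closure ({f, g} : Set (Perm α))) :=
  Cfsg.Agent.Lib.Helper50.PENSC.main _ x y z hx hy hz hx1 key

theorem memf {α : Type} (f g : Perm α) : f ∈ Subgroup.closure ({f, g} : Set (Perm α)) :=
  Subgroup.subset_closure (Set.mem_insert _ _)

theorem memg {α : Type} (f g : Perm α) : g ∈ Subgroup.closure ({f, g} : Set (Perm α)) :=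
  Subgroup.subset_closure (Set.mem_insert_of_mem _ rfl)

set_option maxRecDepth 100000 in
theorem ns_a : ¬ Group.IsSolvable
    ↥(Subgroup.closure ({f6, swap 0 3 * swap 3 1} : Set (Perm (Fin 6)))) := by
  have hf := memf f6 (swap 0 3 * swap 3 1)
  have hg := memg f6 (swap 0 3 * swap 3 1)
  refine cert _ _ f6 (swap 0 3 * swap 3 1)⁻¹
    ((swap 0 3 * swap 3 1) * f6 * (swap 0 3 * swap 3 1)⁻¹) hf (inv_mem hg)
    (mul_mem (mul_mem hg hf) (inv_mem hg)) ?_ ?_
  · unfold f6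
    decide
  · unfold f6
    decide

set_option maxRecDepth 100000 in
theorem ns_a' : ¬ Group.IsSolvable
    ↥(Subgroup.closure ({f6, swap 1 3 * swap 3 0} : Set (Perm (Fin 6)))) := by
  have hf := memf f6 (swap 1 3 * swap 3 0)
  have hg := memg f6 (swap 1 3 * swap 3 0)
  refine cert _ _ f6 (swap 1 3 * swap 3 0)
    ((swap 1 3 * swap 3 0)⁻¹ * f6 * (swap 1 3 * swap 3 0)) hf hg
    (mul_mem (mul_mem (inv_mem hg) hf) hg) ?_ ?_
  · unfold f6
    decide
  · unfold f6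
    decide

set_option maxRecDepth 100000 in
theorem ns_b : ¬ Group.IsSolvable ↥(Subgroup.closure
    ({f6, swap 1 3 * swap 3 0 * (swap 2 5 * swap 5 4)} : Set (Perm (Fin 6)))) := by
  have hf := memf f6 (swap 1 3 * swap 3 0 * (swap 2 5 * swap 5 4))
  have hg := memg f6 (swap 1 3 * swap 3 0 * (swap 2 5 * swap 5 4))
  refine cert _ _ f6
    ((swap 1 3 * swap 3 0 * (swap 2 5 * swap 5 4)) * f6⁻¹ *
      (swap 1 3 * swap 3 0 * (swap 2 5 * swap 5 4)))
    (swap 1 3 * swap 3 0 * (swap 2 5 * swap 5 4)) hf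
    (mul_mem (mul_mem hg (inv_mem hf)) hg) hg ?_ ?_
  · unfold f6
    decide
  · unfold f6
    decide

set_option maxRecDepth 100000 in
theorem ns_c : ¬ Group.IsSolvable ↥(Subgroup.closure
    ({swap 0 1 * swap 2 3 * swap 1 2 * swap 3 4, swap 1 2 * swap 3 4 * swap 2 3 * swap 4 5} :
      Set (Perm (Fin 6)))) := by
  have hf := memf (swap (0 : Fin 6) 1 * swap 2 3 * swap 1 2 * swap 3 4)
    (swap 1 2 * swap 3 4 * swap 2 3 * swap 4 5)
  have hg := memg (swap (0 : Fin 6) 1 * swap 2 3 * swap 1 2 * swap 3 4)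
    (swap 1 2 * swap 3 4 * swap 2 3 * swap 4 5)
  refine cert _ _ (swap (0 : Fin 6) 1 * swap 2 3 * swap 1 2 * swap 3 4)
    (swap 1 2 * swap 3 4 * swap 2 3 * swap 4 5)
    ((swap (1 : Fin 6) 2 * swap 3 4 * swap 2 3 * swap 4 5)⁻¹ *
      (swap (1 : Fin 6) 2 * swap 3 4 * swap 2 3 * swap 4 5)⁻¹) hf hg
    (mul_mem (inv_mem hg) (inv_mem hg)) ?_ ?_
  · decide
  · decide

theorem main : NS6 := ⟨ns_a, ns_a', ns_b, ns_c⟩

end Cfsg.Agent.Lib.Helper50.PENS6
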