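import Mathlib
import Cfsg.Agent.Lib.Helper56.PEStmt
import Cfsg.Agent.Lib.Helper50.PENS6

/-!
S2276 pieces C5, C6A, C6B: explicit good pairs on `Fin 5` and `Fin 6`.
-/

set_option autoImplicit false

namespace Cfsg.Agent.Lib.Helper50.PEC5

open Cfsg.Agent.Lib.Helper56.PEStmt Equiv Equiv.Perm

/-- an element killed by an exponent prime to `p` is not a non-trivial `p`-element -/
theorem not_ppow {G : Type} [Group G] (p : ℕ) (h : G) (m : ℕ) (hm : Nat.Coprime p m)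
    (h1 : h ^ m = 1) (hne : h ≠ 1) : ¬ ∃ k : ℕ, orderOf h = p ^ k := by
  rintro ⟨k, hk⟩
  have h2 : orderOf h ∣ m := orderOf_dvd_of_pow_eq_one h1
  rw [hk] at h2
  have h3 : Nat.Coprime (p ^ k) m := Nat.Coprime.pow_left k hm
  have h4 : p ^ k = 1 := Nat.Coprime.eq_one_of_dvd h3 h2
  rw [h4] at hk
  exact hne (orderOf_eq_one_iff.1 hk)

set_option maxRecDepth 100000 in
theorem c5 : C5 := by
  refine ⟨not_ppow 3 _ 5 (by norm_num) (by decide) (by decide), ?_⟩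
  refine Cfsg.Agent.Lib.Helper50.PENS6.cert _ _ (swap (0 : Fin 5) 1 * swap 1 2)
    ((swap (2 : Fin 5) 3 * swap 3 4) * (swap (0 : Fin 5) 1 * swap 1 2)⁻¹ *
      (swap (2 : Fin 5) 3 * swap 3 4))
    (swap (2 : Fin 5) 3 * swap 3 4)
    (Cfsg.Agent.Lib.Helper50.PENS6.memf _ _)
    (mul_mem (mul_mem (Cfsg.Agent.Lib.Helper50.PENS6.memg _ _)
      (inv_mem (Cfsg.Agent.Lib.Helper50.PENS6.memf _ _)))
      (Cfsg.Agent.Lib.Helper50.PENS6.memg _ _))
    (Cfsg.Agent.Lib.Helper50.PENS6.memg _ _) ?_ ?_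
  · decide
  · decide

set_option maxRecDepth 100000 in
theorem c6a : C6A := by
  refine ⟨not_ppow 3 _ 4 (by norm_num) (by unfold f6; decide) (by unfold f6; decide), ?_⟩
  refine Cfsg.Agent.Lib.Helper50.PENS6.cert _ _ f6 (swap 0 1 * swap 1 3)
    ((swap 0 1 * swap 1 3)⁻¹ * f6 * (swap 0 1 * swap 1 3))
    (Cfsg.Agent.Lib.Helper50.PENS6.memf _ _)
    (Cfsg.Agent.Lib.Helper50.PENS6.memg _ _)
    (mul_mem (mul_mem (inv_mem (Cfsg.Agent.Lib.Helper50.PENS6.memg _ _))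
      (Cfsg.Agent.Lib.Helper50.PENS6.memf _ _))
      (Cfsg.Agent.Lib.Helper50.PENS6.memg _ _)) ?_ ?_
  · unfold f6
    decide
  · unfold f6
    decide

set_option maxRecDepth 100000 in
theorem c6b : C6B := by
  refine ⟨not_ppow 3 _ 5 (by norm_num) (by unfold f6; decide) (by unfold f6; decide), ?_⟩
  refine Cfsg.Agent.Lib.Helper50.PENS6.cert _ _ f6
    ((swap 0 1 * swap 1 3 * (swap 2 5 * swap 5 4)) * f6⁻¹ *
      (swap 0 1 * swap 1 3 * (swap 2 5 * swap 5 4)))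
    (swap 0 1 * swap 1 3 * (swap 2 5 * swap 5 4))
    (Cfsg.Agent.Lib.Helper50.PENS6.memf _ _)
    (mul_mem (mul_mem (Cfsg.Agent.Lib.Helper50.PENS6.memg _ _)
      (inv_mem (Cfsg.Agent.Lib.Helper50.PENS6.memf _ _)))
      (Cfsg.Agent.Lib.Helper50.PENS6.memg _ _))
    (Cfsg.Agent.Lib.Helper50.PENS6.memg _ _) ?_ ?_
  · unfold f6
    decide
  · unfold f6
    decide

theorem main : C5 := c5

end Cfsg.Agent.Lib.Helper50.PEC5
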