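import Mathlib
import Cfsg.Agent.Lib.Helper56.PEStmt
import Cfsg.Agent.Lib.Helper50.PEC5

/-!
S2276 piece C6A (proved in `PEC5`).
-/

set_option autoImplicit false

namespace Cfsg.Agent.Lib.Helper50.PEC6A

open Cfsg.Agent.Lib.Helper56.PEStmt

theorem main : C6A := Cfsg.Agent.Lib.Helper50.PEC5.c6a

end Cfsg.Agent.Lib.Helper50.PEC6A
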