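import Mathlib
import Cfsg.Agent.Lib.Helper56.PEStmt

/-!
S2276 piece CYC: the points of a full cycle.
-/

set_option autoImplicit false

namespace Cfsg.Agent.Lib.Helper50.PECYC

open Cfsg.Agent.Lib.Helper56.PEStmt Equiv Equiv.Perm

theorem main : CycPts := by
  intro β _ _ c hc hsupp
  have hord : orderOf c = Fintype.card β := by
    rw [hc.orderOf, hsupp, Finset.card_univ]
  have hmov : ∀ x : β, c x ≠ x := by
    intro x
    have : x ∈ c.support := by rw [hsupp]; exact Finset.mem_univ x
    exact Perm.mem_support.1 this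
  refine ⟨by rw [← hord]; exact pow_orderOf_eq_one c, ?_, ?_⟩
  · have key : ∀ (x : β) (i j : ℕ), i ≤ j → j < Fintype.card β → (c ^ i) x = (c ^ j) x →
        i = j := by
      intro x i j hij hj h
      have h1 : (c ^ (j - i)) x = x := by
        have h2 : (c ^ j) x = (c ^ (j - i)) ((c ^ i) x) := by
          rw [← Perm.mul_apply, ← pow_add, Nat.sub_add_cancel hij]
        rw [← h] at h2
        have h3 : (c ^ i) x = (c ^ i) ((c ^ (j - i)) x) := by
          rw [← Perm.mul_apply, ← pow_add, add_comm, pow_add, Perm.mul_apply]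
          exact h2
        exact ((c ^ i).injective h3).symm
      have h4 : c ^ (j - i) = 1 := (hc.pow_eq_one_iff' (hmov x)).2 h1
      have h5 : orderOf c ∣ j - i := orderOf_dvd_of_pow_eq_one h4
      rw [hord] at h5
      have h6 : j - i = 0 := Nat.eq_zero_of_dvd_of_lt h5 (by omega)
      omega
    intro x i j hi hj h
    rcases le_total i j with hij | hij
    · exact key x i j hij hj h
    · exact (key x j i hij hi h.symm).symm
  · intro x y
    obtain ⟨i, hi⟩ := hc.exists_pow_eq (hmov x) (hmov y)
    have hpos : 0 < Fintype.card β := Fintype.card_pos_iff.2 ⟨x⟩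
    refine ⟨i % Fintype.card β, Nat.mod_lt _ hpos, ?_⟩
    rw [← hord, pow_mod_orderOf]
    exact hi

end Cfsg.Agent.Lib.Helper50.PECYC
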