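import Mathlib
import Cfsg.Agent.Lib.Helper56.PEStmt

/-!
S2276 piece ORB: the cycle of `u` through `x₀` as a full cycle on the subtype of its support.
-/

set_option autoImplicit false

namespace Cfsg.Agent.Lib.Helper50.PEORB

open Cfsg.Agent.Lib.Helper56.PEStmt Equiv Equiv.Perm

theorem main : Orb := by
  intro α _ _ u x₀ hx₀
  have hmem : ∀ y, y ∈ (u.cycleOf x₀).support ↔ SameCycle u x₀ y :=
    fun y => mem_support_cycleOf_iff' hx₀
  have hinv : ∀ y, u y ∈ (u.cycleOf x₀).support ↔ y ∈ (u.cycleOf x₀).support := by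
    intro y
    rw [hmem, hmem, sameCycle_apply_right]
  have hx₀mem : x₀ ∈ (u.cycleOf x₀).support := (hmem x₀).2 (SameCycle.refl u x₀)
  have hmov : ∀ b : {y // y ∈ (u.cycleOf x₀).support}, (u.subtypePerm hinv) b ≠ b := by
    intro b hb
    have h1 : u b.1 = b.1 := congrArg Subtype.val hb
    have h2 : b.1 ∈ u.support := support_cycleOf_le u x₀ b.2
    exact (Perm.mem_support.1 h2) h1
  refine ⟨u.subtypePerm hinv, fun b => rfl, ?_, ?_⟩
  · refine ⟨⟨x₀, hx₀mem⟩, hmov _, ?_⟩
    intro y _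
    obtain ⟨i, hi⟩ := (hmem y.1).1 y.2
    refine ⟨i, ?_⟩
    apply Subtype.ext
    rw [subtypePerm_apply_zpow_of_mem hinv hx₀mem]
    exact hi
  · ext b
    simp only [Finset.mem_univ, iff_true, Perm.mem_support]
    exact hmov b

end Cfsg.Agent.Lib.Helper50.PEORB
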