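import Mathlib
import Cfsg.Agent.Lib.Helper56.PEStmt

/-!
S2276 piece RP: restriction along an injective equivariant map, non-`p`-elements lift.
-/

set_option autoImplicit false

namespace Cfsg.Agent.Lib.Helper50.PERP

open Cfsg.Agent.Lib.Helper56.PEStmt Equiv Equiv.Perm

theorem pow_apply_of_equivariant {α β : Type} (ι : β → α) (f : Perm β) (A : Perm α)
    (hA : ∀ b, A (ι b) = ι (f b)) (j : ℕ) (b : β) : (A ^ j) (ι b) = ι ((f ^ j) b) := by
  induction j generalizing b with
  | zero => simp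
  | succ j ih => rw [pow_succ, pow_succ, Perm.mul_apply, Perm.mul_apply, hA, ih]

theorem main : RP := by
  intro α β ι hι p hp f A hA hf hAk
  obtain ⟨k, hk⟩ := hAk
  apply hf
  have h1 : f ^ (orderOf A) = 1 := by
    ext b
    apply hι
    rw [← pow_apply_of_equivariant ι f A hA, pow_orderOf_eq_one]
    simp
  have h2 : orderOf f ∣ p ^ k := hk ▸ orderOf_dvd_of_pow_eq_one h1
  obtain ⟨j, -, hj⟩ := (Nat.dvd_prime_pow hp).1 h2
  exact ⟨j, hj⟩

end Cfsg.Agent.Lib.Helper50.PERP
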