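import Mathlib
import Cfsg.Agent.Lib.Helper98.PSpStmt
import Cfsg.Agent.Lib.Helper50.PSpAux

/-!
S3421 piece FAITH: the action on the Sylow `p`-subgroups is faithful (from TI, CP, NP, CARD).
-/

set_option autoImplicit false

namespace Cfsg.Agent.Lib.Helper50.PSpFAITH

open Cfsg.Agent.Lib.Helper98.PSpStmt Cfsg.Agent.Lib.Helper50.PSpAux

universe u

theorem main (hTI : TI.{u}) (hCP : CP.{u}) (hNP : NP.{u}) (hCardP : CardP.{u}) : Faith.{u} := by
  intro G _ p q m₁ m₂ h
  have hfin := h.fin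
  haveI : Fact p.Prime := ⟨h.pp⟩
  obtain ⟨P⟩ : Nonempty (Sylow p G) := inferInstance
  obtain ⟨hN, hnp⟩ := hNP G p q m₁ m₂ h
  have hq := h.q_ge
  have hP := hCardP G p q m₁ m₂ h P
  obtain ⟨P', hP'⟩ := exists_ne (by omega : 1 ≤ q) hnp P
  have hex : ∃ u ∈ (P : Subgroup G), u ≠ 1 := by
    by_contra hcon
    have hbot : (P : Subgroup G) = ⊥ := by
      rw [Subgroup.eq_bot_iff_forall]
      intro x hx
      by_contra hx1
      exact hcon ⟨x, hx, hx1⟩
    rw [hbot, Subgroup.card_bot] at hP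
    omega
  obtain ⟨u, hu, hu1⟩ := hex
  have key : ∀ g : G, (∀ S : Sylow p G, g • S = S) → g = 1 := by
    intro g hg
    have hginv : ∀ S : Sylow p G, g⁻¹ • S = S := fun S => by rw [inv_smul_eq_iff, hg]
    have hc : g * u * g⁻¹ * u⁻¹ ∈ (P : Subgroup G) :=
      mul_mem (conj_mem_of_smul_eq (hg P) hu) (inv_mem hu)
    have hcfix : (g * u * g⁻¹ * u⁻¹) • P' = P' := by
      rw [mul_smul, mul_smul, mul_smul, hginv, smul_inv_smul, hg]
    have hc1 := eq_one_of_smul_eq (hTI G p q m₁ m₂ h) hP' hc hcfix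
    have hcomm : Commute g u := by
      have h2 : g * u = u * g := by
        calc g * u = (g * u * g⁻¹ * u⁻¹) * (u * g) := by group
          _ = u * g := by rw [hc1, one_mul]
      exact h2
    have hgP : g ∈ (P : Subgroup G) := hCP G p q m₁ m₂ h P u g hu hu1 hcomm
    exact eq_one_of_smul_eq (hTI G p q m₁ m₂ h) hP' hgP (hg P')
  refine ⟨fun {g1 g2} hg => ?_⟩
  have h3 : g2⁻¹ * g1 = 1 := key _ (fun S => by rw [mul_smul, hg S, inv_smul_smul])
  exact (inv_mul_eq_one.1 h3).symm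

end Cfsg.Agent.Lib.Helper50.PSpFAITH
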