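import Mathlib
import Cfsg.Agent.Lib.Helper98.PSpStmt
import Cfsg.Agent.Lib.Helper50.PSpAux

/-!
S3421 piece REG: a Sylow `p`-subgroup is regular on the other Sylow `p`-subgroups
(from TI, NP, CARD).
-/

set_option autoImplicit false

namespace Cfsg.Agent.Lib.Helper50.PSpREG

open Cfsg.Agent.Lib.Helper98.PSpStmt Cfsg.Agent.Lib.Helper50.PSpAux

universe u

theorem main (hTI : TI.{u}) (hNP : NP.{u}) (hCardP : CardP.{u}) : Reg.{u} := by
  intro G _ p q m₁ m₂ h P P' P'' hP' hP''
  have hfin := h.fin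
  haveI : Fact p.Prime := ⟨h.pp⟩
  obtain ⟨hN, hnp⟩ := hNP G p q m₁ m₂ h
  have hPc := hCardP G p q m₁ m₂ h P
  classical
  let f : ↥(P : Subgroup G) → {S : Sylow p G // ¬ (S = P)} := fun u => ⟨(u : G) • P', by
    intro hh
    have h2 : (u : G) • P = P := smul_eq_of_mem u.2
    have hh2 : (u : G) • P' = (u : G) • P := hh.trans h2.symm
    exact hP' (smul_left_cancel _ hh2)⟩
  have hinj : Function.Injective f := by
    intro u v huv
    have h1 : (u : G) • P' = (v : G) • P' := congrArg Subtype.val huv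
    have h2 : ((v : G)⁻¹ * (u : G)) • P' = P' := by
      rw [mul_smul, h1, inv_smul_smul]
    have h3 := eq_one_of_smul_eq (hTI G p q m₁ m₂ h) hP' (mul_mem (inv_mem v.2) u.2) h2
    exact Subtype.ext (inv_mul_eq_one.1 h3).symm
  have hcard : Nat.card {S : Sylow p G // ¬ (S = P)} ≤ Nat.card ↥(P : Subgroup G) := by
    rw [hPc]
    have h4 : Nat.card {S : Sylow p G // ¬ (S = P)} = Nat.card (Sylow p G) - 1 := by
      haveI : Fintype (Sylow p G) := Fintype.ofFinite _
      rw [Nat.card_eq_fintype_card, Nat.card_eq_fintype_card, Fintype.card_subtype_compl,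
        Fintype.card_subtype_eq]
    rw [h4, hnp]
    omega
  have hbij := hinj.bijective_of_nat_card_le hcard
  obtain ⟨u, hu⟩ := hbij.2 ⟨P'', hP''⟩
  refine ⟨u, congrArg Subtype.val hu, ?_⟩
  intro v hv
  exact hinj (Subtype.ext (hv.trans (congrArg Subtype.val hu).symm))

end Cfsg.Agent.Lib.Helper50.PSpREG
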