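import Mathlib
import Cfsg.Agent.Lib.Helper98.PSpStmt
import Cfsg.Agent.Lib.Helper50.PSpAux

/-!
S3421 piece Z4: some non-identity element fixes two Sylow `p`-subgroups (from REG, NP, CARD).
-/

set_option autoImplicit false

namespace Cfsg.Agent.Lib.Helper50.PSpZ4

open Cfsg.Agent.Lib.Helper98.PSpStmt Cfsg.Agent.Lib.Helper50.PSpAux

universe u

theorem main (hReg : Reg.{u}) (hNP : NP.{u}) (hCardP : CardP.{u}) : Z4.{u} := by
  intro G _ p q m₁ m₂ h
  have hfin := h.fin
  haveI : Fact p.Prime := ⟨h.pp⟩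
  obtain ⟨P⟩ : Nonempty (Sylow p G) := inferInstance
  obtain ⟨hN, hnp⟩ := hNP G p q m₁ m₂ h
  have hq := h.q_ge
  have hP := hCardP G p q m₁ m₂ h P
  have hNP' := hN P
  have hex : ∃ n ∈ Subgroup.normalizer ((P : Subgroup G) : Set G), n ∉ (P : Subgroup G) := by
    by_contra hcon
    have hle : Subgroup.normalizer ((P : Subgroup G) : Set G) ≤ (P : Subgroup G) := by
      intro n hn
      by_contra hnP
      exact hcon ⟨n, hn, hnP⟩
    have hc := Subgroup.card_le_of_le hle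
    rw [hP] at hc
    have h1 : q * (q - 1) ≤ q * 2 := by
      rw [← hNP']
      exact Nat.mul_le_mul_right 2 hc
    have h2 := Nat.le_of_mul_le_mul_left h1 (by omega)
    omega
  obtain ⟨n, hn, hnP⟩ := hex
  obtain ⟨P', hP'⟩ := exists_ne (by omega : 1 ≤ q) hnp P
  have hnP1 : n • P = P := Sylow.smul_eq_iff_mem_normalizer.2 hn
  have hne : n • P' ≠ P := by
    intro hh
    have hh2 : n • P' = n • P := hh.trans hnP1.symm
    exact hP' (smul_left_cancel n hh2)
  obtain ⟨u, hu, -⟩ := hReg G p q m₁ m₂ h P (n • P') P' hne hP'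
  refine ⟨(u : G) * n, ?_, P, P', Ne.symm hP', ?_, ?_⟩
  · intro h1
    have h2 : n = (u : G)⁻¹ := eq_inv_of_mul_eq_one_right h1
    exact hnP (h2 ▸ inv_mem u.2)
  · rw [mul_smul, hnP1]
    exact smul_eq_of_mem u.2
  · rw [mul_smul]
    exact hu

end Cfsg.Agent.Lib.Helper50.PSpZ4
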