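import Mathlib
import Cfsg.Agent.Lib.Helper81.RMStmt
import Cfsg.Agent.Lib.Helper81.RMBridge
import Cfsg.Agent.Lib.Helper81.GlaubReal
import Cfsg.Agent.Lib.Helper81.RealF
import Cfsg.Agent.Lib.Helper80.Integrality
import Cfsg.Agent.Lib.CT.LinChar

/-!
# S4581 piece VAN

No real odd-degree irreducible character of `H` lies over an `H`-invariant real linear character
`τ` of `U` which does not extend to a real linear character of the Sylow `2`-subgroup `P`.
-/

set_option autoImplicit false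

namespace Cfsg.Agent.Lib.Helper50.RMVAN

open Cfsg
open Cfsg.Agent.Lib.Helper81.RMStmt Cfsg.Agent.Lib.Helper81.RMBridge Cfsg.Agent.Lib.Helper81.McKJ
  Cfsg.Agent.Lib.Helper81.Mult Cfsg.Agent.Lib.Helper81.GlaubReal Cfsg.Agent.Lib.Helper81.Cliff
  Cfsg.Agent.Lib.Helper81.Expand

universe u

/-- a real linear character is given by a homomorphism to `ℤˣ` -/
theorem exists_hom_of_real_linear {K : Type u} [Group K] (a : IrrCharacter K)
    (h1 : a.1 1 = 1) (hreal : irrConj a = a) : ∃ ν : K →* ℤˣ, tauIrr ν = a := by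
  have hch : IsCharacter K a.1 := irr_isCharacter a
  have hmul : ∀ g h, a.1 (g * h) = a.1 g * a.1 h :=
    Cfsg.Agent.Lib.CT.LinChar.linear_mul hch h1
  have hinv : ∀ g, a.1 g⁻¹ = a.1 g := fun g => congrFun (congrArg Subtype.val hreal) g
  have hsq : ∀ g, a.1 g * a.1 g = 1 := by
    intro g
    have := hmul g g⁻¹
    rw [mul_inv_cancel, h1, hinv] at this
    exact this.symm
  have hpm : ∀ g, a.1 g = 1 ∨ a.1 g = -1 := fun g => mul_self_eq_one_iff.mp (hsq g)
  classical
  let f : K → ℤˣ := fun g => if a.1 g = 1 then 1 else -1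
  have hf : ∀ g, (((f g : ℤˣ) : ℤ) : ℂ) = a.1 g := by
    intro g
    rcases hpm g with h | h
    · simp [f, h]
    · have hne : ¬ ((-1 : ℂ) = 1) := by norm_num
      simp [f, h, hne]
  have hfmul : ∀ g h, f (g * h) = f g * f h := by
    intro g h
    have h3 : (((f (g * h) : ℤˣ) : ℤ) : ℂ) = (((f g * f h : ℤˣ) : ℤ) : ℂ) := by
      rw [hf, hmul, ← hf g, ← hf h]
      push_cast
      rfl
    apply Units.ext
    exact_mod_cast h3
  refine ⟨MonoidHom.mk' f hfmul, ?_⟩
  apply Subtype.ext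
  funext g
  rw [tauIrr_apply]
  exact hf g

theorem main : VAN.{u} := by
  intro G _ _ U hUn P H hUH hPH hUP τ hinv hno
  refine ⟨fun ⟨χ, hreal, hodd, hover⟩ => hno ?_⟩
  classical
  let _ : Fintype ↥(P : Subgroup G) := Fintype.ofFinite _
  have : Finite (IrrCharacter ↥(P : Subgroup G)) := finite_irr
  let _ : Fintype (IrrCharacter ↥(P : Subgroup G)) := Fintype.ofFinite _
  let ι : ↥(P : Subgroup G) →* ↥H := Subgroup.inclusion hPH
  let Ψ : ↥(P : Subgroup G) → ℂ := fun c => χ.1 (ι c)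
  have hΨ : IsCharacter ↥(P : Subgroup G) Ψ :=
    Cfsg.Agent.Lib.CT.Ops.isCharacter_comp_hom ι (irr_isCharacter χ)
  have hχc : irrConj χ = χ := (real_iff_irrConj χ).mp hreal
  have hmσ : ∀ μ : IrrCharacter ↥(P : Subgroup G), mult Ψ (irrConj μ) = mult Ψ μ := by
    intro μ
    have h := mult_irrConj ι χ μ
    rw [hχc] at h
    exact h
  have hdσ : ∀ μ : IrrCharacter ↥(P : Subgroup G),
      charDegree (irrConj μ).1 = charDegree μ.1 := by
    intro μ
    unfold charDegree
    show ⌊(μ.1 (1 : ↥(P : Subgroup G))⁻¹).re⌋₊ = _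
    rw [inv_one]
  have hdeg : ∀ μ : IrrCharacter ↥(P : Subgroup G), μ.1 1 = (charDegree μ.1 : ℂ) := fun μ =>
    (Cfsg.Agent.Lib.CT.Wedderburn.char_natCast_charDegree (irr_isCharacter μ)).symm
  -- the degree sum
  have hsum : charDegree χ.1 =
      ∑ μ : IrrCharacter ↥(P : Subgroup G), mult Ψ μ * charDegree μ.1 := by
    have hexp := char_expand hΨ 1
    have h1 : Ψ 1 = (charDegree χ.1 : ℂ) := by
      show χ.1 (ι 1) = _
      rw [map_one]
      exact (Cfsg.Agent.Lib.CT.Wedderburn.char_natCast_charDegree (irr_isCharacter χ)).symm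
    rw [h1] at hexp
    simp only [hdeg] at hexp
    exact_mod_cast hexp
  -- parity: a real constituent of odd degree with odd multiplicity
  obtain ⟨a, haσ, haodd⟩ : ∃ a : IrrCharacter ↥(P : Subgroup G),
      irrConj a = a ∧ Odd (mult Ψ a * charDegree a.1) := by
    by_contra hcon
    have hz : ∑ μ : IrrCharacter ↥(P : Subgroup G),
        ((mult Ψ μ * charDegree μ.1 : ℕ) : ZMod 2) = 0 := by
      apply Finset.sum_involution (fun μ _ => irrConj μ)
      · intro μ _
        rw [hmσ, hdσ]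
        exact CharTwo.add_self_eq_zero _
      · intro μ _ hne hfix
        apply hcon
        refine ⟨μ, hfix, ?_⟩
        rw [← Nat.not_even_iff_odd, ← ZMod.natCast_eq_zero_iff_even]
        exact hne
      · intro μ _
        exact Finset.mem_univ _
      · intro μ _
        exact Cfsg.Agent.Lib.Helper81.RealF.irrConj_irrConj μ
    have h0 : ((charDegree χ.1 : ℕ) : ZMod 2) = 0 := by
      rw [hsum]
      push_cast
      push_cast at hz
      exact hz
    rw [ZMod.natCast_eq_zero_iff_even] at h0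
    exact (Nat.not_even_iff_odd.mpr hodd) h0
  have hm : mult Ψ a ≠ 0 := by
    rintro h0
    rw [h0, zero_mul] at haodd
    exact (Nat.not_odd_iff_even.mpr (Even.zero)) haodd
  have hdodd : Odd (charDegree a.1) := (Nat.odd_mul.mp haodd).2
  have hd1 : charDegree a.1 = 1 := by
    have hdvd := Cfsg.Agent.Lib.Helper80.Integrality.charDegree_dvd_card a
    obtain ⟨k, hk⟩ := P.isPGroup'.exists_card_eq
    rw [hk] at hdvd
    obtain ⟨j, -, hj⟩ := (Nat.dvd_prime_pow Nat.prime_two).mp hdvd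
    rw [hj] at hdodd ⊢
    cases j with
    | zero => rfl
    | succ j =>
      exfalso
      rw [pow_succ] at hdodd
      exact (Nat.not_odd_iff_even.mpr (even_two.mul_left _)) hdodd
  have ha1 : a.1 1 = 1 := by
    rw [hdeg a, hd1]
    simp
  obtain ⟨ν, hν⟩ := exists_hom_of_real_linear a ha1 haσ
  -- `χ` lies over `a`, `a` lies over `ν|U`
  have hov1 : Ov hPH χ a := (ov_iff hPH χ a).mpr hm
  let τ' : ↥U →* ℤˣ := ν.comp (Subgroup.inclusion hUP)
  have hov2 : Ov hUP a (tauIrr τ') := by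
    unfold Ov
    have hterm : ∀ y : ↥U, a.1 (Subgroup.inclusion hUP y) *
        (starRingEnd ℂ) ((tauIrr τ').1 y) = 1 := by
      intro y
      rw [tauIrr_conj, ← hν, tauIrr_apply, tauIrr_apply]
      show (((ν (Subgroup.inclusion hUP y) : ℤˣ) : ℤ) : ℂ) *
        (((ν (Subgroup.inclusion hUP y) : ℤˣ) : ℤ) : ℂ) = 1
      have h : ((ν (Subgroup.inclusion hUP y) : ℤˣ) : ℤ) *
          ((ν (Subgroup.inclusion hUP y) : ℤˣ) : ℤ) = 1 := Int.units_coe_mul_self _
      exact_mod_cast h
    simp only [hterm]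
    let _ : Fintype ↥U := Fintype.ofFinite _
    rw [finsum_eq_sum_of_fintype]
    simp
  have hov3 : Ov (hUP.trans hPH) χ (tauIrr τ') := ov_trans hPH hUP χ a (tauIrr τ') hov1 hov2
  have hov4 : Ov hUH χ (tauIrr τ) := (over_iff_ov U H hUH τ χ).mp hover
  have hn : ∀ g ∈ H, ∀ y ∈ U, g * y * g⁻¹ ∈ U := fun g _ y hy => hUn.conj_mem y hy g
  obtain ⟨g, hgH, hg⟩ := ov_orbit hUH hn χ (tauIrr τ) (tauIrr τ') hov4 hov3
  have hc1 : ConjRel U g τ τ' := (conjRel_iff_isConjCharOf U g τ τ').mpr hg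
  have hc2 : ConjRel U g τ τ := hinv g hgH
  have hττ : τ' = τ := by
    ext u
    have hu : (⟨g * ((⟨g⁻¹ * (u : G) * g, by
        have := hUn.conj_mem (u : G) u.2 g⁻¹
        simpa using this⟩ : ↥U) : G) * g⁻¹, hUn.conj_mem _ (by
        have := hUn.conj_mem (u : G) u.2 g⁻¹
        simpa using this) g⟩ : ↥U) = u := by
      apply Subtype.ext
      simp [mul_assoc]
    have e1 := hc1 ⟨g⁻¹ * (u : G) * g, by
        have := hUn.conj_mem (u : G) u.2 g⁻¹
        simpa using this⟩
    have e2 := hc2 ⟨g⁻¹ * (u : G) * g, by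
        have := hUn.conj_mem (u : G) u.2 g⁻¹
        simpa using this⟩
    rw [hu] at e1 e2
    rw [e1, e2]
  refine ⟨ν, fun u => ?_⟩
  have : τ' u = τ u := by rw [hττ]
  exact this

end Cfsg.Agent.Lib.Helper50.RMVAN

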