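import Cfsg.Agent.Lib.Helper56.TPStmt

set_option autoImplicit false

namespace Cfsg.Agent.Lib.Helper50.TPFPF

universe u v

theorem main : Cfsg.Agent.Lib.Helper56.TPStmt.Fpf.{u, v} := by
  intro G Ω _ _ P K S htrans hK hKmem hPS g hgP hgK hcomm a haS hga
  apply hgK
  apply hKmem g hgP
  intro s hs
  obtain ⟨t, ht, rfl⟩ := htrans a haS s hs
  have h1 : g * t * g⁻¹ * t⁻¹ ∈ K := hcomm t ht
  have h2 : (g * t * g⁻¹ * t⁻¹) • (t • a) = t • a := hK _ h1 _ hs
  have h3 : (g * t * g⁻¹ * t⁻¹) • (t • a) = g • (t • a) := by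
    have hga' : g⁻¹ • a = a := by
      rw [inv_smul_eq_iff, hga]
    calc (g * t * g⁻¹ * t⁻¹) • (t • a) = g • t • g⁻¹ • t⁻¹ • t • a := by
          simp only [mul_smul]
      _ = g • t • g⁻¹ • a := by rw [inv_smul_smul]
      _ = g • (t • a) := by rw [hga']
  rw [← h3, h2]

end Cfsg.Agent.Lib.Helper50.TPFPF

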