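import Cfsg.Agent.Lib.Helper56.TPStmt

set_option autoImplicit false

namespace Cfsg.Agent.Lib.Helper50.TPLMEM

universe u v

/-- the subgroup of elements of `P` moving `b` inside its `K`-orbit. -/
def orbSub {G : Type u} {Ω : Type v} [Group G] [MulAction G Ω] (P K : Subgroup G) (b : Ω)
    (hKn : ∀ h ∈ P, ∀ κ ∈ K, h * κ * h⁻¹ ∈ K) : Subgroup G where
  carrier := {x | x ∈ P ∧ ∃ κ ∈ K, x • b = κ • b}
  one_mem' := ⟨P.one_mem, 1, K.one_mem, rfl⟩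
  mul_mem' := by
    rintro x y ⟨hx, κ₁, hκ₁, h1⟩ ⟨hy, κ₂, hκ₂, h2⟩
    refine ⟨P.mul_mem hx hy, (x * κ₂ * x⁻¹) * κ₁, K.mul_mem (hKn x hx κ₂ hκ₂) hκ₁, ?_⟩
    rw [mul_smul, h2, mul_smul, ← h1]
    simp only [mul_smul, inv_smul_smul]
  inv_mem' := by
    rintro x ⟨hx, κ, hκ, h1⟩
    refine ⟨P.inv_mem hx, x⁻¹ * κ⁻¹ * x⁻¹⁻¹, hKn x⁻¹ (P.inv_mem hx) κ⁻¹ (K.inv_mem hκ), ?_⟩
    rw [inv_inv, mul_smul, mul_smul, h1, inv_smul_smul]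

theorem main : Cfsg.Agent.Lib.Helper56.TPStmt.LMem.{u, v} := by
  intro G Ω _ _ P K b hKP hKn hLn g hg t ht
  have hle : (MulAction.stabilizer G b ⊓ P) ⊔ K ≤ orbSub P K b hKn := by
    apply sup_le
    · intro x hx
      exact ⟨hx.2, 1, K.one_mem, by rw [one_smul]; exact hx.1⟩
    · intro x hx
      exact ⟨hKP hx, x, hx, rfl⟩
  have h1 : t⁻¹ * g * t⁻¹⁻¹ ∈ (MulAction.stabilizer G b ⊓ P) ⊔ K :=
    hLn t⁻¹ (P.inv_mem ht) g hg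
  obtain ⟨-, κ, hκ, h2⟩ := hle h1
  refine ⟨t * κ * t⁻¹, hKn t ht κ hκ, ?_⟩
  rw [inv_inv] at h2
  have h3 : g • (t • b) = t • ((t⁻¹ * g * t) • b) := by
    simp only [mul_smul, smul_inv_smul]
  rw [h3, h2]
  simp only [mul_smul, inv_smul_smul]

end Cfsg.Agent.Lib.Helper50.TPLMEM

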