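import Cfsg.Agent.Lib.Helper56.TPStmt

set_option autoImplicit false

namespace Cfsg.Agent.Lib.Helper50.TPORDP

universe u v

theorem main : Cfsg.Agent.Lib.Helper56.TPStmt.OrdP.{u, v} := by
  intro G Ω _ _ _ p _ S K g z h hK hgp hzp hgS hzS hhS hhC hmove
  have key1 : ∀ j : ℕ, ∀ a ∈ S, h ^ j • a = g ^ j • a ∧ g ^ j • a ∈ S := by
    intro j
    induction j with
    | zero => intro a ha; simp [ha]
    | succ n ih =>
      intro a ha
      obtain ⟨h1, h2⟩ := ih a ha
      refine ⟨?_, ?_⟩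
      · rw [pow_succ', mul_smul, h1, hhS _ h2, pow_succ', mul_smul]
      · rw [pow_succ', mul_smul]; exact hgS _ h2
  have key2 : ∀ j : ℕ, ∀ b, b ∉ S → h ^ j • b = z ^ j • b ∧ z ^ j • b ∉ S := by
    intro j
    induction j with
    | zero => intro a ha; simp [ha]
    | succ n ih =>
      intro a ha
      obtain ⟨h1, h2⟩ := ih a ha
      refine ⟨?_, ?_⟩
      · rw [pow_succ', mul_smul, h1, hhC _ h2, pow_succ', mul_smul]
      · rw [pow_succ', mul_smul]; exact hzS _ h2
  have hp1 : h ^ p = 1 := by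
    apply FaithfulSMul.eq_of_smul_eq_smul (α := Ω)
    intro ω
    rw [one_smul]
    by_cases hω : ω ∈ S
    · rw [(key1 p ω hω).1]
      exact hK _ hgp _ hω
    · rw [(key2 p ω hω).1, hzp, one_smul]
  have hne : h ≠ 1 := by
    rintro rfl
    obtain ⟨ω, hω⟩ := hmove
    exact hω (one_smul _ _)
  exact orderOf_eq_prime hp1 hne

end Cfsg.Agent.Lib.Helper50.TPORDP

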