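import Cfsg.Agent.Lib.Helper56.TPStmt
import Cfsg.Agent.Lib.Helper53.PGroupBasics

set_option autoImplicit false

namespace Cfsg.Agent.Lib.Helper50.TPRELCENT

universe u v

theorem exists_pow_p_eq_one {Q : Type u} [Group Q] (p : ℕ) (M : Subgroup Q) :
    ∀ k : ℕ, ∀ z ∈ M, z ^ (p ^ k) = 1 → z ≠ 1 → ∃ w ∈ M, w ≠ 1 ∧ w ^ p = 1 := by
  intro k
  induction k with
  | zero =>
    intro z _ hz hz1
    rw [pow_zero, pow_one] at hz
    exact absurd hz hz1
  | succ n ih =>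
    intro z hzM hz hz1
    by_cases hzp : z ^ p = 1
    · exact ⟨z, hzM, hz1, hzp⟩
    · apply ih (z ^ p) (M.pow_mem hzM p) _ hzp
      rw [← pow_mul, ← pow_succ']
      exact hz

theorem main : Cfsg.Agent.Lib.Helper56.TPStmt.RelCent.{u} := by
  intro H _ _ p _ hH K L hK hL hKL
  haveI := hK
  haveI := hL
  have hQ : IsPGroup p (H ⧸ K) := hH.to_quotient K
  have hsurj : Function.Surjective (QuotientGroup.mk' K) := QuotientGroup.mk'_surjective K
  haveI hNn : (L.map (QuotientGroup.mk' K)).Normal := hL.map _ hsurj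
  have hNne : L.map (QuotientGroup.mk' K) ≠ ⊥ := by
    intro hbot
    obtain ⟨l, hlL, hlK⟩ := Set.exists_of_ssubset hKL
    have : QuotientGroup.mk' K l ∈ L.map (QuotientGroup.mk' K) := Subgroup.mem_map_of_mem _ hlL
    rw [hbot, Subgroup.mem_bot] at this
    exact hlK ((QuotientGroup.eq_one_iff l).mp this)
  obtain ⟨z, hzN, hz1, hzc⟩ :=
    Cfsg.Agent.Lib.Helper53.PGroupBasics.exists_center_mem_normal hQ _ hNne
  obtain ⟨k, hk⟩ := hQ z
  obtain ⟨w, hwM, hw1, hwp⟩ := exists_pow_p_eq_one p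
    (L.map (QuotientGroup.mk' K) ⊓ Subgroup.center (H ⧸ K)) k z ⟨hzN, hzc⟩ hk hz1
  obtain ⟨g, hgL, hgw⟩ := hwM.1
  have hwc : w ∈ Subgroup.center (H ⧸ K) := hwM.2
  refine ⟨g, hgL, ?_, ?_, ?_⟩
  · intro hgK
    apply hw1
    rw [← hgw]
    exact (QuotientGroup.eq_one_iff g).mpr hgK
  · rw [← QuotientGroup.eq_one_iff, QuotientGroup.mk_pow]
    have : (g : H ⧸ K) = w := hgw
    rw [this, hwp]
  · intro h
    rw [← QuotientGroup.eq_one_iff]
    have hg' : (g : H ⧸ K) = w := hgw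
    rw [QuotientGroup.mk_mul, QuotientGroup.mk_mul, QuotientGroup.mk_mul, QuotientGroup.mk_inv,
      QuotientGroup.mk_inv, hg']
    have hcomm := (Subgroup.mem_center_iff.mp hwc) (h : H ⧸ K)
    rw [← hcomm]
    group

end Cfsg.Agent.Lib.Helper50.TPRELCENT

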